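/-
Subgroups of SL₂ over a commutative ring generated by scalar multiples of an upper and a lower unipotent element:
lifting fullness along surjections with small kernel.
-/
import Mathlib

set_option autoImplicit false
set_option linter.unusedSectionVars false

namespace Cfsg.Agent.Lead.QP

open Matrix

variable {k : Type*} [Field k] {R : Type*} [CommRing R] [Algebra k R]

local notation "SL" => Matrix.SpecialLinearGroup (Fin 2)
local notation:max "↟" g:max => ((g : Matrix.SpecialLinearGroup (Fin 2) R) : Matrix (Fin 2) (Fin 2) R)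

/-- The upper unipotent element. -/
def uM (r : R) : SL R := ⟨!![1, r; 0, 1], by simp [Matrix.det_fin_two]⟩

/-- The lower unipotent element. -/
def lM (r : R) : SL R := ⟨!![1, 0; r, 1], by simp [Matrix.det_fin_two]⟩

theorem uM_val (r : R) : (uM r : Matrix (Fin 2) (Fin 2) R) = !![1, r; 0, 1] := rfl
theorem lM_val (r : R) : (lM r : Matrix (Fin 2) (Fin 2) R) = !![1, 0; r, 1] := rfl

theorem uM_add (r s : R) : uM (r + s) = uM r * uM s := by
  ext i j
  simp only [Matrix.SpecialLinearGroup.coe_mul]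
  fin_cases i <;> fin_cases j <;> simp [uM_val, Matrix.mul_apply, Fin.sum_univ_two, add_comm]

theorem lM_add (r s : R) : lM (r + s) = lM r * lM s := by
  ext i j
  simp only [Matrix.SpecialLinearGroup.coe_mul]
  fin_cases i <;> fin_cases j <;> simp [lM_val, Matrix.mul_apply, Fin.sum_univ_two]

theorem uM_zero : uM (0 : R) = 1 := by ext i j; fin_cases i <;> fin_cases j <;> simp [uM_val]
theorem lM_zero : lM (0 : R) = 1 := by ext i j; fin_cases i <;> fin_cases j <;> simp [lM_val]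

theorem uM_neg (r : R) : uM (-r) = (uM r)⁻¹ :=
  eq_inv_of_mul_eq_one_left (by rw [← uM_add, neg_add_cancel, uM_zero])

theorem lM_neg (r : R) : lM (-r) = (lM r)⁻¹ :=
  eq_inv_of_mul_eq_one_left (by rw [← lM_add, neg_add_cancel, lM_zero])

theorem inv_val (g : SL R) : ↟(g⁻¹) = !![↟g 1 1, -↟g 0 1; -↟g 1 0, ↟g 0 0] := by
  simp only [Matrix.SpecialLinearGroup.coe_inv, Matrix.adjugate_fin_two]

theorem det_eq (g : SL R) : ↟g 0 0 * ↟g 1 1 - ↟g 0 1 * ↟g 1 0 = 1 := by
  rw [← Matrix.det_fin_two]; exact g.2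

variable (k) in
/-- The subgroup generated by the scalar multiples. -/
def Gam (τ : R) : Subgroup (SL R) :=
  Subgroup.closure ({g | ∃ c : k, g = uM (algebraMap k R c)} ∪ {g | ∃ c : k, g = lM (algebraMap k R c * τ)})

theorem Gam_map {R' : Type*} [CommRing R'] [Algebra k R'] (φ : R →ₐ[k] R') (τ : R) :
    (Gam k τ).map (Matrix.SpecialLinearGroup.map φ.toRingHom) = Gam k (φ τ) := by
  rw [Gam, MonoidHom.map_closure, Gam, Set.image_union]
  have hu : ∀ r : R, Matrix.SpecialLinearGroup.map φ.toRingHom (uM r) = uM (φ r) := fun r => by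
    ext i j
    fin_cases i <;> fin_cases j <;> simp [uM_val]
  have hl : ∀ r : R, Matrix.SpecialLinearGroup.map φ.toRingHom (lM r) = lM (φ r) := fun r => by
    ext i j
    fin_cases i <;> fin_cases j <;> simp [lM_val]
  congr 2
  · ext g
    constructor
    · rintro ⟨_, ⟨c, rfl⟩, rfl⟩
      exact ⟨c, by rw [hu, φ.commutes]⟩
    · rintro ⟨c, rfl⟩
      exact ⟨_, ⟨c, rfl⟩, by rw [hu, φ.commutes]⟩
  · ext g
    constructor
    · rintro ⟨_, ⟨c, rfl⟩, rfl⟩
      exact ⟨c, by rw [hl, map_mul, φ.commutes]⟩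
    · rintro ⟨c, rfl⟩
      exact ⟨_, ⟨c, rfl⟩, by rw [hl, map_mul, φ.commutes]⟩

variable (k) in
/-- All unipotent elements of both kinds belong to the subgroup. -/
def IsFull (τ : R) : Prop := ∀ r : R, uM r ∈ Gam k τ ∧ lM r ∈ Gam k τ

theorem uM_mem (τ : R) (c : k) : uM (algebraMap k R c) ∈ Gam k τ :=
  Subgroup.subset_closure (Or.inl ⟨c, rfl⟩)

theorem lM_mem (τ : R) (c : k) : lM (algebraMap k R c * τ) ∈ Gam k τ :=
  Subgroup.subset_closure (Or.inr ⟨c, rfl⟩)

/-- The antidiagonal element. -/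
def nM (θ s : R) (h : θ * s = -1) : SL R := ⟨!![0, θ; s, 0], by simp [Matrix.det_fin_two, h]⟩

theorem nM_val (θ s : R) (h : θ * s = -1) : ↟(nM θ s h) = !![0, θ; s, 0] := rfl

theorem nM_conj_u (θ s r : R) (h : θ * s = -1) : nM θ s h * uM r * (nM θ s h)⁻¹ = lM (-(r * (s * s))) := by
  ext i j
  simp only [Matrix.SpecialLinearGroup.coe_mul, inv_val]
  fin_cases i <;> fin_cases j <;> simp [nM_val, uM_val, lM_val, Matrix.mul_apply, Fin.sum_univ_two]
  · linear_combination -h
  · ring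
  · linear_combination -h

theorem nM_conj_l (θ s r : R) (h : θ * s = -1) : nM θ s h * lM r * (nM θ s h)⁻¹ = uM (-(r * (θ * θ))) := by
  ext i j
  simp only [Matrix.SpecialLinearGroup.coe_mul, inv_val]
  fin_cases i <;> fin_cases j <;> simp [nM_val, uM_val, lM_val, Matrix.mul_apply, Fin.sum_univ_two]
  · linear_combination -h
  · ring
  · linear_combination -h

theorem nM_inv (θ s : R) (h : θ * s = -1) : (nM θ s h)⁻¹ = nM (-θ) (-s) (by rw [neg_mul_neg, h]) := by
  ext i j
  simp only [inv_val]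
  fin_cases i <;> fin_cases j <;> simp [nM_val]

/-- Two antidiagonal elements give fullness. -/
theorem full_of_antidiag {τ : R} (hgen : Algebra.adjoin k ({τ} : Set R) = ⊤) {θ₁ θ₂ : R} (h₁ : θ₁ * τ = -1)
    (h₂ : θ₂ * (τ * τ) = -1) (hn₁ : nM θ₁ τ h₁ ∈ Gam k τ)
    (hn₂ : lM (τ * τ) ∈ Gam k τ → nM θ₂ (τ * τ) h₂ ∈ Gam k τ) : IsFull k τ := by
  set A := algebraMap k R with hA
  have conj : ∀ {g x : SL R}, g ∈ Gam k τ → x ∈ Gam k τ → g * x * g⁻¹ ∈ Gam k τ := fun hg hx =>
    mul_mem (mul_mem hg hx) (inv_mem hg)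
  have hl2 : ∀ c : k, lM (A c * (τ * τ)) ∈ Gam k τ := by
    intro c
    have := conj hn₁ (uM_mem τ (-c))
    rw [nM_conj_u, map_neg, neg_mul, neg_neg] at this
    exact this
  have hθ : θ₂ = -(θ₁ * θ₁) := by
    calc θ₂ = θ₂ * ((θ₁ * τ) * (θ₁ * τ)) := by rw [h₁]; ring
      _ = θ₂ * (τ * τ) * (θ₁ * θ₁) := by ring
      _ = _ := by rw [h₂]; ring
  have hn2 := hn₂ (by simpa [hA] using hl2 1)
  have hu2 : ∀ (j : ℕ) (c : k), uM (A c * τ ^ (2 * j)) ∈ Gam k τ ∧ uM (A c * θ₁ * τ ^ (2 * j)) ∈ Gam k τ := by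
    intro j
    induction j with
    | zero =>
      intro c
      refine ⟨by simpa using uM_mem τ c, ?_⟩
      have := conj hn₁ (lM_mem τ c)
      rw [nM_conj_l] at this
      have e : -(A c * τ * (θ₁ * θ₁)) = A c * θ₁ * τ ^ (2 * 0) := by
        linear_combination (-(A c * θ₁)) * h₁
      rwa [e] at this
    | succ j ih =>
      have step : ∀ r : R, uM r ∈ Gam k τ → uM (r * (τ * τ)) ∈ Gam k τ := by
        intro r hr
        have h1 := conj (inv_mem hn2) hr
        rw [nM_inv, nM_conj_u] at h1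
        have h2 := conj hn₁ h1
        rw [nM_conj_l] at h2
        have e : -(-(r * (-(τ * τ) * -(τ * τ))) * (θ₁ * θ₁)) = r * (τ * τ) := by
          linear_combination (r * (τ * τ) * (θ₁ * τ - 1)) * h₁
        rwa [e] at h2
      intro c
      refine ⟨?_, ?_⟩
      · have := step _ (ih c).1
        rwa [mul_assoc, show τ ^ (2 * j) * (τ * τ) = τ ^ (2 * (j + 1)) by ring] at this
      · have := step _ (ih c).2
        rwa [mul_assoc, show τ ^ (2 * j) * (τ * τ) = τ ^ (2 * (j + 1)) by ring] at this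
  have hupow : ∀ (i : ℕ) (c : k), uM (A c * τ ^ i) ∈ Gam k τ := by
    intro i c
    obtain ⟨j, rfl | rfl⟩ := Nat.even_or_odd' i
    · exact (hu2 j c).1
    · have := (hu2 (j + 1) (-c)).2
      have e : A (-c) * θ₁ * τ ^ (2 * (j + 1)) = A c * τ ^ (2 * j + 1) := by
        rw [map_neg]
        linear_combination (-(A c * τ ^ (2 * j + 1))) * h₁
      rwa [e] at this
  have hall : ∀ r : R, uM r ∈ Gam k τ := by
    intro r
    have hr : r ∈ Algebra.adjoin k ({τ} : Set R) := hgen ▸ Algebra.mem_top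
    rw [Algebra.adjoin_singleton_eq_range_aeval] at hr
    obtain ⟨f, rfl⟩ := hr
    change uM (Polynomial.aeval τ f) ∈ _
    induction f using Polynomial.induction_on' with
    | add f g hf hg => rw [map_add, uM_add]; exact mul_mem hf hg
    | monomial i c => rw [Polynomial.aeval_monomial]; exact hupow i c
  refine fun r => ⟨hall r, ?_⟩
  have := conj hn₁ (hall (-(r * (θ₁ * θ₁))))
  rw [nM_conj_u] at this
  have e : -(-(r * (θ₁ * θ₁)) * (τ * τ)) = r := by
    linear_combination (r * (θ₁ * τ - 1)) * h₁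
  rwa [e] at this

end Cfsg.Agent.Lead.QP
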