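/-
Fullness lifts along a surjection whose kernel is a small ideal.
-/
import Cfsg.Agent.Lib.Lead.QP.SL2Ring

set_option autoImplicit false
set_option linter.unusedSectionVars false

namespace Cfsg.Agent.Lead.QP

open Matrix

variable {k : Type*} [Field k] {R : Type*} [CommRing R] [Algebra k R]
  {R' : Type*} [CommRing R'] [Algebra k R'] (φ : R →ₐ[k] R') {τ : R}

local notation "SL" => Matrix.SpecialLinearGroup (Fin 2)
local notation:max "↟" g:max => ((g : Matrix.SpecialLinearGroup (Fin 2) R) : Matrix (Fin 2) (Fin 2) R)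

theorem map_uM {R'' : Type*} [CommRing R''] (f : R →+* R'') (r : R) :
    Matrix.SpecialLinearGroup.map f (uM r) = uM (f r) := by
  ext i j; fin_cases i <;> fin_cases j <;> simp [uM_val]

theorem map_lM {R'' : Type*} [CommRing R''] (f : R →+* R'') (r : R) :
    Matrix.SpecialLinearGroup.map f (lM r) = lM (f r) := by
  ext i j; fin_cases i <;> fin_cases j <;> simp [lM_val]

/-- Reduction of matrices along the algebra map. -/
abbrev red : SL R →* SL R' := Matrix.SpecialLinearGroup.map φ.toRingHom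

theorem exists_lift_u (hF : IsFull k (φ τ)) (r : R') : ∃ z ∈ Gam k τ, red φ z = uM r := by
  have := (hF r).1
  rw [← Gam_map φ τ] at this
  exact this

theorem exists_lift_l (hF : IsFull k (φ τ)) (r : R') : ∃ z ∈ Gam k τ, red φ z = lM r := by
  have := (hF r).2
  rw [← Gam_map φ τ] at this
  exact this

theorem red_eq_iff {g h : SL R} : red φ g = red φ h ↔ ∀ i j, φ (↟g i j - ↟h i j) = 0 := by
  constructor
  · intro e i j
    have := congrArg (fun x : SL R' => (x : Matrix (Fin 2) (Fin 2) R') i j) e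
    simpa [sub_eq_zero] using this
  · intro e
    ext i j
    simpa [sub_eq_zero] using e i j

theorem mem_ker_iff {g : SL R} : g ∈ (red φ).ker ↔
    φ (↟g 0 0 - 1) = 0 ∧ φ (↟g 0 1) = 0 ∧ φ (↟g 1 0) = 0 ∧ φ (↟g 1 1 - 1) = 0 := by
  rw [MonoidHom.mem_ker, ← map_one (red φ), red_eq_iff]
  constructor
  · intro e
    exact ⟨by simpa using e 0 0, by simpa using e 0 1, by simpa using e 1 0, by simpa using e 1 1⟩
  · rintro ⟨a, b, c, d⟩ i j
    fin_cases i <;> fin_cases j <;> simp_all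

theorem scalar_mul_eq {z x y : SL R} (hz : ∃ c : R, ↟z = c • (1 : Matrix (Fin 2) (Fin 2) R))
    (h2 : IsUnit (2 : R)) (htr : ↟x 0 0 + ↟x 1 1 = 2) (g : SL R) (e : g * x * g⁻¹ = z * y)
    (htr' : ↟y 0 0 + ↟y 1 1 = 2) : z = 1 := by
  obtain ⟨c, hc⟩ := hz
  have h1 : ↟(g * x * g⁻¹) 0 0 + ↟(g * x * g⁻¹) 1 1 = ↟(z * y) 0 0 + ↟(z * y) 1 1 := by rw [e]
  simp only [Matrix.SpecialLinearGroup.coe_mul, inv_val, hc] at h1
  simp [Matrix.mul_apply, Fin.sum_univ_two] at h1
  have hd := det_eq g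
  have h3 : (2 : R) * c = 2 := by linear_combination -h1 + (↟x 0 0 + ↟x 1 1) * hd + htr - c * htr'
  have hc1 : c = 1 := by
    rw [← mul_one (2 : R), mul_assoc, one_mul] at h3
    exact h2.mul_left_cancel h3
  ext i j
  simp [hc, hc1]

theorem commute_of_scalar {g x : SL R} (hz : ∃ c : R, ↟(g * x * g⁻¹ * x⁻¹) = c • (1 : Matrix (Fin 2) (Fin 2) R))
    (h2 : IsUnit (2 : R)) (htr : ↟x 0 0 + ↟x 1 1 = 2) : g * x = x * g := by
  have := scalar_mul_eq hz h2 htr g (y := x) (by group) htr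
  rw [mul_inv_eq_one, mul_inv_eq_iff_eq_mul] at this
  exact this

theorem centralizer_uM {g : SL R} (h : g * uM 1 = uM 1 * g) : ↟g 1 0 = 0 ∧ ↟g 0 0 = ↟g 1 1 := by
  have e : ∀ i j, ↟(g * uM 1) i j = ↟(uM 1 * g) i j := fun i j => by rw [h]
  have e0 := e 0 0
  have e1 := e 0 1
  simp [Matrix.mul_apply, Fin.sum_univ_two, uM_val] at e0 e1
  exact ⟨e0, by linear_combination e1⟩

/-- The antidiagonal element of a unit lifts exactly when the kernel meets the subgroup in scalars. -/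
theorem exists_nM (h2 : IsUnit (2 : R)) (hF : IsFull k (φ τ))
    (hN : ∀ z ∈ Gam k τ, red φ z = 1 → ∃ c : R, ↟z = c • (1 : Matrix (Fin 2) (Fin 2) R))
    {s θ' : R} (hθ' : θ' * s = -1) (hs : lM s ∈ Gam k τ) : nM θ' s hθ' ∈ Gam k τ := by
  obtain ⟨g, hg, hgr⟩ := exists_lift_u φ hF (φ θ')
  have hu1 : uM (1 : R) ∈ Gam k τ := by simpa using uM_mem τ (1 : k)
  have comm : ∀ {a x : SL R}, a ∈ Gam k τ → x ∈ Gam k τ → ↟x 0 0 + ↟x 1 1 = 2 →
      red φ a * red φ x = red φ x * red φ a → a * x = x * a := by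
    intro a x ha hx htr e
    refine commute_of_scalar (hN _ (mul_mem (mul_mem (mul_mem ha hx) (inv_mem ha)) (inv_mem hx)) ?_) h2 htr
    rw [map_mul, map_mul, map_mul, map_inv, map_inv, mul_inv_eq_one, mul_inv_eq_iff_eq_mul, e]
  have hc := comm hg hu1 (by simp [uM_val]; norm_num) (by
    rw [hgr, map_uM, ← uM_add, ← uM_add, add_comm])
  obtain ⟨hγ, hαδ⟩ := centralizer_uM hc
  set α := ↟g 0 0 with hα
  set β := ↟g 0 1 with hβ
  have hd : α * α = 1 := by
    have := det_eq g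
    rw [← hαδ, hγ] at this
    linear_combination this
  set θ := α * β with hθ
  set n := g * lM s * g with hn
  have hnm : n ∈ Gam k τ := mul_mem (mul_mem hg hs) hg
  have hnv : ↟n = !![1 + θ * s, 2 * θ + θ * θ * s; s, 1 + θ * s] := by
    ext i j
    simp only [hn, Matrix.SpecialLinearGroup.coe_mul]
    fin_cases i <;> fin_cases j <;> simp [Matrix.mul_apply, Fin.sum_univ_two, lM_val, hγ, ← hαδ, ← hα, ← hβ, hθ]
    · linear_combination hd
    · linear_combination (-(β * β * s)) * hd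
    · linear_combination s * hd
    · linear_combination hd
  have hn' : φ θ = φ θ' := by
    have e1 : φ α = 1 := by
      have := congrArg (fun x : SL R' => (x : Matrix (Fin 2) (Fin 2) R') 0 0) hgr
      simpa [uM_val, ← hα] using this
    have e2 : φ β = φ θ' := by
      have := congrArg (fun x : SL R' => (x : Matrix (Fin 2) (Fin 2) R') 0 1) hgr
      simpa [uM_val, ← hβ] using this
    rw [hθ, map_mul, e1, e2, one_mul]
  have hp : φ (1 + θ * s) = 0 := by
    rw [map_add, map_one, map_mul, hn', ← map_mul, hθ', map_neg, map_one, add_neg_cancel]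
  set x := n * uM 1 * n⁻¹ with hx
  have hxv : ↟x = !![1 - (1 + θ * s) * s, (1 + θ * s) * (1 + θ * s); -(s * s), 1 + (1 + θ * s) * s] := by
    ext i j
    simp only [hx, Matrix.SpecialLinearGroup.coe_mul, inv_val, hnv]
    fin_cases i <;> fin_cases j <;> simp [Matrix.mul_apply, Fin.sum_univ_two, uM_val] <;> ring
  have hxc := comm (mul_mem (mul_mem hnm hu1) (inv_mem hnm)) hs (by simp [lM_val]; norm_num) (by
    have ex : ∀ i j, φ (↟x i j - ↟(lM (-(s * s))) i j) = 0 := by
      intro i j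
      rw [hxv]
      fin_cases i <;> fin_cases j <;> simp [lM_val, hp]
      all_goals (rw [← map_one φ, ← map_mul, ← map_add] at *)
      all_goals simp [hp]
    rw [← hx, (red_eq_iff φ).2 ex, map_lM, map_lM, ← lM_add, ← lM_add, add_comm])
  have e : ∀ i j, ↟(x * lM s) i j = ↟(lM s * x) i j := fun i j => by rw [hx, hxc]
  have e00 := e 0 0
  have e10 := e 1 0
  simp [Matrix.mul_apply, Fin.sum_univ_two, lM_val, hxv] at e00 e10
  have hsu : IsUnit s := IsUnit.of_mul_eq_one (-θ') (by linear_combination -hθ')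
  have hp0 : 1 + θ * s = 0 := by
    have h4 : (2 : R) * (s * (s * (1 + θ * s))) = 0 := by linear_combination e10
    exact (IsUnit.mul_right_eq_zero hsu).1 ((IsUnit.mul_right_eq_zero hsu).1
      ((IsUnit.mul_right_eq_zero h2).1 h4))
  have hθe : θ = θ' := by linear_combination θ * hθ' - θ' * hp0
  convert hnm
  ext i j
  rw [hnv]
  fin_cases i <;> fin_cases j <;> simp [nM_val, hp0]
  linear_combination (-θ) * hp0 - hθe

/-- Fullness lifts when the kernel meets the subgroup in scalars. -/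
theorem full_of_scalar_kernel (h2 : IsUnit (2 : R)) (hτ : IsUnit τ) (hgen : Algebra.adjoin k ({τ} : Set R) = ⊤)
    (hF : IsFull k (φ τ)) (hN : ∀ z ∈ Gam k τ, red φ z = 1 → ∃ c : R, ↟z = c • (1 : Matrix (Fin 2) (Fin 2) R)) :
    IsFull k τ := by
  obtain ⟨t, ht⟩ := isUnit_iff_exists_inv'.1 hτ
  have h1 : -t * τ = -1 := by rw [neg_mul, ht]
  have h3 : -(t * t) * (τ * τ) = -1 := by linear_combination (-(t * τ) - 1) * ht
  refine full_of_antidiag hgen h1 h3 (exists_nM φ h2 hF hN h1 ?_) (fun h => exists_nM φ h2 hF hN h3 h)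
  simpa using lM_mem τ (1 : k)

variable (hker : ∀ i j : R, φ i = 0 → i ≠ 0 → φ j = 0 → ∃ r, j = r * i)
include hker

/-- Fullness lifts along a square zero kernel generated by each of its non-zero elements. -/
theorem full_of_sq_zero (h2 : IsUnit (2 : R)) (hτ : IsUnit τ) (hgen : Algebra.adjoin k ({τ} : Set R) = ⊤)
    (hF : IsFull k (φ τ)) (hsurj : Function.Surjective φ) (hsq : ∀ i j : R, φ i = 0 → φ j = 0 → i * j = 0) :
    IsFull k τ := by
  by_cases hN : ∀ z ∈ Gam k τ, red φ z = 1 → ∃ c : R, ↟z = c • (1 : Matrix (Fin 2) (Fin 2) R)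
  · exact full_of_scalar_kernel φ h2 hτ hgen hF hN
  push Not at hN
  obtain ⟨g, hg, hg1, hgns⟩ := hN
  obtain ⟨k00, k01, k10, k11⟩ := (mem_ker_iff φ).1 (MonoidHom.mem_ker.2 hg1)
  have hu : ∀ {x : SL R}, x ∈ Gam k τ → ∀ {a : R}, ↟x 0 0 = 1 → ↟x 1 0 = 0 → ↟x 1 1 = 1 → ↟x 0 1 = a →
      uM a ∈ Gam k τ := by
    intro x hx a e1 e2 e3 e4
    convert hx
    ext i j
    fin_cases i <;> fin_cases j <;> simp [uM_val, e1, e2, e3, e4]
  have hu1 : uM (1 : R) ∈ Gam k τ := by simpa using uM_mem τ (1 : k)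
  have hum1 : uM (-1 : R) ∈ Gam k τ := by simpa using uM_mem τ (-1 : k)
  -- commutators with a unipotent element, summed over both signs
  have key : ∀ {x : SL R}, x ∈ Gam k τ → ∀ {p r : R}, φ p = 0 → φ r = 0 → φ (↟x 0 1) = 0 → ↟x 0 0 = 1 + p →
      ↟x 1 0 = r → ↟x 1 1 = 1 - p → uM (2 * r) ∈ Gam k τ ∧ (r = 0 → uM (2 * p) ∈ Gam k τ) := by
    intro x hx p r hp hr hq e1 e2 e3
    set q := ↟x 0 1
    have hprod : ∀ c : R, ↟(x * uM c * x⁻¹ * uM (-c)) =
        !![1 - c * r, 2 * c * p + c * c * r; 0, 1 + c * r] := by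
      intro c
      have z1 : p * r = 0 := hsq p r hp hr
      have z2 : r * r = 0 := hsq r r hr hr
      have z3 : p * p = 0 := hsq p p hp hp
      have z4 : q * r = 0 := hsq q r hq hr
      have z5 : p * q = 0 := hsq p q hp hq
      ext i j
      simp only [Matrix.SpecialLinearGroup.coe_mul, inv_val]
      fin_cases i <;> fin_cases j <;> simp [Matrix.mul_apply, Fin.sum_univ_two, uM_val, e1, e2, e3]
      · linear_combination (-c) * z1 - z3 - z4
      · linear_combination (2 * c) * z3 + c * z4 + c * c * z1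
      · linear_combination (-c) * z2
      · linear_combination (c * c) * z2 + c * z1 - z3 - z4
    have hm : ∀ c : R, uM c ∈ Gam k τ → uM (-c) ∈ Gam k τ → x * uM c * x⁻¹ * uM (-c) ∈ Gam k τ :=
      fun c h1 h2 => mul_mem (mul_mem (mul_mem hx h1) (inv_mem hx)) h2
    have hsum : uM (2 * r) ∈ Gam k τ := by
      refine hu (mul_mem (hm 1 hu1 hum1) (hm (-1) hum1 (by rw [neg_neg]; exact hu1))) ?_ ?_ ?_ ?_ <;>
        simp only [Matrix.SpecialLinearGroup.coe_mul, hprod] <;>
        simp [Matrix.mul_apply, Fin.sum_univ_two]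
      · linear_combination -(hsq r r hr hr)
      · linear_combination -(hsq r r hr hr)
      · linear_combination (-2 : R) * (hsq r r hr hr)
    refine ⟨hsum, fun hr0 => ?_⟩
    subst hr0
    refine hu (hm 1 hu1 hum1) ?_ ?_ ?_ ?_ <;> simp [hprod]
  -- an upper element in the kernel
  obtain ⟨i0, hi0, hi0φ, hi0m⟩ : ∃ i : R, i ≠ 0 ∧ φ i = 0 ∧ uM i ∈ Gam k τ := by
    set p := ↟g 0 0 - 1 with hp
    have e11 : ↟g 1 1 = 1 - p := by
      have h := det_eq g
      have z : p * (↟g 1 1 - 1) = 0 := hsq _ _ k00 k11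
      have z' : ↟g 0 1 * ↟g 1 0 = 0 := hsq _ _ k01 k10
      rw [hp] at z ⊢
      linear_combination h - z + z'
    obtain ⟨h3, h4⟩ := key hg (p := p) (r := ↟g 1 0) k00 k10 k01 (by rw [hp, add_sub_cancel]) rfl e11
    by_cases hr : ↟g 1 0 = 0
    · by_cases hp0 : p = 0
      · refine ⟨↟g 0 1, fun hq => ?_, k01, hu hg (sub_eq_zero.1 hp0) hr (by rw [e11, hp0, sub_zero]) rfl⟩
        refine hgns 1 ?_
        ext i j
        fin_cases i <;> fin_cases j <;> simp [hq, hr, e11, hp0, sub_eq_zero.1 hp0]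
      · exact ⟨2 * p, fun h => hp0 ((IsUnit.mul_right_eq_zero h2).1 h), by rw [map_mul, k00, mul_zero], h4 hr⟩
    · exact ⟨2 * ↟g 1 0, fun h => hr ((IsUnit.mul_right_eq_zero h2).1 h), by rw [map_mul, k10, mul_zero], h3⟩
  -- the set of upper elements is stable under squares
  have hconjl : ∀ (f i : R), φ i = 0 → uM i ∈ Gam k τ →
      ∃ y ∈ Gam k τ, ↟y = !![1 - f * i, i; -(f * f * i), 1 + f * i] := by
    intro f i hi hm
    obtain ⟨z, hz, hzr⟩ := exists_lift_l φ hF (φ f)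
    refine ⟨z * uM i * z⁻¹, mul_mem (mul_mem hz hm) (inv_mem hz), ?_⟩
    have e : ∀ a b, φ (↟z a b - ↟(lM f) a b) = 0 := (red_eq_iff φ).1 (by rw [hzr, map_lM]; rfl)
    have z00 : (↟z 0 0 - 1) * i = 0 := hsq _ _ (by simpa [lM_val] using e 0 0) hi
    have z10 : (↟z 1 0 - f) * i = 0 := hsq _ _ (by simpa [lM_val] using e 1 0) hi
    have z11 : (↟z 1 1 - 1) * i = 0 := hsq _ _ (by simpa [lM_val] using e 1 1) hi
    have hd := det_eq z
    ext a b
    simp only [Matrix.SpecialLinearGroup.coe_mul, inv_val]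
    fin_cases a <;> fin_cases b <;> simp [Matrix.mul_apply, Fin.sum_univ_two, uM_val]
    · linear_combination hd - ↟z 1 0 * z00 - z10
    · linear_combination (↟z 0 0 + 1) * z00
    · linear_combination -(↟z 1 0 + f) * z10
    · linear_combination hd + ↟z 1 0 * z00 + z10
  have hJsq : ∀ (f i : R), φ i = 0 → uM i ∈ Gam k τ → uM (-(2 * (f * f * i))) ∈ Gam k τ := by
    intro f i hi hm
    obtain ⟨y, hy, hyv⟩ := hconjl f i hi hm
    have := (key hy (p := -(f * i)) (r := -(f * f * i)) (by simp [hi]) (by simp [hi]) (by simp [hyv, hi])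
      (by simp [hyv, sub_eq_add_neg]) (by simp [hyv]) (by simp [hyv])).1
    rwa [mul_neg] at this
  obtain ⟨e8, he8⟩ : ∃ e : R, 8 * e = 1 := by
    obtain ⟨u, hu2⟩ := isUnit_iff_exists_inv.1 h2
    exact ⟨u * u * u, by linear_combination ((4 : R) * u * u + 2 * u + 1) * hu2⟩
  have hJ : ∀ r : R, uM (r * i0) ∈ Gam k τ := by
    intro r
    have h1 := hJsq (e8 * r + 1) i0 hi0φ hi0m
    have h2' := inv_mem (hJsq (e8 * r - 1) i0 hi0φ hi0m)
    rw [← uM_neg, neg_neg] at h2'
    have h3 := inv_mem (mul_mem h1 h2')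
    rw [← uM_add, ← uM_neg] at h3
    convert h3 using 2
    linear_combination (-(r * i0)) * he8
  have hU : ∀ i, φ i = 0 → uM i ∈ Gam k τ := fun i hi => by
    obtain ⟨r, rfl⟩ := hker i0 i hi0φ hi0 hi
    exact hJ r
  have hL : ∀ i, φ i = 0 → lM i ∈ Gam k τ := by
    intro i hi
    obtain ⟨h, hh⟩ := isUnit_iff_exists_inv.1 h2
    set j := -(h * i)
    have hjφ : φ j = 0 := by simp [j, hi]
    obtain ⟨y, hy, hyv⟩ := hconjl 1 j hjφ (hU j hjφ)
    obtain ⟨y', hy', hyv'⟩ := hconjl (-1) j hjφ (hU j hjφ)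
    have hz := mul_mem (mul_mem hy hy') (hU (-(2 * j)) (by simp [hjφ]))
    convert hz
    have z : j * j = 0 := hsq j j hjφ hjφ
    ext a b
    simp only [Matrix.SpecialLinearGroup.coe_mul, hyv, hyv']
    fin_cases a <;> fin_cases b <;> simp [Matrix.mul_apply, Fin.sum_univ_two, uM_val, lM_val]
    · linear_combination (2 : R) * z
    · linear_combination (2 - (4 : R) * j) * z
    · simp only [j] at z ⊢; linear_combination (-i) * hh + (2 : R) * z
    · linear_combination (-2 - (4 : R) * j) * z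
  -- diagonal kernel elements
  have hkerle : ∀ x : SL R, red φ x = 1 → x ∈ Gam k τ := by
    intro x hx
    obtain ⟨x00, x01, x10, x11⟩ := (mem_ker_iff φ).1 (MonoidHom.mem_ker.2 hx)
    set p := ↟x 0 0 - 1 with hp
    obtain ⟨y, hy, hyv⟩ := hconjl 1 (-p) (by simp [x00]) (hU _ (by simp [x00]))
    have hy' := mul_mem (mul_mem (hL (-p) (by simp [x00])) hy) (hU p x00)
    have hfin := mul_mem (mul_mem (hL (↟x 1 0) x10) hy') (hU (↟x 0 1) x01)
    convert hfin
    have z1 : p * p = 0 := hsq p p x00 x00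
    have z2 : p * ↟x 0 1 = 0 := hsq _ _ x00 x01
    have z3 : ↟x 1 0 * p = 0 := hsq _ _ x10 x00
    have z4 : ↟x 1 0 * ↟x 0 1 = 0 := hsq _ _ x10 x01
    have z5 : p * (↟x 1 1 - 1) = 0 := hsq _ _ x00 x11
    have z6 : ↟x 0 1 * ↟x 1 0 = 0 := hsq _ _ x01 x10
    have hd := det_eq x
    have e11 : ↟x 1 1 = 1 - p := by rw [hp] at z5 ⊢; linear_combination hd - z5 + z6
    have e00 : ↟x 0 0 = 1 + p := by rw [hp]; ring
    clear_value p
    ext a b
    simp only [Matrix.SpecialLinearGroup.coe_mul, hyv]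
    fin_cases a <;> fin_cases b <;> simp [Matrix.mul_apply, Fin.sum_univ_two, uM_val, lM_val, e00, e11]
    · linear_combination -z2 - z1
    · linear_combination z1 - z3
    · linear_combination -z4 - ↟x 0 1 * z3 + ↟x 0 1 * z1 - ↟x 1 0 * z1 - z1 + p * z1
  intro r
  constructor
  · obtain ⟨z, hz, hzr⟩ := exists_lift_u φ hF (φ r)
    have := mul_mem hz (hkerle (z⁻¹ * uM r) (by rw [map_mul, map_inv, hzr, map_uM]; exact inv_mul_cancel _))
    rwa [mul_inv_cancel_left] at this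
  · obtain ⟨z, hz, hzr⟩ := exists_lift_l φ hF (φ r)
    have := mul_mem hz (hkerle (z⁻¹ * lM r) (by rw [map_mul, map_inv, hzr, map_lM]; exact inv_mul_cancel _))
    rwa [mul_inv_cancel_left] at this

end Cfsg.Agent.Lead.QP
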