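/-
Fullness for a product with a field factor.
-/
import Cfsg.Agent.Lib.Lead.QP.Lift

set_option autoImplicit false
set_option linter.unusedSectionVars false

namespace Cfsg.Agent.Lead.QP

open Matrix

variable {k : Type*} [Field k] {R : Type*} [CommRing R] [Algebra k R]
  {R' : Type*} [CommRing R'] [Algebra k R'] {K : Type*} [Field K] [Algebra k K]
  (φ : R →ₐ[k] R') (ψ : R →ₐ[k] K) {τ : R}

local notation "SL" => Matrix.SpecialLinearGroup (Fin 2)

/-- A subgroup containing all elementary unipotents is everything. -/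
theorem mem_of_uM_lM (N : Subgroup (SL K)) (hu : ∀ r : K, uM r ∈ N ∧ lM r ∈ N) (g : SL K) : g ∈ N := by
  refine Matrix.SpecialLinearGroup.diagonal_transvection_induction' (fun g => g ∈ N) g ?_ ?_
    (fun A B => mul_mem)
  · intro i j hij c hc
    have hw : ∀ c : K, uM c * lM (-c⁻¹) * uM c * (uM (-1) * lM 1 * uM (-1)) ∈ N := fun c =>
      mul_mem (mul_mem (mul_mem (hu _).1 (hu _).2) (hu _).1) (mul_mem (mul_mem (hu _).1 (hu _).2) (hu _).1)
    fin_cases i <;> fin_cases j
    · exact absurd rfl hij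
    · convert hw c using 1
      ext i j
      simp only [Matrix.SpecialLinearGroup.coe_mul]
      fin_cases i <;> fin_cases j <;>
        simp [Matrix.SpecialLinearGroup.diag2n_coe, Matrix.mul_apply, Fin.sum_univ_two, uM_val, lM_val, hc]
    · convert hw c⁻¹ using 1
      ext i j
      simp only [Matrix.SpecialLinearGroup.coe_mul]
      fin_cases i <;> fin_cases j <;>
        simp [Matrix.SpecialLinearGroup.diag2n_coe, Matrix.mul_apply, Fin.sum_univ_two, uM_val, lM_val, hc]
    · exact absurd rfl hij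
  · intro i j hij c
    fin_cases i <;> fin_cases j
    · exact absurd rfl hij
    · convert (hu c).1
      ext i j
      fin_cases i <;> fin_cases j <;> simp [Matrix.SpecialLinearGroup.transvection_coe, uM_val]
    · convert (hu c).2
      ext i j
      fin_cases i <;> fin_cases j <;> simp [Matrix.SpecialLinearGroup.transvection_coe, lM_val]
    · exact absurd rfl hij

/-- A normal subgroup of SL₂ over a field is central or everything. -/
theorem normal_sl2 (hK : ∃ a : K, a ≠ 0 ∧ a ^ 2 ≠ 1) (N : Subgroup (SL K)) [hN : N.Normal]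
    (hnc : ¬ N ≤ Subgroup.center (SL K)) : N = ⊤ := by
  classical
  have hsimple := Matrix.ProjectiveSpecialLinearGroup.rank_two_simple' hK
  have hmap : N.map (QuotientGroup.mk' (Subgroup.center (SL K))) = ⊤ :=
    (hsimple.eq_bot_or_eq_top_of_normal _ (hN.map _ (QuotientGroup.mk'_surjective _))).resolve_left fun h =>
      hnc (by
        rw [← QuotientGroup.ker_mk' (Subgroup.center (SL K))]
        exact (Subgroup.map_eq_bot_iff _).mp h)
  have hdec : ∀ a : SL K, ∃ h ∈ N, ∃ z ∈ Subgroup.center (SL K), a = h * z := by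
    intro a
    obtain ⟨h, hh, he⟩ := Subgroup.mem_map.1
      (hmap.symm ▸ Subgroup.mem_top (QuotientGroup.mk' (Subgroup.center (SL K)) a))
    exact ⟨h, hh, h⁻¹ * a, QuotientGroup.eq.1 he, (mul_inv_cancel_left h a).symm⟩
  have hcomm : ∀ a b : SL K, a * b * a⁻¹ * b⁻¹ ∈ N := by
    intro a b
    obtain ⟨h, hh, z, hz, rfl⟩ := hdec a
    obtain ⟨h', hh', z', hz', rfl⟩ := hdec b
    have hzc := Subgroup.mem_center_iff.1 hz
    have hzc' := Subgroup.mem_center_iff.1 hz'
    have e : h * z * (h' * z') * (h * z)⁻¹ * (h' * z')⁻¹ = h * h' * h⁻¹ * h'⁻¹ := by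
      calc _ = h * (z * h') * z' * z⁻¹ * h⁻¹ * z'⁻¹ * h'⁻¹ := by group
        _ = h * (h' * z) * z' * z⁻¹ * h⁻¹ * z'⁻¹ * h'⁻¹ := by rw [hzc h']
        _ = h * h' * (z * z' * z⁻¹) * h⁻¹ * z'⁻¹ * h'⁻¹ := by group
        _ = h * h' * z' * h⁻¹ * z'⁻¹ * h'⁻¹ := by rw [hzc' z, mul_inv_cancel_right]
        _ = h * h' * (z' * h⁻¹) * z'⁻¹ * h'⁻¹ := by group
        _ = h * h' * (h⁻¹ * z') * z'⁻¹ * h'⁻¹ := by rw [hzc' h⁻¹]
        _ = _ := by group
    rw [e]
    exact N.mul_mem (N.mul_mem (N.mul_mem hh hh') (N.inv_mem hh)) (N.inv_mem hh')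
  have hperf : commutator (SL K) = ⊤ := by
    obtain ⟨a, ha, ha2⟩ := hK
    rw [eq_top_iff]
    have hu : ∀ r : K, uM r ∈ commutator (SL K) ∧ lM r ∈ commutator (SL K) := by
      intro r
      let d : SL K := ⟨!![a, 0; 0, a⁻¹], by simp [Matrix.det_fin_two, ha]⟩
      have hd : (d : Matrix (Fin 2) (Fin 2) K) = !![a, 0; 0, a⁻¹] := rfl
      have h1 : d * uM (r / (a ^ 2 - 1)) * d⁻¹ * (uM (r / (a ^ 2 - 1)))⁻¹ = uM r := by
        ext i j
        simp only [Matrix.SpecialLinearGroup.coe_mul, inv_val, hd]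
        have h0 : a ^ 2 - 1 ≠ 0 := sub_ne_zero.2 ha2
        fin_cases i <;> fin_cases j <;> simp [Matrix.mul_apply, Fin.sum_univ_two, uM_val, ha]
        field_simp
        ring
      have h2 : d * lM (r / ((a⁻¹) ^ 2 - 1)) * d⁻¹ * (lM (r / ((a⁻¹) ^ 2 - 1)))⁻¹ = lM r := by
        ext i j
        simp only [Matrix.SpecialLinearGroup.coe_mul, inv_val, hd]
        have h0 : (a⁻¹) ^ 2 - 1 ≠ 0 := by
          rw [inv_pow, sub_ne_zero]
          intro h; exact ha2 (inv_eq_one.1 h)
        fin_cases i <;> fin_cases j <;> simp [Matrix.mul_apply, Fin.sum_univ_two, lM_val, ha]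
        have hab : a * a⁻¹ = 1 := mul_inv_cancel₀ ha
        generalize a⁻¹ = b at h0 hab ⊢
        field_simp
        linear_combination (r * (a * b + 1)) * hab
      exact ⟨h1 ▸ Subgroup.commutator_mem_commutator (Subgroup.mem_top _) (Subgroup.mem_top _),
        h2 ▸ Subgroup.commutator_mem_commutator (Subgroup.mem_top _) (Subgroup.mem_top _)⟩
    exact fun g _ => mem_of_uM_lM _ hu g
  rw [eq_top_iff, ← hperf, commutator_def, Subgroup.commutator_le]
  exact fun a _ b _ => hcomm a b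

/-- Fullness over a product with a field factor. -/
theorem full_of_field_factor (h2 : IsUnit (2 : R)) (hK : ∃ a : K, a ≠ 0 ∧ a ^ 2 ≠ 1) (hτ : IsUnit τ)
    (hgen : Algebra.adjoin k ({τ} : Set R) = ⊤) (hF : IsFull k (φ τ))
    (hFK : ∀ g : SL K, g ∈ Gam k (ψ τ)) (hinj : ∀ x, φ x = 0 → ψ x = 0 → x = 0) : IsFull k τ := by
  have hjoint : ∀ {x y : SL R}, red φ x = red φ y → red ψ x = red ψ y → x = y := by
    intro x y e1 e2
    ext i j
    exact sub_eq_zero.1 (hinj _ ((red_eq_iff φ).1 e1 i j) ((red_eq_iff ψ).1 e2 i j))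
  let N : Subgroup (SL K) := (Gam k τ ⊓ (red φ).ker).map (red ψ)
  have hNn : N.Normal := by
    constructor
    rintro _ ⟨z, ⟨hz, hzk⟩, rfl⟩ g
    obtain ⟨y, hy, hyg⟩ : ∃ y ∈ Gam k τ, red ψ y = g := by
      have := hFK g
      rw [← Gam_map ψ τ] at this
      exact this
    exact ⟨y * z * y⁻¹, ⟨(Gam k τ).mul_mem ((Gam k τ).mul_mem hy hz) ((Gam k τ).inv_mem hy), (red φ).normal_ker.conj_mem z hzk y⟩,
      by rw [map_mul, map_mul, map_inv, hyg]⟩
  by_cases hc : N ≤ Subgroup.center (SL K)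
  · refine full_of_scalar_kernel φ h2 hτ hgen hF fun z hz hz1 => ⟨(z : Matrix (Fin 2) (Fin 2) R) 0 0, ?_⟩
    obtain ⟨r, -, hr⟩ := Matrix.SpecialLinearGroup.mem_center_iff.1 (hc ⟨z, ⟨hz, hz1⟩, rfl⟩)
    obtain ⟨k00, k01, k10, k11⟩ := (mem_ker_iff φ).1 (MonoidHom.mem_ker.2 hz1)
    have e : ∀ i j, ψ ((z : Matrix (Fin 2) (Fin 2) R) i j) = Matrix.scalar (Fin 2) r i j := fun i j =>
      (congrFun (congrFun hr i) j).symm
    ext i j
    fin_cases i <;> fin_cases j <;> simp
    · exact hinj _ k01 (by simpa using e 0 1)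
    · exact hinj _ k10 (by simpa using e 1 0)
    · refine sub_eq_zero.1 (hinj _ ?_ ?_)
      · have a := k00
        have b := k11
        rw [map_sub, map_one, sub_eq_zero] at a b
        rw [map_sub, a, b, sub_self]
      · rw [map_sub, e 0 0, e 1 1]; simp
  · have htop := normal_sl2 hK N hc
    have hkerle : ∀ x : SL R, red φ x = 1 → x ∈ Gam k τ := by
      intro x hx
      obtain ⟨z, ⟨hz, hzk⟩, he⟩ := htop.symm ▸ Subgroup.mem_top (red ψ x)
      rw [← hjoint ((MonoidHom.mem_ker.1 hzk).trans hx.symm) he]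
      exact hz
    intro r
    constructor
    · obtain ⟨z, hz, hzr⟩ := exists_lift_u φ hF (φ r)
      have := mul_mem hz (hkerle (z⁻¹ * uM r) (by rw [map_mul, map_inv, hzr, map_uM]; exact inv_mul_cancel _))
      rwa [mul_inv_cancel_left] at this
    · obtain ⟨z, hz, hzr⟩ := exists_lift_l φ hF (φ r)
      have := mul_mem hz (hkerle (z⁻¹ * lM r) (by rw [map_mul, map_inv, hzr, map_lM]; exact inv_mul_cancel _))
      rwa [mul_inv_cancel_left] at this

end Cfsg.Agent.Lead.QP
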