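/-
Fullness over every quotient of the polynomial ring by a modulus prime to X, starting from the field case.
-/
import Cfsg.Agent.Lib.Lead.QP.Product

set_option autoImplicit false
set_option linter.unusedSectionVars false

universe u

namespace Cfsg.Agent.Lead.QP

open Polynomial

variable (k : Type u) [Field k]

/-- Dickson's theorem for simple algebraic extensions, as a hypothesis. -/
def Dickson : Prop :=
  ∀ (K : Type u) [Field K] [Algebra k K] (α : K), IsAlgebraic k α → α ≠ 0 →
    Algebra.adjoin k ({α} : Set K) = ⊤ → IsFull k α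

variable {k}

theorem exists_not_pm_one (h2 : (2 : k) ≠ 0) (h3 : Nat.card k ≠ 3) : ∃ a : k, a ≠ 0 ∧ a ^ 2 ≠ 1 := by
  by_contra hno
  simp only [not_exists, not_and, not_not] at hno
  have h11 : (1 : k) ≠ -1 := fun h => h2 (by linear_combination h)
  have huniv : (Set.univ : Set k) = ({0, 1, -1} : Set k) := by
    refine (Set.eq_univ_of_forall fun a => ?_).symm
    by_cases ha : a = 0
    · exact Or.inl ha
    · exact Or.inr ((sq_eq_one_iff.1 (hno a ha)).imp id id)
  apply h3
  rw [← Set.ncard_univ, huniv, Set.ncard_eq_three]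
  exact ⟨0, 1, -1, zero_ne_one, by simp, h11, rfl⟩

theorem root_unit {m : k[X]} (hm : IsCoprime m X) : IsUnit (AdjoinRoot.root m) := by
  obtain ⟨a, b, hab⟩ := hm
  refine isUnit_iff_exists_inv'.2 ⟨AdjoinRoot.mk m b, ?_⟩
  have := congrArg (AdjoinRoot.mk m) hab
  simpa using this

theorem two_unit (h2 : (2 : k) ≠ 0) {R : Type*} [CommRing R] [Algebra k R] : IsUnit (2 : R) := by
  rw [← map_ofNat (algebraMap k R)]
  exact (isUnit_iff_ne_zero.2 h2).map _

/-- The reduction map to a smaller modulus. -/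
noncomputable def reduce {m m' : k[X]} (h : m' ∣ m) : AdjoinRoot m →ₐ[k] AdjoinRoot m' :=
  AdjoinRoot.liftAlgHom m (Algebra.ofId k _) (AdjoinRoot.root m') (by
    obtain ⟨c, rfl⟩ := h
    simp)

theorem reduce_root {m m' : k[X]} (h : m' ∣ m) : reduce h (AdjoinRoot.root m) = AdjoinRoot.root m' := by
  simp [reduce]

theorem reduce_mk {m m' : k[X]} (h : m' ∣ m) (g : k[X]) : reduce h (AdjoinRoot.mk m g) = AdjoinRoot.mk m' g := by
  rw [← AdjoinRoot.aeval_eq, ← Polynomial.aeval_algHom_apply, reduce_root, AdjoinRoot.aeval_eq]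

theorem full_adjoinRoot (hD : Dickson k) (h2 : (2 : k) ≠ 0) (h3 : Nat.card k ≠ 3) :
    ∀ m : k[X], m ≠ 0 → IsCoprime m X → IsFull k (AdjoinRoot.root m) := by
  intro m
  induction m using UniqueFactorizationMonoid.induction_on_prime with
  | h₁ => exact fun h => absurd rfl h
  | h₂ m hm =>
    intro _ _ r
    have : Subsingleton (AdjoinRoot m) := subsingleton_of_zero_eq_one (by
      rw [← map_zero (AdjoinRoot.mk m), ← map_one (AdjoinRoot.mk m), AdjoinRoot.mk_eq_mk]
      exact hm.dvd)
    rw [show uM r = 1 from Matrix.SpecialLinearGroup.ext _ _ fun i j => Subsingleton.elim _ _,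
      show lM r = 1 from Matrix.SpecialLinearGroup.ext _ _ fun i j => Subsingleton.elim _ _]
    exact ⟨one_mem _, one_mem _⟩
  | h₃ m' π hm' hπ ih =>
    intro hne hcop
    have hcop' : IsCoprime m' X := hcop.of_mul_left_right
    have hπX : IsCoprime π X := hcop.of_mul_left_left
    have fld : ∀ p : k[X], Irreducible p → IsCoprime p X → IsFull k (AdjoinRoot.root p) := by
      intro p hp hpX
      haveI := Fact.mk hp
      exact hD (AdjoinRoot p) _ ((AdjoinRoot.isAlgebraic_root hp.ne_zero))
        (root_unit hpX).ne_zero (AdjoinRoot.adjoinRoot_eq_top)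
    by_cases hu : IsUnit m'
    · exact fld _ ((irreducible_mul_isUnit hu).2 hπ.irreducible) hcop
    have hφ : m' ∣ π * m' := dvd_mul_left _ _
    have hsurj : Function.Surjective (reduce hφ) := fun y => by
      obtain ⟨g, rfl⟩ := AdjoinRoot.mk_surjective y
      exact ⟨AdjoinRoot.mk _ g, reduce_mk hφ g⟩
    have hF : IsFull k (reduce hφ (AdjoinRoot.root (π * m'))) := by rw [reduce_root]; exact ih hm' hcop'
    by_cases hdiv : π ∣ m'
    · refine full_of_sq_zero (reduce hφ) ?_ (two_unit h2) (root_unit hcop) AdjoinRoot.adjoinRoot_eq_top hF hsurj ?_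
      · intro i j hi hi0 hj
        obtain ⟨a, rfl⟩ := AdjoinRoot.mk_surjective i
        obtain ⟨b, rfl⟩ := AdjoinRoot.mk_surjective j
        rw [reduce_mk, AdjoinRoot.mk_eq_zero] at hi hj
        obtain ⟨a', rfl⟩ := hi
        obtain ⟨b', rfl⟩ := hj
        have hna : ¬ π ∣ a' := fun h => hi0 (AdjoinRoot.mk_eq_zero.2 (by
          rw [mul_comm π m']; exact mul_dvd_mul_left m' h))
        obtain ⟨u, v, huv⟩ := (hπ.irreducible.coprime_iff_not_dvd.2 hna)
        refine ⟨AdjoinRoot.mk _ (b' * v), ?_⟩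
        rw [← map_mul, AdjoinRoot.mk_eq_mk]
        exact ⟨b' * u, by linear_combination (-(m' * b')) * huv⟩
      · intro i j hi hj
        obtain ⟨a, rfl⟩ := AdjoinRoot.mk_surjective i
        obtain ⟨b, rfl⟩ := AdjoinRoot.mk_surjective j
        rw [reduce_mk, AdjoinRoot.mk_eq_zero] at hi hj
        rw [← map_mul, AdjoinRoot.mk_eq_zero]
        exact (mul_dvd_mul_right hdiv m').trans (mul_dvd_mul hi hj)
    · haveI := Fact.mk hπ.irreducible
      have hψ : π ∣ π * m' := dvd_mul_right _ _
      have hfπ : IsFull k (AdjoinRoot.root π) := fld π hπ.irreducible hπX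
      obtain ⟨a, ha0, ha1⟩ := exists_not_pm_one h2 h3
      refine full_of_field_factor (reduce hφ) (reduce hψ) (two_unit h2)
        ⟨algebraMap k _ a, ?_, ?_⟩ (root_unit hcop) AdjoinRoot.adjoinRoot_eq_top hF ?_ ?_
      · simpa using ha0
      · rw [← map_pow, ← map_one (algebraMap k (AdjoinRoot π))]
        exact fun h => ha1 ((algebraMap k (AdjoinRoot π)).injective h)
      · rw [reduce_root]
        exact mem_of_uM_lM _ hfπ
      · intro x hx hx'
        obtain ⟨a, rfl⟩ := AdjoinRoot.mk_surjective x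
        rw [reduce_mk, AdjoinRoot.mk_eq_zero] at hx hx'
        rw [AdjoinRoot.mk_eq_zero]
        exact (hπ.irreducible.coprime_iff_not_dvd.2 hdiv).mul_dvd hx' hx

end Cfsg.Agent.Lead.QP
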