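/-
Special elements of the group generated by two one parameter families over the polynomial ring.
-/
import Cfsg.Agent.Lib.Lead.QP.Full

set_option autoImplicit false
set_option linter.unusedSectionVars false

universe u

namespace Cfsg.Agent.Lead.QP

open Polynomial

variable {k : Type u} [Field k]

local notation "SLP" => Matrix.SpecialLinearGroup (Fin 2) (Polynomial k)
local notation:max "↟" g:max => ((g : Matrix.SpecialLinearGroup (Fin 2) (Polynomial k)) : Matrix (Fin 2) (Fin 2) (Polynomial k))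
local notation "ΓX" => Gam k (Polynomial.X : Polynomial k)

theorem uC_mem (c : k) : uM (C c) ∈ ΓX := uM_mem _ c
theorem lC_mem (c : k) : lM (C c * X) ∈ ΓX := lM_mem _ c

/-- The shape of the elements of the group. -/
theorem gam_shape {N : SLP} (hN : N ∈ ΓX) :
    ∃ p q r s : k[X], ↟N = !![1 + X * p, q; X * r, 1 + X * s] := by
  induction hN using Subgroup.closure_induction'' with
  | one => exact ⟨0, 0, 0, 0, by simp [Matrix.one_fin_two]⟩
  | mem g hg =>
    rcases hg with ⟨c, rfl⟩ | ⟨c, rfl⟩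
    · exact ⟨0, C c, 0, 0, by simp [uM_val, ← Polynomial.C_eq_algebraMap]⟩
    · exact ⟨0, 0, C c, 0, by simp [lM_val, ← Polynomial.C_eq_algebraMap, mul_comm X]⟩
  | inv_mem g hg =>
    rcases hg with ⟨c, rfl⟩ | ⟨c, rfl⟩
    · exact ⟨0, -C c, 0, 0, by simp [inv_val, uM_val, ← Polynomial.C_eq_algebraMap]⟩
    · exact ⟨0, 0, -C c, 0, by simp [inv_val, lM_val, ← Polynomial.C_eq_algebraMap, mul_comm X]⟩
  | mul g h _ _ ihg ihh =>
    obtain ⟨p, q, r, s, hg⟩ := ihg
    obtain ⟨p', q', r', s', hh⟩ := ihh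
    refine ⟨p + p' + X * p * p' + q * r', q + q' + X * p * q' + X * q * s',
      r + r' + X * r * p' + X * s * r', s + s' + r * q' + X * s * s', ?_⟩
    rw [Matrix.SpecialLinearGroup.coe_mul, hg, hh, Matrix.mul_fin_two]
    refine Matrix.ext fun i j => ?_
    fin_cases i <;> fin_cases j <;> simp <;> ring

/-- The diagonal sign automorphism. -/
noncomputable def theta : SLP →* SLP where
  toFun g := ⟨!![↟g 0 0, -↟g 0 1; -↟g 1 0, ↟g 1 1], by
    rw [Matrix.det_fin_two]; simpa using det_eq g⟩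
  map_one' := by refine Matrix.SpecialLinearGroup.ext _ _ fun i j => ?_; fin_cases i <;> fin_cases j <;> simp
  map_mul' g h := by
    refine Matrix.SpecialLinearGroup.ext _ _ fun i j => ?_
    change _ = (!![↟g 0 0, -↟g 0 1; -↟g 1 0, ↟g 1 1] * !![↟h 0 0, -↟h 0 1; -↟h 1 0, ↟h 1 1]) i j
    fin_cases i <;> fin_cases j <;> simp [Matrix.mul_apply, Fin.sum_univ_two] <;> ring

theorem theta_val (g : SLP) : ↟(theta g) = !![↟g 0 0, -↟g 0 1; -↟g 1 0, ↟g 1 1] := rfl

theorem theta_mem {g : SLP} (hg : g ∈ ΓX) : theta g ∈ ΓX := by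
  have : ΓX ≤ (ΓX).comap theta := by
    refine (Subgroup.closure_le _).2 ?_
    rintro x (⟨c, rfl⟩ | ⟨c, rfl⟩)
    · rw [SetLike.mem_coe, Subgroup.mem_comap]
      convert uM_mem (X : k[X]) (-c)
      refine Matrix.SpecialLinearGroup.ext _ _ fun i j => ?_
      fin_cases i <;> fin_cases j <;> simp [theta_val, uM_val]
    · rw [SetLike.mem_coe, Subgroup.mem_comap]
      convert lM_mem (X : k[X]) (-c)
      refine Matrix.SpecialLinearGroup.ext _ _ fun i j => ?_
      fin_cases i <;> fin_cases j <;> simp [theta_val, lM_val]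
  exact this hg

theorem exists_jet (h2 : (2 : k) ≠ 0) : ∀ (j : ℕ) (c : k), ∃ N : SLP, N ∈ ΓX ∧
    X ^ (j + 1) ∣ ↟N 0 0 - 1 ∧ X ^ (j + 1) ∣ ↟N 0 1 - C c * X ^ j ∧ X ^ (2 * j + 2) ∣ ↟N 1 0 ∧
    X ^ (j + 1) ∣ ↟N 1 1 - 1 := by
  intro j
  induction j with
  | zero => exact fun c => ⟨uM (C c), uC_mem c, by simp [uM_val]⟩
  | succ j ih =>
    intro c
    obtain ⟨N, hN, ⟨a, ha⟩, ⟨w, hw⟩, hγ, ⟨e, he⟩⟩ := ih 1
    obtain ⟨d, hd⟩ : ∃ d : k, 2 * d = c := ⟨c / 2, mul_div_cancel₀ _ h2⟩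
    set α := ↟N 0 0
    set β := ↟N 0 1
    set δ := ↟N 1 1
    have hdet := det_eq N
    set x := C d * (X : k[X]) with hx
    have hlx : lM x ∈ ΓX := lC_mem d
    have hlx' : lM (-x) ∈ ΓX := by rw [lM_neg]; exact inv_mem hlx
    let K := N * lM x * N⁻¹ * lM (-x)
    have hKm : K ∈ ΓX := mul_mem (mul_mem (mul_mem hN hlx) (inv_mem hN)) hlx'
    have hK : ↟K = !![1 + x * β * δ + x * x * β * β, -(x * β * β);
        x * (δ * δ - 1) + x * x * β * δ, 1 - x * β * δ] := by
      refine Matrix.ext fun i i' => ?_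
      simp only [K, Matrix.SpecialLinearGroup.coe_mul, inv_val]
      fin_cases i <;> fin_cases i' <;> simp [Matrix.mul_apply, Fin.sum_univ_two, lM_val, α, β, δ]
      · linear_combination hdet
      · ring
      · linear_combination (-x) * hdet
      · linear_combination hdet
    have hu' : uM (-1 : k[X]) ∈ ΓX := by simpa using uC_mem (-1 : k)
    have hu : uM (1 : k[X]) ∈ ΓX := by simpa using uC_mem (1 : k)
    let L := K * uM 1 * K⁻¹ * uM (-1)
    set α' := ↟K 0 0 with hα'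
    set γ' := ↟K 1 0 with hγ'
    have hdet' := det_eq K
    have hL : ↟L = !![1 - α' * γ', α' * α' - 1 + α' * γ'; -(γ' * γ'), 1 + α' * γ' + γ' * γ'] := by
      refine Matrix.ext fun i i' => ?_
      simp only [L, Matrix.SpecialLinearGroup.coe_mul, inv_val]
      fin_cases i <;> fin_cases i' <;> simp [Matrix.mul_apply, Fin.sum_univ_two, uM_val, ← hα', ← hγ']
      · linear_combination hdet'
      · linear_combination -hdet'
      · ring
      · linear_combination hdet'
    rw [hK] at hα' hγ'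
    simp at hα' hγ'
    have hβ : β = X ^ j * (1 + X * w) := by rw [C_1, one_mul] at hw; linear_combination hw
    have h1 : X ^ (j + 2) ∣ α' - 1 - C d * X ^ (j + 1) := by
      refine ⟨C d * w + C d * X ^ j * (1 + X * w) * e + C d * C d * X ^ j * (1 + X * w) * (1 + X * w), ?_⟩
      rw [hα', hx, hβ, show δ = 1 + X ^ (j + 1) * e by linear_combination he]
      ring
    have h2' : X ^ (j + 2) ∣ γ' := by
      refine ⟨C d * (2 * e + X ^ (j + 1) * e * e) + C d * C d * (1 + X * w) * δ, ?_⟩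
      rw [hγ', hx, hβ, show δ = 1 + X ^ (j + 1) * e by linear_combination he]
      ring
    obtain ⟨u, hu1⟩ := h1
    obtain ⟨v, hv⟩ := h2'
    refine ⟨L, mul_mem (mul_mem (mul_mem hKm hu) (inv_mem hKm)) hu', ⟨-(α' * v), ?_⟩, ⟨?_, ?_⟩, ⟨-(v * v), ?_⟩,
      ⟨α' * v + γ' * v, ?_⟩⟩
    · rw [hL, hv]; simp; ring
    · exact 2 * u + X ^ j * (C d + X * u) * (C d + X * u) + α' * v
    · have e1 : α' = 1 + X ^ (j + 1) * (C d + X * u) := by linear_combination hu1
      rw [hL, hv, ← hd]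
      simp only [map_mul, map_ofNat]
      simp
      rw [e1]
      ring
    · rw [hL, hv]; simp; ring
    · rw [hL]; simp; linear_combination (α' + γ') * hv

/-- An element congruent to a monomial upper unipotent. -/
theorem exists_mono_word (h2 : (2 : k) ≠ 0) (n : ℕ) (hn : 1 ≤ n) (c : k) : ∃ N : SLP, N ∈ ΓX ∧
    X * X ^ (n + 1) ∣ ↟N 0 0 - 1 ∧ X ^ (n + 1) ∣ ↟N 0 1 - C c * X ^ n ∧ X * X * X ^ (n + 1) ∣ ↟N 1 0 ∧
    X * X ^ (n + 1) ∣ ↟N 1 1 - 1 := by
  obtain ⟨L, hL, hα, hβ, hγ, -⟩ := exists_jet h2 n (c / 2)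
  set α := ↟L 0 0
  set β := ↟L 0 1
  set γ := ↟L 1 0
  set δ := ↟L 1 1
  have hdet := det_eq L
  have hP : ↟(L * (theta L)⁻¹) = !![1 + 2 * β * γ, 2 * α * β; 2 * γ * δ, 1 + 2 * β * γ] := by
    refine Matrix.ext fun i i' => ?_
    simp only [Matrix.SpecialLinearGroup.coe_mul, inv_val, theta_val]
    fin_cases i <;> fin_cases i' <;> simp [Matrix.mul_apply, Fin.sum_univ_two, α, β, γ, δ]
    · linear_combination hdet
    · ring
    · ring
    · linear_combination hdet
  have hbase : X * X * X ^ (n + 1) ∣ γ := by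
    refine Dvd.dvd.trans ?_ hγ
    rw [show X * X * (X : k[X]) ^ (n + 1) = X ^ (n + 3) by ring]
    exact pow_dvd_pow _ (by omega)
  refine ⟨_, mul_mem hL (inv_mem (theta_mem hL)), ?_, ?_, ?_, ?_⟩
  · rw [hP]; simp
    exact ((mul_dvd_mul_right (dvd_mul_left (X : k[X]) X) _).trans hbase).mul_left _
  · obtain ⟨a, ha⟩ := hα
    obtain ⟨b, hb⟩ := hβ
    refine ⟨2 * a * β + 2 * b, ?_⟩
    have e : C c = 2 * C (c / 2) := by
      rw [← map_ofNat (C : k →+* k[X]), ← map_mul, mul_div_cancel₀ _ h2]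
    rw [hP, e]; simp
    linear_combination (2 * β) * ha + (2 : k[X]) * hb
  · rw [hP]; simp
    exact (hbase.mul_left 2).mul_right δ
  · rw [hP]; simp
    exact ((mul_dvd_mul_right (dvd_mul_left (X : k[X]) X) _).trans hbase).mul_left _

/-- The iterated commutator subgroups. -/
noncomputable def DS : ℕ → Subgroup SLP
  | 0 => ΓX
  | i + 1 => ⁅DS i, DS i⁆

theorem DS_le : ∀ i, DS (k := k) i ≤ ΓX
  | 0 => le_rfl
  | i + 1 => (Subgroup.commutator_mono (DS_le i) (DS_le i)).trans (Subgroup.commutator_le_self _)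

theorem DS_le_one : ∀ i, DS (k := k) (i + 1) ≤ DS (k := k) 1
  | 0 => le_rfl
  | i + 1 => Subgroup.commutator_mono (DS_le (i + 1)) (DS_le (i + 1))

theorem DS_congr : ∀ i, DS (k := k) (i + 1) ≤ (red (aeval (AdjoinRoot.root ((X : k[X]) ^ (i + 1))))).ker := by
  intro i
  have main : ∀ g ∈ DS (k := k) i, ∀ h ∈ DS (k := k) i, ∀ a b,
      (X : k[X]) ^ (i + 1) ∣ (↟g * ↟h) a b - (↟h * ↟g) a b := by
    cases i with
    | zero =>
      intro g hg h hh a b
      obtain ⟨p, q, r, s, hg⟩ := gam_shape hg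
      obtain ⟨p', q', r', s', hh⟩ := gam_shape hh
      rw [hg, hh, zero_add, pow_one, Matrix.mul_fin_two, Matrix.mul_fin_two]
      fin_cases a <;> fin_cases b <;> simp
      · exact ⟨q * r' - q' * r, by ring⟩
      · exact ⟨p * q' + q * s' - p' * q - q' * s, by ring⟩
      · exact ⟨X * (r * p' + s * r' - r' * p - s' * r), by ring⟩
      · exact ⟨r * q' - r' * q, by ring⟩
    | succ i =>
      intro g hg h hh a b
      have lev : ∀ g ∈ DS (k := k) (i + 1), ∃ p q r s : k[X],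
          ↟g = !![1 + X ^ (i + 1) * p, X ^ (i + 1) * q; X ^ (i + 1) * r, 1 + X ^ (i + 1) * s] := by
        intro g hg
        obtain ⟨k00, k01, k10, k11⟩ := (mem_ker_iff _).1 (DS_congr i hg)
        rw [AdjoinRoot.aeval_eq, AdjoinRoot.mk_eq_zero] at k00 k01 k10 k11
        obtain ⟨p, hp⟩ := k00
        obtain ⟨q, hq⟩ := k01
        obtain ⟨r, hr⟩ := k10
        obtain ⟨s, hs⟩ := k11
        refine ⟨p, q, r, s, ?_⟩
        refine Matrix.ext fun a b => ?_
        fin_cases a <;> fin_cases b <;> simp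
        · linear_combination hp
        · exact hq
        · exact hr
        · linear_combination hs
      obtain ⟨p, q, r, s, hg⟩ := lev g hg
      obtain ⟨p', q', r', s', hh⟩ := lev h hh
      rw [hg, hh, Matrix.mul_fin_two, Matrix.mul_fin_two]
      refine (pow_dvd_pow _ (show i + 1 + 1 ≤ (i + 1) + (i + 1) by omega)).trans ?_
      rw [pow_add]
      fin_cases a <;> fin_cases b <;> simp
      · exact ⟨q * r' - q' * r, by ring⟩
      · exact ⟨p * q' + q * s' - p' * q - q' * s, by ring⟩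
      · exact ⟨r * p' + s * r' - r' * p - s' * r, by ring⟩
      · exact ⟨r * q' - r' * q, by ring⟩
  refine Subgroup.commutator_le.2 fun g hg h hh => ?_
  rw [MonoidHom.mem_ker, map_commutatorElement, commutatorElement_eq_one_iff_mul_comm, ← map_mul, ← map_mul,
    red_eq_iff]
  intro a b
  rw [AdjoinRoot.aeval_eq, AdjoinRoot.mk_eq_zero]
  simpa only [Matrix.SpecialLinearGroup.coe_mul] using main g hg h hh a b

theorem DS_image (h2 : (2 : k) ≠ 0) (h3 : Nat.card k ≠ 3) {m : k[X]} (hm : IsFull k (AdjoinRoot.root m)) :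
    ∀ i, (DS (k := k) i).map (red (aeval (AdjoinRoot.root m))) = Gam k (AdjoinRoot.root m) := by
  intro i
  induction i with
  | zero =>
    rw [DS]
    exact (Gam_map (aeval (AdjoinRoot.root m)) X).trans (by rw [aeval_X])
  | succ i ih =>
    rw [DS, Subgroup.map_commutator, ih]
    refine le_antisymm (Subgroup.commutator_le_self _) ?_
    obtain ⟨a, ha0, ha1⟩ := exists_not_pm_one h2 h3
    set A := algebraMap k (AdjoinRoot m)
    let d := uM (A a) * lM (-A a⁻¹) * uM (A a) * (uM (-1) * lM 1 * uM (-1))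
    have hd : d ∈ Gam k (AdjoinRoot.root m) :=
      mul_mem (mul_mem (mul_mem (hm _).1 (hm _).2) (hm _).1) (mul_mem (mul_mem (hm _).1 (hm _).2) (hm _).1)
    have hdv : (d : Matrix (Fin 2) (Fin 2) (AdjoinRoot m)) = !![A a, 0; 0, A a⁻¹] := by
      have hab : A a * A a⁻¹ = 1 := by rw [← map_mul, mul_inv_cancel₀ ha0, map_one]
      refine Matrix.ext fun i j => ?_
      simp only [d, Matrix.SpecialLinearGroup.coe_mul]
      generalize A a = x, A a⁻¹ = y at hab
      fin_cases i <;> fin_cases j <;> simp [Matrix.mul_apply, Fin.sum_univ_two, uM_val, lM_val] <;>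
        grind
    obtain ⟨e, he⟩ : ∃ e : k, (a ^ 2 - 1) * e = 1 := ⟨_, mul_inv_cancel₀ (sub_ne_zero.2 ha1)⟩
    have hbr : ∀ r : AdjoinRoot m, uM r ∈ ⁅Gam k (AdjoinRoot.root m), Gam k (AdjoinRoot.root m)⁆ ∧
        lM r ∈ ⁅Gam k (AdjoinRoot.root m), Gam k (AdjoinRoot.root m)⁆ := by
      intro r
      have hab : A a * A a⁻¹ = 1 := by rw [← map_mul, mul_inv_cancel₀ ha0, map_one]
      have hae : (A a ^ 2 - 1) * A e = 1 := by rw [← map_pow, ← map_one A, ← map_sub, ← map_mul, he]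
      obtain ⟨e', he'⟩ : ∃ e', (A a⁻¹ ^ 2 - 1) * e' = 1 := ⟨-(A a ^ 2) * A e, by
        linear_combination hae - A e * (A a * A a⁻¹ + 1) * hab⟩
      generalize A a = x, A a⁻¹ = y at hdv hab hae he'
      constructor
      · have h := Subgroup.commutator_mem_commutator hd (hm (A e * r)).1
        convert h
        refine Matrix.SpecialLinearGroup.ext _ _ fun i j => ?_
        simp only [commutatorElement_def, Matrix.SpecialLinearGroup.coe_mul, inv_val, hdv]
        fin_cases i <;> fin_cases j <;> simp [Matrix.mul_apply, Fin.sum_univ_two, uM_val] <;> grind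
      · have h := Subgroup.commutator_mem_commutator hd (hm (e' * r)).2
        convert h
        refine Matrix.SpecialLinearGroup.ext _ _ fun i j => ?_
        simp only [commutatorElement_def, Matrix.SpecialLinearGroup.coe_mul, inv_val, hdv]
        fin_cases i <;> fin_cases j <;> simp [Matrix.mul_apply, Fin.sum_univ_two, lM_val] <;> grind
    refine (Subgroup.closure_le _).2 ?_
    rintro x (⟨c, rfl⟩ | ⟨c, rfl⟩)
    exacts [(hbr _).1, (hbr _).2]

/-- An element congruent to a prescribed upper unipotent. -/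
theorem exists_full_word (h2 : (2 : k) ≠ 0) (h3 : Nat.card k ≠ 3) {m : k[X]} (hcop : IsCoprime m X)
    (hm : IsFull k (AdjoinRoot.root m)) (i : ℕ) {F : k[X]} (hF : X ^ (i + 1) ∣ F) :
    ∃ N : SLP, N ∈ ΓX ∧ X ^ (i + 1) * m ∣ ↟N 0 0 - 1 ∧ X ^ (i + 1) * m ∣ ↟N 0 1 - F ∧
      X ^ (i + 1) * m ∣ ↟N 1 0 ∧ X ^ (i + 1) * m ∣ ↟N 1 1 - 1 ∧ N ∈ ⁅ΓX, ΓX⁆ := by
  have hu : uM (AdjoinRoot.mk m F) ∈ (DS (k := k) (i + 1)).map (red (aeval (AdjoinRoot.root m))) := by
    rw [DS_image h2 h3 hm]; exact (hm _).1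
  obtain ⟨N, hN, he⟩ := hu
  obtain ⟨k00, k01, k10, k11⟩ := (mem_ker_iff _).1 (DS_congr i hN)
  rw [AdjoinRoot.aeval_eq, AdjoinRoot.mk_eq_zero] at k00 k01 k10 k11
  have e : ∀ a b, m ∣ ↟N a b - ↟(uM F) a b := by
    have h : red (aeval (AdjoinRoot.root m)) (uM F) = uM (AdjoinRoot.mk m F) := by
      rw [map_uM]; simp [AdjoinRoot.aeval_eq]
    intro a b
    have h' := (red_eq_iff _).1 (he.trans h.symm) a b
    rwa [AdjoinRoot.aeval_eq, AdjoinRoot.mk_eq_zero] at h'
  have hc : IsCoprime ((X : k[X]) ^ (i + 1)) m := hcop.symm.pow_left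
  refine ⟨N, DS_le _ hN, hc.mul_dvd k00 ?_, hc.mul_dvd (dvd_sub k01 hF) ?_, hc.mul_dvd k10 ?_, hc.mul_dvd k11 ?_,
    DS_le_one i hN⟩
  · simpa [uM_val] using e 0 0
  · simpa [uM_val] using e 0 1
  · simpa [uM_val] using e 1 0
  · simpa [uM_val] using e 1 1

end Cfsg.Agent.Lead.QP
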