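/-
The group generated by two scalar families of square zero elements as an image of a polynomial matrix group.
-/
import Cfsg.Agent.Lib.Lead.QP.Poly

set_option autoImplicit false
set_option linter.unusedSectionVars false

universe u v

namespace Cfsg.Agent.Lead.QP

open Polynomial

section
variable {k : Type u} [Field k] {E : Type v} [Ring E] [Algebra k E]

variable (k) in
/-- The scalar family of a square zero element. -/
def fam (a : E) : Set Eˣ := {g | ∃ c : k, (g : E) = 1 + c • a}

variable (k) in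
/-- The group generated by two scalar families. -/
def H2 (a b : E) : Subgroup Eˣ := Subgroup.closure (fam k a ∪ fam k b)

theorem H2_comm (a b : E) : H2 k a b = H2 k b a := by rw [H2, H2, Set.union_comm]

/-- The unit attached to a square zero element. -/
def u1 (x : E) (hx : x * x = 0) : Eˣ :=
  ⟨1 + x, 1 - x, by simp [mul_sub, add_mul, hx], by simp [sub_mul, mul_add, hx]⟩

@[simp] theorem u1_val (x : E) (hx : x * x = 0) : (u1 x hx : E) = 1 + x := rfl

theorem smul_sq {x : E} (hx : x * x = 0) (c : k) : (c • x) * (c • x) = 0 := by simp [hx]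

theorem aeval_swap (a b : E) (f : k[X]) : b * aeval (a * b) f = aeval (b * a) f * b := by
  induction f using Polynomial.induction_on' with
  | add f g hf hg => rw [map_add, map_add, mul_add, add_mul, hf, hg]
  | monomial i c =>
    have h : b * (a * b) ^ i = (b * a) ^ i * b := by
      induction i with
      | zero => simp
      | succ i ih => rw [pow_succ, ← mul_assoc, ih, pow_succ]; simp [mul_assoc]
    rw [aeval_monomial, aeval_monomial, ← mul_assoc, ← Algebra.commutes, mul_assoc, h, mul_assoc]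

variable {a b : E}

local notation "T" => a * b

theorem a_aeval (ha : a * a = 0) (f : k[X]) : a * aeval T f = f.coeff 0 • a := by
  induction f using Polynomial.induction_on' with
  | add f g hf hg => rw [map_add, mul_add, hf, hg, coeff_add, add_smul]
  | monomial i c =>
    rw [aeval_monomial, ← Algebra.smul_def, mul_smul_comm, coeff_monomial]
    cases i with
    | zero => simp
    | succ i => rw [pow_succ', ← mul_assoc, ← mul_assoc, ha]; simp

theorem aeval_b (hb : b * b = 0) (f : k[X]) : aeval T f * b = f.coeff 0 • b := by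
  induction f using Polynomial.induction_on' with
  | add f g hf hg => rw [map_add, add_mul, hf, hg, coeff_add, add_smul]
  | monomial i c =>
    rw [aeval_monomial, ← Algebra.smul_def, smul_mul_assoc, coeff_monomial]
    cases i with
    | zero => simp
    | succ i => rw [pow_succ, mul_assoc, mul_assoc, hb]; simp

variable (a b) in
/-- The element attached to four polynomials. -/
noncomputable def form (p q r s : k[X]) : E :=
  1 + aeval T p * T + aeval T q * a + b * aeval T r + b * aeval T s * a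

theorem form_zero : form (k := k) a b 0 0 0 0 = 1 := by simp [form]

theorem form_mul (ha : a * a = 0) (hb : b * b = 0) (p q r s p' q' r' s' : k[X]) :
    form a b p q r s * form a b p' q' r' s' =
      form a b (p + p' + X * p * p' + q * r') (q + q' + X * p * q' + X * q * s')
        (r + r' + X * r * p' + X * s * r') (s + s' + r * q' + X * s * s') := by
  have hX : ∀ f : k[X], aeval T (X * f) = aeval T f * T := fun f => by
    rw [mul_comm, map_mul, aeval_X]
  have haT : a * T = 0 := by rw [← mul_assoc, ha, zero_mul]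
  have hTb : T * b = 0 := by rw [mul_assoc, hb, mul_zero]
  have mid : ∀ (x y : E) (f : k[X]), x * a * (aeval T f * y) = f.coeff 0 • (x * a * y) := fun x y f => by
    rw [mul_assoc, ← mul_assoc a, a_aeval ha, smul_mul_assoc, mul_smul_comm, mul_assoc]
  have midb : ∀ (x y : E) (f : k[X]), x * aeval T f * (b * y) = f.coeff 0 • (x * b * y) := fun x y f => by
    rw [mul_assoc, ← mul_assoc (aeval T f), aeval_b hb, smul_mul_assoc, mul_smul_comm, ← mul_assoc]
  have hTc : ∀ f : k[X], T * aeval T f = aeval T f * T := fun f => by rw [← hX f, map_mul, aeval_X]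
  have hT1 : ∀ f g : k[X], aeval T f * T * (aeval T g * T) = aeval T (X * f * g) * T := fun f g => by
    rw [mul_assoc X f g, hX, map_mul, ← mul_assoc (aeval T f * T), mul_assoc (aeval T f) T, hTc]
    simp only [mul_assoc]
  have hT2 : ∀ f g : k[X], aeval T f * T * (aeval T g * a) = aeval T (X * f * g) * a := fun f g => by
    rw [mul_assoc X f g, hX, map_mul, ← mul_assoc (aeval T f * T), mul_assoc (aeval T f) T, hTc]
    simp only [mul_assoc]
  have hT3 : ∀ f g : k[X], aeval T f * T * (b * aeval T g) = 0 := fun f g => by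
    rw [mul_assoc, ← mul_assoc T, hTb, zero_mul, mul_zero]
  have hT4 : ∀ f g : k[X], aeval T f * T * (b * aeval T g * a) = 0 := fun f g => by
    rw [← mul_assoc, hT3, zero_mul]
  have hA1 : ∀ f g : k[X], aeval T f * a * (aeval T g * T) = 0 := fun f g => by
    rw [mid, mul_assoc, haT, mul_zero, smul_zero]
  have hA2 : ∀ f g : k[X], aeval T f * a * (aeval T g * a) = 0 := fun f g => by
    rw [mid, mul_assoc, ha, mul_zero, smul_zero]
  have hA3 : ∀ f g : k[X], aeval T f * a * (b * aeval T g) = aeval T (f * g) * T := fun f g => by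
    rw [mul_assoc (aeval T f), ← mul_assoc a b, hTc, ← mul_assoc, ← map_mul]
  have hA4 : ∀ f g : k[X], aeval T f * a * (b * aeval T g * a) = aeval T (X * f * g) * a := fun f g => by
    rw [← mul_assoc, hA3, mul_assoc X, hX]
  have hB1 : ∀ f g : k[X], b * aeval T f * (aeval T g * T) = b * aeval T (X * f * g) := fun f g => by
    rw [mul_assoc X, hX, map_mul]; simp only [mul_assoc]
  have hB2 : ∀ f g : k[X], b * aeval T f * (aeval T g * a) = b * aeval T (f * g) * a := fun f g => by
    rw [map_mul]; simp only [mul_assoc]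
  have hB3 : ∀ f g : k[X], b * aeval T f * (b * aeval T g) = 0 := fun f g => by
    rw [midb, hb, zero_mul, smul_zero]
  have hB4 : ∀ f g : k[X], b * aeval T f * (b * aeval T g * a) = 0 := fun f g => by
    rw [← mul_assoc, hB3, zero_mul]
  have hD1 : ∀ f g : k[X], b * aeval T f * a * (aeval T g * T) = 0 := fun f g => by
    rw [mid, mul_assoc _ a T, haT, mul_zero, smul_zero]
  have hD2 : ∀ f g : k[X], b * aeval T f * a * (aeval T g * a) = 0 := fun f g => by
    rw [mid, mul_assoc _ a a, ha, mul_zero, smul_zero]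
  have hD3 : ∀ f g : k[X], b * aeval T f * a * (b * aeval T g) = b * aeval T (X * f * g) := fun f g => by
    rw [mul_assoc b, mul_assoc b, hA3, mul_assoc X, hX]
  have hD4 : ∀ f g : k[X], b * aeval T f * a * (b * aeval T g * a) = b * aeval T (X * f * g) * a := fun f g => by
    rw [← mul_assoc, hD3]
  simp only [form, mul_add, add_mul, mul_one, one_mul, hT1, hT2, hT3, hT4, hA1, hA2, hA3, hA4, hB1, hB2, hB3, hB4,
    hD1, hD2, hD3, hD4, map_add]
  abel

variable (a b) in
/-- The element attached to a matrix. -/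
noncomputable def wordVal (N : Matrix.SpecialLinearGroup (Fin 2) k[X]) : E :=
  form a b ((N : Matrix (Fin 2) (Fin 2) k[X]) 0 0).divX ((N : Matrix (Fin 2) (Fin 2) k[X]) 0 1)
    ((N : Matrix (Fin 2) (Fin 2) k[X]) 1 0).divX ((N : Matrix (Fin 2) (Fin 2) k[X]) 1 1).divX

theorem divX_one_add (p : k[X]) : (1 + X * p).divX = p := by
  ext n; simp [coeff_divX, coeff_one]

theorem divX_X_mul' (p : k[X]) : (X * p).divX = p := by
  ext n; simp [coeff_divX]

theorem wordVal_of_shape {N : Matrix.SpecialLinearGroup (Fin 2) k[X]} {p q r s : k[X]}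
    (h : (N : Matrix (Fin 2) (Fin 2) k[X]) = !![1 + X * p, q; X * r, 1 + X * s]) :
    wordVal a b N = form a b p q r s := by
  simp [wordVal, h, divX_one_add, divX_X_mul']

/-- The homomorphism onto the group generated by the two families. -/
noncomputable def Phi (ha : a * a = 0) (hb : b * b = 0) : Gam k (X : k[X]) →* Eˣ :=
  MonoidHom.toHomUnits
    { toFun := fun N => wordVal a b N.1
      map_one' := by
        have h : ((1 : Matrix.SpecialLinearGroup (Fin 2) k[X]) : Matrix (Fin 2) (Fin 2) k[X]) =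
            !![1 + X * 0, 0; X * 0, 1 + X * 0] := by simp [Matrix.one_fin_two]
        rw [OneMemClass.coe_one, wordVal_of_shape h, form_zero]
      map_mul' := fun N N' => by
        obtain ⟨p, q, r, s, h⟩ := gam_shape N.2
        obtain ⟨p', q', r', s', h'⟩ := gam_shape N'.2
        rw [wordVal_of_shape h, wordVal_of_shape h', form_mul ha hb, Subgroup.coe_mul]
        refine wordVal_of_shape ?_
        rw [Matrix.SpecialLinearGroup.coe_mul, h, h', Matrix.mul_fin_two]
        refine Matrix.ext fun i j => ?_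
        fin_cases i <;> fin_cases j <;> simp <;> ring }

theorem Phi_val (ha : a * a = 0) (hb : b * b = 0) (N : Gam k (X : k[X])) :
    (Phi (k := k) ha hb N : E) = wordVal a b N.1 := rfl

theorem Phi_range (ha : a * a = 0) (hb : b * b = 0) : (Phi (k := k) ha hb).range = H2 k a b := by
  have vu : ∀ c : k, (Phi ha hb ⟨uM (C c), uC_mem c⟩ : E) = 1 + c • a := fun c => by
    rw [Phi_val, wordVal_of_shape (p := 0) (q := C c) (r := 0) (s := 0) (by simp [uM_val])]
    simp [form, Algebra.smul_def]
  have vl : ∀ c : k, (Phi ha hb ⟨lM (C c * X), lC_mem c⟩ : E) = 1 + c • b := fun c => by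
    rw [Phi_val, wordVal_of_shape (p := 0) (q := 0) (r := C c) (s := 0) (by simp [lM_val, mul_comm X])]
    simp [form, Algebra.smul_def, Algebra.commutes]
  refine le_antisymm ?_ ((Subgroup.closure_le _).2 ?_)
  · rintro _ ⟨⟨N, hN⟩, rfl⟩
    induction hN using Subgroup.closure_induction with
    | mem g hg =>
      rcases hg with ⟨c, rfl⟩ | ⟨c, rfl⟩
      · exact Subgroup.subset_closure (Or.inl ⟨c, vu c⟩)
      · exact Subgroup.subset_closure (Or.inr ⟨c, vl c⟩)
    | one => exact (map_one (Phi (k := k) ha hb)).symm ▸ one_mem _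
    | mul x y hx hy ihx ihy =>
      rw [show (⟨x * y, mul_mem hx hy⟩ : Gam k (X : k[X])) = ⟨x, hx⟩ * ⟨y, hy⟩ from rfl, map_mul]
      exact mul_mem ihx ihy
    | inv x hx ih =>
      rw [show (⟨x⁻¹, inv_mem hx⟩ : Gam k (X : k[X])) = ⟨x, hx⟩⁻¹ from rfl, map_inv]
      exact inv_mem ih
  · rintro g (⟨c, hc⟩ | ⟨c, hc⟩)
    · exact ⟨_, Units.ext ((vu c).trans hc.symm)⟩
    · exact ⟨_, Units.ext ((vl c).trans hc.symm)⟩

theorem Phi_word (ha : a * a = 0) (hb : b * b = 0) {N : Matrix.SpecialLinearGroup (Fin 2) k[X]}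
    (hN : N ∈ Gam k (X : k[X])) {m F : k[X]} (hm : aeval T m * a = 0)
    (d00 : X * m ∣ (N : Matrix (Fin 2) (Fin 2) k[X]) 0 0 - 1) (d01 : m ∣ (N : Matrix (Fin 2) (Fin 2) k[X]) 0 1 - F)
    (d10 : X * X * m ∣ (N : Matrix (Fin 2) (Fin 2) k[X]) 1 0)
    (d11 : X * m ∣ (N : Matrix (Fin 2) (Fin 2) k[X]) 1 1 - 1) :
    (Phi (k := k) ha hb ⟨N, hN⟩ : E) = 1 + aeval T F * a := by
  obtain ⟨p, hp⟩ := d00
  obtain ⟨q, hq⟩ := d01
  obtain ⟨r, hr⟩ := d10
  obtain ⟨s, hs⟩ := d11
  rw [Phi_val, wordVal_of_shape (p := m * p) (q := F + m * q) (r := X * m * r) (s := m * s)]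
  · have z : ∀ f : k[X], aeval T (m * f) * a = 0 := fun f => by
      rw [mul_comm, map_mul, mul_assoc, hm, mul_zero]
    have z1 : aeval T (m * p) * T = 0 := by rw [← mul_assoc, z, zero_mul]
    have z2 : b * aeval T (X * m * r) = 0 := by
      rw [show X * m * r = (m * r) * X by ring, map_mul, aeval_X, ← mul_assoc (aeval T (m * r)), z, zero_mul,
        mul_zero]
    have z3 : b * aeval T (m * s) * a = 0 := by rw [mul_assoc, z, mul_zero]
    rw [form, z1, z2, z3, map_add, add_mul, z]
    simp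
  · refine Matrix.ext fun i j => ?_
    fin_cases i <;> fin_cases j <;> simp
    · linear_combination hp
    · linear_combination hq
    · linear_combination hr
    · linear_combination hs

theorem mem_of_word (ha : a * a = 0) (hb : b * b = 0) {N : Matrix.SpecialLinearGroup (Fin 2) k[X]}
    (hN : N ∈ Gam k (X : k[X])) {m F : k[X]} (hm : aeval T m * a = 0)
    (d00 : X * m ∣ (N : Matrix (Fin 2) (Fin 2) k[X]) 0 0 - 1) (d01 : m ∣ (N : Matrix (Fin 2) (Fin 2) k[X]) 0 1 - F)
    (d10 : X * X * m ∣ (N : Matrix (Fin 2) (Fin 2) k[X]) 1 0)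
    (d11 : X * m ∣ (N : Matrix (Fin 2) (Fin 2) k[X]) 1 1 - 1) :
    ∃ g ∈ H2 k a b, (g : E) = 1 + aeval T F * a :=
  ⟨_, Phi_range (k := k) ha hb ▸ ⟨_, rfl⟩, Phi_word ha hb hN hm d00 d01 d10 d11⟩

theorem mem_pow (h2 : (2 : k) ≠ 0) (ha : a * a = 0) (hb : b * b = 0) {n : ℕ} (hn : 1 ≤ n)
    (hT : T ^ (n + 1) * a = 0) (c : k) : ∃ g ∈ H2 k a b, (g : E) = 1 + c • (T ^ n * a) := by
  obtain ⟨N, hN, h00, h01, h10, h11⟩ := exists_mono_word h2 n hn c
  obtain ⟨g, hg, he⟩ := mem_of_word ha hb hN (m := X ^ (n + 1)) (F := C c * X ^ n) (by simpa using hT) h00 h01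
    h10 h11
  refine ⟨g, hg, he.trans ?_⟩
  rw [map_mul, aeval_C, map_pow, aeval_X, mul_assoc, ← Algebra.smul_def]

theorem mem_full (hD : Dickson k) (h2 : (2 : k) ≠ 0) (h3 : Nat.card k ≠ 3) (ha : a * a = 0) (hb : b * b = 0)
    {e : ℕ} {m0 : k[X]} (hm0 : m0 ≠ 0) (hcop : IsCoprime m0 X) (hm : aeval T (X ^ e * m0) * a = 0) {F : k[X]}
    (hF : X ^ (e + 2) ∣ F) : ∃ g ∈ H2 k a b, (g : E) = 1 + aeval T F * a := by
  obtain ⟨N, hN, h00, h01, h10, h11, -⟩ :=
    exists_full_word h2 h3 hcop (full_adjoinRoot hD h2 h3 m0 hm0 hcop) (e + 1) hF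
  have hd : (X : k[X]) * (X ^ e * m0) ∣ X ^ (e + 1 + 1) * m0 := ⟨X, by ring⟩
  exact mem_of_word ha hb hN hm (hd.trans h00) (dvd_trans ⟨X * X, by ring⟩ h01)
    (dvd_trans ⟨1, by ring⟩ h10) (hd.trans h11)

theorem Phi_eq_one_iff (ha : a * a = 0) (hb : b * b = 0) {m : k[X]}
    (hmin : ∀ f : k[X], aeval T f * a = 0 ↔ m ∣ f) (hmb : b * aeval T m = 0) (hcop : IsCoprime m X)
    (N : Gam k (X : k[X])) :
    Phi (k := k) ha hb N = 1 ↔ N.1 ∈ (red (aeval (AdjoinRoot.root m))).ker := by
  obtain ⟨p, q, r, s, h⟩ := gam_shape N.2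
  rw [mem_ker_iff, ← Units.val_eq_one, Phi_val, wordVal_of_shape h]
  simp only [h, AdjoinRoot.aeval_eq, AdjoinRoot.mk_eq_zero]
  simp
  have hX : ∀ {f : k[X]}, m ∣ X * f → m ∣ f := fun h => hcop.dvd_of_dvd_mul_left h
  have hTX : ∀ f : k[X], T * aeval T f = aeval T (X * f) := fun f => by rw [map_mul, aeval_X]
  have hfT : ∀ f : k[X], aeval T f * T = aeval T (X * f) := fun f => by rw [mul_comm X, map_mul, aeval_X]
  constructor
  · intro e
    rw [form, add_assoc, add_assoc, add_assoc, add_eq_left] at e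
    have e1 := congrArg (fun x => a * x) e
    simp only [mul_add, mul_zero, ← mul_assoc, a_aeval ha, smul_mul_assoc, ha, zero_mul, smul_zero, zero_add,
      hTX] at e1
    have e2 := congrArg (fun x => x * a) e1
    simp only [add_mul, zero_mul, mul_assoc _ a a, ha, mul_zero, add_zero] at e2
    have hr : m ∣ r := hX ((hmin _).1 e2)
    have z : aeval T (X * r) = 0 := by
      rw [← hfT, ← mul_assoc, (hmin _).2 hr, zero_mul]
    rw [z, zero_add] at e1
    have hs : m ∣ s := hX ((hmin _).1 e1)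
    have z1 : b * aeval T r = 0 := by
      obtain ⟨w, rfl⟩ := hr; rw [map_mul, ← mul_assoc, hmb, zero_mul]
    have z2 : b * aeval T s * a = 0 := by
      obtain ⟨w, rfl⟩ := hs; rw [map_mul, ← mul_assoc, hmb, zero_mul, zero_mul]
    rw [z2, add_zero, z1, add_zero, hfT] at e
    have e3 := congrArg (fun x => x * a) e
    simp only [add_mul, zero_mul, mul_assoc _ a a, ha, mul_zero, add_zero] at e3
    have hp : m ∣ p := hX ((hmin _).1 e3)
    rw [← hfT, ← mul_assoc, (hmin _).2 hp, zero_mul, zero_add] at e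
    exact ⟨hp.mul_left _, (hmin _).1 e, hr.mul_left _, hs.mul_left _⟩
  · rintro ⟨hp, hq, hr, hs⟩
    obtain ⟨r', rfl⟩ := hX hr
    obtain ⟨s', rfl⟩ := hX hs
    rw [form, ← mul_assoc (aeval T p), (hmin _).2 (hX hp), (hmin _).2 hq, map_mul, map_mul,
      ← mul_assoc b, ← mul_assoc b, hmb]
    simp

end

end Cfsg.Agent.Lead.QP
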