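/-
Two square zero elements of minimal rank: either both triple products vanish or they are opposite.
-/
import Cfsg.Agent.Lib.Lead.QP.Words

set_option autoImplicit false
set_option linter.unusedSectionVars false

universe u v

namespace Cfsg.Agent.Lead.QP

open Polynomial

variable {k : Type u} [Field k] {M : Type v} [AddCommGroup M] [Module k M] [FiniteDimensional k M]

local notation "End'" => Module.End k M

/-- The scalar family lies in the subgroup. -/
def InFam (G : Subgroup End'ˣ) (x : End') : Prop := ∀ c : k, ∃ g ∈ G, (g : End') = 1 + c • x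

/-- Nonzero square zero elements with family in the subgroup have rank at least d. -/
def MinRank (G : Subgroup End'ˣ) (d : ℕ) : Prop :=
  ∀ x : End', x * x = 0 → x ≠ 0 → InFam G x → d ≤ Module.finrank k (LinearMap.range x)

/-- A square zero element of rank d with family in the subgroup. -/
structure Qd (G : Subgroup End'ˣ) (d : ℕ) (x : End') : Prop where
  sq : x * x = 0
  ne : x ≠ 0
  mem : InFam G x
  rank : Module.finrank k (LinearMap.range x) = d

/-- Opposite position. -/
def Opp (a b : End') : Prop :=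
  Disjoint (LinearMap.range a) (LinearMap.ker b) ∧ Disjoint (LinearMap.range b) (LinearMap.ker a)

theorem Opp.symm {a b : End'} (h : Opp a b) : Opp b a := ⟨h.2, h.1⟩

variable {G : Subgroup (Module.End k M)ˣ} {d : ℕ}

theorem InFam.fam_subset {x : End'} (h : InFam G x) : fam k x ⊆ (G : Set End'ˣ) := by
  rintro g ⟨c, hc⟩
  obtain ⟨g', hg', he⟩ := h c
  rwa [Units.ext (hc.trans he.symm)]

theorem H2_le {a b : End'} (ha : InFam G a) (hb : InFam G b) : H2 k a b ≤ G :=
  (Subgroup.closure_le _).2 (Set.union_subset ha.fam_subset hb.fam_subset)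

theorem range_mul_le (x y : End') : LinearMap.range (x * y) ≤ LinearMap.range x :=
  LinearMap.range_comp_le_range y x

theorem ker_le_ker_mul (x y : End') : LinearMap.ker y ≤ LinearMap.ker (x * y) :=
  LinearMap.ker_le_ker_comp y x

/-- A member with range and kernel bounded by those of a has the same range and kernel. -/
theorem Qd.same (hmin : MinRank G d) {a x : End'} (ha : Qd G d a) (hx : x ≠ 0) (hmem : InFam G x)
    (hr : LinearMap.range x ≤ LinearMap.range a) (hk : LinearMap.ker a ≤ LinearMap.ker x) :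
    Qd G d x ∧ LinearMap.range x = LinearMap.range a ∧ LinearMap.ker x = LinearMap.ker a := by
  have hle : LinearMap.range a ≤ LinearMap.ker a := by
    rintro _ ⟨v, rfl⟩
    exact LinearMap.congr_fun ha.sq v
  have hsq : x * x = 0 := LinearMap.ext fun v => hk (hle (hr ⟨v, rfl⟩))
  have hrk : Module.finrank k (LinearMap.range x) = d :=
    le_antisymm ((Submodule.finrank_mono hr).trans ha.rank.le) (hmin x hsq hx hmem)
  refine ⟨⟨hsq, hx, hmem, hrk⟩, Submodule.eq_of_le_of_finrank_eq hr (hrk.trans ha.rank.symm),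
    (Submodule.eq_of_le_of_finrank_eq hk ?_).symm⟩
  have h1 := x.finrank_range_add_finrank_ker
  have h2 := a.finrank_range_add_finrank_ker
  have h3 := ha.rank
  omega

theorem pow_mul_mem {a b : End'} (n : ℕ) : LinearMap.range ((a * b) ^ n * a) ≤ LinearMap.range a := by
  cases n with
  | zero => simp
  | succ n => rw [pow_succ', mul_assoc, mul_assoc]; exact range_mul_le _ _

theorem aeval_mul_eq (a b : End') (f : k[X]) : aeval (a * b) f * a = a * aeval (b * a) f :=
  (aeval_swap b a f).symm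

theorem nil_case (h2 : (2 : k) ≠ 0) (hmin : MinRank G d) {a b : End'} (ha : Qd G d a) (hb : Qd G d b)
    (h : ∃ n, (a * b) ^ n * a = 0) : a * b * a = 0 := by
  classical
  by_contra hne
  have hn2 : 2 ≤ Nat.find h := by
    by_contra hlt
    have h1 : (a * b) ^ Nat.find h * a = 0 := Nat.find_spec h
    interval_cases hk : Nat.find h
    · rw [pow_zero, one_mul] at h1; exact ha.ne h1
    · rw [pow_one] at h1; exact hne h1
  obtain ⟨n, hn⟩ : ∃ n, Nat.find h = n + 1 := ⟨Nat.find h - 1, by omega⟩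
  have hT : (a * b) ^ (n + 1) * a = 0 := hn ▸ Nat.find_spec h
  set x := (a * b) ^ n * a with hx
  have hx0 : x ≠ 0 := Nat.find_min h (by omega)
  have hmem : InFam G x := fun c => by
    obtain ⟨g, hg, he⟩ := mem_pow h2 ha.sq hb.sq (show 1 ≤ n by omega) hT c
    exact ⟨g, H2_le ha.mem hb.mem hg, he⟩
  obtain ⟨-, hr, -⟩ := ha.same hmin hx0 hmem (pow_mul_mem n) (ker_le_ker_mul _ _)
  have hTx : a * b * x = 0 := by rw [hx, ← mul_assoc, ← pow_succ']; exact hT
  apply hne
  refine LinearMap.ext fun v => ?_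
  obtain ⟨w, hw⟩ : a v ∈ LinearMap.range x := hr.ge ⟨v, rfl⟩
  change (a * b) (a v) = 0
  rw [← hw]
  exact LinearMap.congr_fun hTx w

/-- The data attached to a pair with non-vanishing triple product. -/
theorem opp_core (hD : Dickson k) (h2 : (2 : k) ≠ 0) (h3 : Nat.card k ≠ 3) (hmin : MinRank G d) {a b : End'}
    (ha : Qd G d a) (hb : Qd G d b) (hne : a * b * a ≠ 0) :
    Opp a b ∧ ∃ m : k[X], Irreducible m ∧ IsCoprime m X ∧ (∀ f : k[X], aeval (a * b) f * a = 0 ↔ m ∣ f) ∧
      b * aeval (a * b) m = 0 ∧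
      ∀ F : k[X], ∀ c : k, ∃ g ∈ H2 k a b, (g : End') = 1 + c • (aeval (a * b) F * a) := by
  classical
  let I : Ideal k[X] :=
    { carrier := {f | aeval (a * b) f * a = 0}
      add_mem' := fun {f g} hf hg => by
        change aeval (a * b) (f + g) * a = 0
        rw [map_add, add_mul, hf, hg, add_zero]
      zero_mem' := by simp
      smul_mem' := fun c f hf => by
        change aeval (a * b) (c * f) * a = 0
        rw [map_mul, mul_assoc, hf, mul_zero] }
  obtain ⟨m, hm⟩ := (IsPrincipalIdealRing.principal I).principal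
  have hmI : ∀ f : k[X], aeval (a * b) f * a = 0 ↔ m ∣ f := fun f => by
    rw [← Ideal.mem_span_singleton, show Ideal.span {m} = I from hm.symm]
    rfl
  have hm0 : m ≠ 0 := by
    intro h0
    have h := (hmI (minpoly k (a * b))).1 (by rw [minpoly.aeval, zero_mul])
    rw [h0, zero_dvd_iff] at h
    exact minpoly.ne_zero (Algebra.IsIntegral.isIntegral (a * b)) h
  obtain ⟨e, m0, hX, rfl⟩ := WfDvdMonoid.max_power_factor hm0 irreducible_X
  have hcop : IsCoprime m0 X := (irreducible_X.coprime_iff_not_dvd.2 hX).symm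
  have hm00 : m0 ≠ 0 := right_ne_zero_of_mul hm0
  have hnu : ¬ IsUnit m0 := by
    intro hu
    exact hne (nil_case h2 hmin ha hb ⟨e, by
      have := (hmI (X ^ e)).2 ((associated_mul_unit_left (X ^ e) m0 hu).dvd)
      simpa using this⟩)
  have hzero : aeval (a * b) (X ^ e * m0) * a = 0 := (hmI _).2 dvd_rfl
  have hfull : ∀ F : k[X], X ^ (e + 2) ∣ F → InFam G (aeval (a * b) F * a) := fun F hF c => by
    obtain ⟨g, hg, he⟩ := mem_full hD h2 h3 ha.sq hb.sq hm00 hcop hzero (F := C c * F) (hF.mul_left _)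
    exact ⟨g, H2_le ha.mem hb.mem hg, by rw [he, map_mul, aeval_C, mul_assoc, ← Algebra.smul_def]⟩
  set x := aeval (a * b) (X ^ (e + 2) : k[X]) * a with hx
  have hx0 : x ≠ 0 := fun h => hnu (isUnit_of_dvd_one (by
    obtain ⟨u, v, huv⟩ := hcop.pow_right (n := e + 2)
    rw [← huv]
    exact dvd_add (dvd_mul_left _ _) ((((dvd_mul_left m0 _).trans ((hmI _).1 h))).mul_left _)))
  obtain ⟨-, -, hk⟩ := ha.same hmin hx0 (hfull _ dvd_rfl) (by rw [hx, aeval_mul_eq]; exact range_mul_le _ _)
    (ker_le_ker_mul _ _)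
  have hinj : ∀ (n : ℕ), n ≤ e + 2 → ∀ v, ((a * b) ^ n) (a v) = 0 → a v = 0 := by
    intro n hn v hv
    have : x v = 0 := by
      rw [hx, map_pow, aeval_X, show e + 2 = (e + 2 - n) + n by omega, pow_add]
      change ((a * b) ^ (e + 2 - n)) (((a * b) ^ n) (a v)) = 0
      rw [hv, map_zero]
    exact (LinearMap.mem_ker).1 (hk.le (LinearMap.mem_ker.2 this))
  have he0 : e = 0 := by
    by_contra he
    refine hX ((dvd_pow_self X he).trans ((dvd_mul_right (X ^ e) m0).trans ((hmI m0).1 (LinearMap.ext fun v => ?_))))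
    have h1 := LinearMap.congr_fun hzero v
    rw [map_mul, map_pow, aeval_X, mul_assoc, aeval_mul_eq] at h1
    rw [aeval_mul_eq]
    exact hinj e (by omega) _ h1
  subst he0
  simp only [pow_zero, one_mul] at *
  have hbR : ∀ w, b (a w) = 0 → a w = 0 := fun w h => hinj 1 (by norm_num) w (by
    rw [pow_one]; change a (b (a w)) = 0; rw [h, map_zero])
  have hRb : LinearMap.range (b * a) = LinearMap.range b := by
    refine Submodule.eq_of_le_of_finrank_le (range_mul_le _ _) ?_
    rw [hb.rank, ← ha.rank]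
    have h1 := (b * a).finrank_range_add_finrank_ker
    have h2' := a.finrank_range_add_finrank_ker
    have h3' : LinearMap.ker (b * a) = LinearMap.ker a :=
      le_antisymm (fun v hv => hbR v hv) (ker_le_ker_mul _ _)
    rw [h3'] at h1
    omega
  refine ⟨⟨Submodule.disjoint_def.2 ?_, Submodule.disjoint_def.2 ?_⟩, m0, ?_, hcop, hmI, ?_, ?_⟩
  · rintro _ ⟨w, rfl⟩ h
    exact hbR w h
  · intro y hy h
    rw [← hRb] at hy
    obtain ⟨w, rfl⟩ := hy
    change b (a w) = 0
    have : a w = 0 := hinj 1 (by norm_num) w (by rw [pow_one]; exact h)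
    rw [this, map_zero]
  all_goals
    have hall : ∀ F : k[X], ∀ c : k, ∃ g ∈ H2 k a b, (g : End') = 1 + c • (aeval (a * b) F * a) := by
      intro F c
      obtain ⟨u, v, huv⟩ := hcop.pow_right (n := 2)
      obtain ⟨g, hg, he⟩ := mem_full hD h2 h3 ha.sq hb.sq hm00 hcop (e := 0) (by simpa using hzero)
        (F := C c * (F * v * X ^ 2)) (dvd_mul_of_dvd_right (dvd_mul_left _ _) _)
      refine ⟨g, hg, he.trans ?_⟩
      have : aeval (a * b) (F - F * v * X ^ 2) * a = 0 := (hmI _).2 ⟨F * u, by linear_combination (-F) * huv⟩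
      rw [map_sub, sub_mul, sub_eq_zero] at this
      rw [map_mul, aeval_C, mul_assoc, ← Algebra.smul_def, this]
  · refine ⟨hnu, fun {u v} huv => ?_⟩
    by_contra hno
    simp only [not_or] at hno
    have hm0' : m0 ≠ 0 := hm00
    have hu0 : ¬ m0 ∣ u := fun h => hno.2 (by
      obtain ⟨w, hw⟩ := h
      refine IsUnit.of_mul_eq_one w (mul_left_cancel₀ hm0' ?_)
      linear_combination (-1 : k[X]) * huv - v * hw)
    have hv0 : ¬ m0 ∣ v := fun h => hno.1 (by
      obtain ⟨w, hw⟩ := h
      refine IsUnit.of_mul_eq_one w (mul_left_cancel₀ hm0' ?_)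
      linear_combination (-1 : k[X]) * huv - u * hw)
    obtain ⟨-, hr, -⟩ := ha.same hmin (fun h => hu0 ((hmI u).1 h))
      (fun c => (hall u c).imp fun g hg => ⟨H2_le ha.mem hb.mem hg.1, hg.2⟩)
      (by rw [aeval_mul_eq]; exact range_mul_le _ _) (ker_le_ker_mul _ _)
    refine hv0 ((hmI v).1 (LinearMap.ext fun w => ?_))
    obtain ⟨w', hw'⟩ : a w ∈ LinearMap.range (aeval (a * b) u * a) := hr.ge ⟨w, rfl⟩
    change aeval (a * b) v (a w) = 0
    rw [← hw', ← Module.End.mul_apply, ← mul_assoc, ← map_mul, mul_comm v, ← huv]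
    exact LinearMap.congr_fun hzero w'
  · refine LinearMap.ext fun w => ?_
    rw [aeval_swap]
    obtain ⟨w', hw'⟩ : b w ∈ LinearMap.range (b * a) := hRb.ge ⟨w, rfl⟩
    change aeval (b * a) m0 (b w) = 0
    rw [← hw', ← Module.End.mul_apply, ← mul_assoc, ← aeval_swap, mul_assoc, hzero, mul_zero]
    rfl
  · exact hall

/-- The dichotomy. -/
theorem pair_dichotomy (hD : Dickson k) (h2 : (2 : k) ≠ 0) (h3 : Nat.card k ≠ 3) (hmin : MinRank G d)
    {a b : End'} (ha : Qd G d a) (hb : Qd G d b) : Opp a b ∨ (a * b * a = 0 ∧ b * a * b = 0) := by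
  by_cases h : a * b * a = 0
  · refine Or.inr ⟨h, nil_case h2 hmin hb ha ⟨2, ?_⟩⟩
    rw [sq, show b * a * (b * a) * b = b * (a * b * a) * b by simp only [mul_assoc], h, mul_zero, zero_mul]
  · exact Or.inl (opp_core hD h2 h3 hmin ha hb h).1

theorem Opp.triple_ne {a b : End'} (h : Opp a b) (ha : a ≠ 0) : a * b * a ≠ 0 := by
  intro h0
  apply ha
  refine LinearMap.ext fun v => ?_
  refine Submodule.disjoint_def.1 h.1 _ ⟨v, rfl⟩ (LinearMap.mem_ker.2 ?_)
  exact Submodule.disjoint_def.1 h.2 _ ⟨_, rfl⟩ (LinearMap.mem_ker.2 (LinearMap.congr_fun h0 v))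

/-- An opposite element inverting a given one. -/
theorem exists_inverse (hD : Dickson k) (h2 : (2 : k) ≠ 0) (h3 : Nat.card k ≠ 3) (hmin : MinRank G d)
    {a b : End'} (ha : Qd G d a) (hb : Qd G d b) (hab : Opp a b) :
    ∃ b' : End', Qd G d b' ∧ LinearMap.range b' = LinearMap.range b ∧ LinearMap.ker b' = LinearMap.ker b ∧
      a * b' * a = -a ∧ ∀ c : k, ∃ g ∈ H2 k a b, (g : End') = 1 + c • b' := by
  obtain ⟨-, m, -, hcop, hmI, -, -⟩ := opp_core hD h2 h3 hmin ha hb (hab.triple_ne ha.ne)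
  obtain ⟨-, -, -, -, -, -, hall⟩ := opp_core hD h2 h3 hmin hb ha (hab.symm.triple_ne hb.ne)
  obtain ⟨u, v, huv⟩ := hcop
  have hinv : a * (aeval (b * a) (-v) * b) * a = -a := by
    rw [← aeval_swap, ← mul_assoc a b]
    have h0 : aeval (a * b) (X * -v + 1) * a = 0 := (hmI _).2 ⟨u, by linear_combination -huv⟩
    rw [map_add, map_mul, aeval_X, map_one, add_mul, one_mul] at h0
    exact eq_neg_of_add_eq_zero_left h0
  have hne : aeval (b * a) (-v) * b ≠ 0 := fun h => ha.ne (by
    rw [h, mul_zero, zero_mul] at hinv; exact neg_eq_zero.1 hinv.symm)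
  obtain ⟨hQ, hr, hk⟩ := hb.same hmin hne
    (fun c => (hall (-v) c).imp fun g hg => ⟨H2_le hb.mem ha.mem hg.1, hg.2⟩)
    (by rw [aeval_mul_eq]; exact range_mul_le _ _) (ker_le_ker_mul _ _)
  exact ⟨_, hQ, hr, hk, hinv, fun c => by rw [H2_comm]; exact hall (-v) c⟩

end Cfsg.Agent.Lead.QP
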