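/-
Root spaces of a quadratic pair: the three relative positions and their consequences.
-/
import Cfsg.Prelude.Def_RootSubgroups
import Cfsg.Agent.Lib.Lead.QP.Pair

set_option autoImplicit false
set_option linter.unusedSectionVars false

universe u

namespace Cfsg.Agent.Lead.QP

open Cfsg Polynomial

variable {k : Type u} [Field k] {M : Type u} [AddCommGroup M] [Module k M] [FiniteDimensional k M]

local notation "End'" => Module.End k M
local notation "GL'" => LinearMap.GeneralLinearGroup k M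

variable {G : Subgroup (Module.End k M)ˣ} {d : ℕ}

/-- The hypotheses under which root spaces are studied. -/
structure QS (G : Subgroup GL') (d : ℕ) : Prop where
  dick : Dickson k
  h2 : (2 : k) ≠ 0
  h3 : Nat.card k ≠ 3
  min : MinRank G d

theorem QS.dichotomy (hs : QS G d) {a b : End'} (ha : Qd G d a) (hb : Qd G d b) :
    Opp a b ∨ (a * b * a = 0 ∧ b * a * b = 0) :=
  pair_dichotomy hs.dick hs.h2 hs.h3 hs.min ha hb

theorem InFam.zero : InFam G (0 : End') := fun c => ⟨1, one_mem _, by simp⟩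

theorem InFam.smul {x : End'} (h : InFam G x) (r : k) : InFam G (r • x) := fun c => by
  obtain ⟨g, hg, he⟩ := h (c * r)
  exact ⟨g, hg, by rw [he, smul_smul]⟩

theorem InFam.add {x y : End'} (hx : InFam G x) (hy : InFam G y) (h : x * y = 0) : InFam G (x + y) := fun c => by
  obtain ⟨g, hg, he⟩ := hx c
  obtain ⟨g', hg', he'⟩ := hy c
  refine ⟨g * g', mul_mem hg hg', ?_⟩
  rw [Units.val_mul, he, he', add_mul, one_mul, mul_add, mul_one, smul_mul_smul_comm, h, smul_zero, add_zero,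
    smul_add]
  abel

theorem InFam.u1_mem {x : End'} (h : InFam G x) (hx : x * x = 0) : u1 x hx ∈ G := by
  obtain ⟨g, hg, he⟩ := h 1
  rwa [show u1 x hx = g from Units.ext (by simp [he])]

theorem range_le_ker_of_sq {a : End'} (ha : a * a = 0) : LinearMap.range a ≤ LinearMap.ker a := by
  rintro _ ⟨v, rfl⟩
  exact LinearMap.congr_fun ha v

theorem mul_eq_zero_of_le {x y : End'} (h : LinearMap.range y ≤ LinearMap.ker x) : x * y = 0 :=
  LinearMap.ext fun v => h ⟨v, rfl⟩

theorem le_ker_of_mul_eq_zero {x y : End'} (h : x * y = 0) : LinearMap.range y ≤ LinearMap.ker x := by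
  rintro _ ⟨v, rfl⟩
  exact LinearMap.congr_fun h v

/-- The root space of an element of minimal rank. -/
def Rt (G : Subgroup GL') (a : End') : Submodule k End' where
  carrier := {x | LinearMap.ker a ≤ LinearMap.ker x ∧ LinearMap.range x ≤ LinearMap.range a ∧
    LinearMap.range a ≤ LinearMap.ker a ∧ InFam G x ∨ x = 0}
  zero_mem' := Or.inr rfl
  add_mem' := by
    rintro x y (⟨hk, hr, ha, hm⟩ | rfl) hy
    swap
    · rw [zero_add]; exact hy
    rcases hy with ⟨hk', hr', -, hm'⟩ | rfl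
    swap
    · rw [add_zero]; exact Or.inl ⟨hk, hr, ha, hm⟩
    refine Or.inl ⟨fun v hv => ?_, ?_, ha, InFam.add hm hm' (mul_eq_zero_of_le (hr'.trans (ha.trans hk)))⟩
    · rw [LinearMap.mem_ker, LinearMap.add_apply, LinearMap.mem_ker.1 (hk hv), LinearMap.mem_ker.1 (hk' hv),
        add_zero]
    · rintro _ ⟨v, rfl⟩
      exact add_mem (hr ⟨v, rfl⟩) (hr' ⟨v, rfl⟩)
  smul_mem' := by
    rintro r x (⟨hk, hr, ha, hm⟩ | rfl)
    · refine Or.inl ⟨fun v hv => ?_, ?_, ha, InFam.smul hm r⟩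
      · rw [LinearMap.mem_ker, LinearMap.smul_apply, LinearMap.mem_ker.1 (hk hv), smul_zero]
      · rintro _ ⟨v, rfl⟩
        exact Submodule.smul_mem _ r (hr ⟨v, rfl⟩)
    · exact Or.inr (smul_zero r)

theorem mem_Rt {a x : End'} (hk : LinearMap.ker a ≤ LinearMap.ker x) (hr : LinearMap.range x ≤ LinearMap.range a)
    (ha : a * a = 0) (hm : InFam G x) : x ∈ Rt G a :=
  Or.inl ⟨hk, hr, range_le_ker_of_sq ha, hm⟩

theorem Qd.self_mem {a : End'} (ha : Qd G d a) : a ∈ Rt G a := mem_Rt le_rfl le_rfl ha.sq ha.mem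

theorem Rt_fam {a x : End'} (hx : x ∈ Rt G a) : InFam G x :=
  hx.elim (fun h => h.2.2.2) fun h => h ▸ InFam.zero

theorem Rt_ker {a x : End'} (hx : x ∈ Rt G a) : LinearMap.ker a ≤ LinearMap.ker x :=
  hx.elim (fun h => h.1) fun h => by rw [h, LinearMap.ker_zero]; exact le_top

theorem Rt_range {a x : End'} (hx : x ∈ Rt G a) : LinearMap.range x ≤ LinearMap.range a :=
  hx.elim (fun h => h.2.1) fun h => by rw [h, LinearMap.range_zero]; exact bot_le

theorem Rt_mul {a x y : End'} (hx : x ∈ Rt G a) (hy : y ∈ Rt G a) : x * y = 0 := by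
  rcases hx with ⟨hk, -, ha, -⟩ | rfl
  · exact mul_eq_zero_of_le ((Rt_range hy).trans (ha.trans hk))
  · exact zero_mul y

theorem Rt_qd (hs : QS G d) {a x : End'} (ha : Qd G d a) (hx : x ∈ Rt G a) (hne : x ≠ 0) :
    Qd G d x ∧ LinearMap.range x = LinearMap.range a ∧ LinearMap.ker x = LinearMap.ker a :=
  ha.same hs.min hne (Rt_fam hx) (Rt_range hx) (Rt_ker hx)

theorem Rt_congr {a a' : End'} (ha : a * a = 0) (ha' : a' * a' = 0) (hr : LinearMap.range a = LinearMap.range a')
    (hk : LinearMap.ker a = LinearMap.ker a') : Rt G a = Rt G a' := by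
  refine le_antisymm (fun x hx => ?_) fun x hx => ?_
  · exact mem_Rt (hk ▸ Rt_ker hx) (hr ▸ Rt_range hx) ha' (Rt_fam hx)
  · exact mem_Rt (hk.symm ▸ Rt_ker hx) (hr.symm ▸ Rt_range hx) ha (Rt_fam hx)

theorem Rt_eq_of_mem (hs : QS G d) {a x : End'} (ha : Qd G d a) (hx : x ∈ Rt G a) (hne : x ≠ 0) :
    Rt G x = Rt G a :=
  let h := Rt_qd hs ha hx hne
  Rt_congr h.1.sq ha.sq h.2.1 h.2.2

/-! ### Opposite position -/

theorem Opp.of_same {a b a' b' : End'} (h : Opp a b) (hr : LinearMap.range a' = LinearMap.range a)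
    (hk : LinearMap.ker a' = LinearMap.ker a) (hr' : LinearMap.range b' = LinearMap.range b)
    (hk' : LinearMap.ker b' = LinearMap.ker b) : Opp a' b' := by
  rw [Opp, hr, hk, hr', hk']; exact h

theorem Opp.of_mem (hs : QS G d) {a b x y : End'} (h : Opp a b) (ha : Qd G d a) (hb : Qd G d b) (hx : x ∈ Rt G a)
    (hy : y ∈ Rt G b) (hx0 : x ≠ 0) (hy0 : y ≠ 0) : Opp x y :=
  let h1 := Rt_qd hs ha hx hx0
  let h2 := Rt_qd hs hb hy hy0
  h.of_same h1.2.1 h1.2.2 h2.2.1 h2.2.2

theorem Opp.isCompl {a b : End'} (h : Opp a b) (ha : Qd G d a) (hb : Qd G d b) :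
    IsCompl (LinearMap.range a) (LinearMap.ker b) := by
  refine (Submodule.isCompl_iff_disjoint _ _ ?_).2 h.1
  have := b.finrank_range_add_finrank_ker
  rw [hb.rank] at this
  rw [ha.rank, this]

/-- The inverse relation is symmetric. -/
theorem Opp.inverse_symm {a b : End'} (h : Opp a b) (ha : Qd G d a) (hb : Qd G d b) (e : a * b * a = -a) :
    b * a * b = -b := by
  have hz : b * a * b + b = 0 := by
    refine LinearMap.ext fun v => ?_
    obtain ⟨r, hr, c, hc, rfl⟩ := Submodule.mem_sup.1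
      ((h.isCompl ha hb).sup_eq_top.ge (Submodule.mem_top (x := v)))
    obtain ⟨w, rfl⟩ := hr
    rw [LinearMap.mem_ker] at hc
    simp only [LinearMap.add_apply, Module.End.mul_apply, map_add, hc, map_zero, LinearMap.zero_apply, add_zero]
    have := LinearMap.congr_fun e w
    simp only [Module.End.mul_apply, LinearMap.neg_apply] at this
    rw [this, map_neg, neg_add_cancel]
  exact eq_neg_of_add_eq_zero_left hz

theorem QS.inverse (hs : QS G d) {a b : End'} (ha : Qd G d a) (hb : Qd G d b) (h : Opp a b) :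
    ∃ y : End', y ∈ Rt G b ∧ Qd G d y ∧ Opp a y ∧ a * y * a = -a ∧ y * a * y = -y := by
  obtain ⟨y, hy, hr, hk, e, -⟩ := exists_inverse hs.dick hs.h2 hs.h3 hs.min ha hb h
  have ho : Opp a y := h.of_same rfl rfl hr hk
  exact ⟨y, mem_Rt hk.ge hr.le hb.sq hy.mem, hy, ho, e, ho.inverse_symm ha hy e⟩

/-- The element exchanging a pair of mutually inverse elements. -/
theorem swap_val {x y : End'} (hxx : x * x = 0) (hyy : y * y = 0) (ex : x * y * x = -x) :
    ((u1 x hxx * u1 y hyy * u1 x hxx : GL') : End') = 1 + x + y + x * y + y * x := by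
  simp only [Units.val_mul, u1_val]
  have : (1 + x) * (1 + y) * (1 + x) = 1 + x + y + x * y + y * x + (x + x * y * x) + x * x := by noncomm_ring
  rw [this, ex, hxx]; abel

theorem swap_conj {x y : End'} (hxx : x * x = 0) (hyy : y * y = 0) (ex : x * y * x = -x) (ey : y * x * y = -y) :
    ((u1 x hxx * u1 y hyy * u1 x hxx : GL') : End') * x =
      y * ((u1 x hxx * u1 y hyy * u1 x hxx : GL') : End') := by
  rw [swap_val hxx hyy ex]
  have e1 : y * x * x = 0 := by rw [mul_assoc, hxx, mul_zero]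
  have e2 : y * (y * x) = 0 := by rw [← mul_assoc, hyy, zero_mul]
  simp only [add_mul, mul_add, one_mul, mul_one, hxx, hyy, ex, e1, e2, ← mul_assoc, ey]
  abel

/-! ### Non-opposite position -/

section NonOpp

variable (hs : QS G d) {a b : Module.End k M} (ha : Qd G d a) (hb : Qd G d b) (hno : ¬ Opp a b)
include hs ha hb hno

theorem triple_zero {x y x' : End'} (hx : x ∈ Rt G a) (hy : y ∈ Rt G b) (hx' : x' ∈ Rt G a) :
    x * y * x' = 0 := by
  by_cases hx'0 : x' = 0
  · rw [hx'0, mul_zero]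
  by_cases hy0 : y = 0
  · rw [hy0, mul_zero, zero_mul]
  obtain ⟨h1, hr, hk⟩ := Rt_qd hs ha hx' hx'0
  obtain ⟨h2, hr2, hk2⟩ := Rt_qd hs hb hy hy0
  rcases hs.dichotomy h1 h2 with ho | ⟨e, -⟩
  · exact absurd (ho.of_same hr.symm hk.symm hr2.symm hk2.symm) hno
  · rw [mul_assoc] at e ⊢
    exact mul_eq_zero_of_le ((le_ker_of_mul_eq_zero e).trans (hk.le.trans (Rt_ker hx)))

theorem triple_zero' {y x y' : End'} (hy : y ∈ Rt G b) (hx : x ∈ Rt G a) (hy' : y' ∈ Rt G b) :
    y * x * y' = 0 :=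
  triple_zero hs hb ha (fun h => hno h.symm) hy hx hy'

theorem comm_props {x y : End'} (hx : x ∈ Rt G a) (hy : y ∈ Rt G b) :
    (x * y - y * x) * (x * y - y * x) = 0 ∧ InFam G (x * y - y * x) := by
  have e : x * y * x = 0 := triple_zero hs ha hb hno hx hy hx
  have e' : y * x * y = 0 := triple_zero' hs ha hb hno hy hx hy
  have xx := Rt_mul hx hx
  have yy := Rt_mul hy hy
  refine ⟨?_, fun c => ?_⟩
  · simp only [sub_mul, mul_sub, ← mul_assoc, e, e', zero_mul]
    simp [mul_assoc x y y, mul_assoc y x x, xx, yy]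
  · obtain ⟨g, hg, he⟩ := (Rt_fam hx) c
    obtain ⟨h, hh, he'⟩ := (Rt_fam hy) 1
    rw [one_smul] at he'
    refine ⟨g * h * g⁻¹ * h⁻¹, mul_mem (mul_mem (mul_mem hg hh) (inv_mem hg)) (inv_mem hh), ?_⟩
    have hgi : ((g⁻¹ : GL') : End') = 1 - c • x :=
      Units.inv_eq_of_mul_eq_one_right (by rw [he]; simp [mul_sub, add_mul, xx])
    have hhi : ((h⁻¹ : GL') : End') = 1 - y :=
      Units.inv_eq_of_mul_eq_one_right (by rw [he']; simp [mul_sub, add_mul, yy])
    rw [Units.val_mul, Units.val_mul, Units.val_mul, he, he', hgi, hhi]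
    simp only [smul_sub, mul_sub, sub_mul, mul_add, add_mul, mul_one, one_mul, smul_mul_assoc, mul_smul_comm,
      ← mul_assoc, smul_smul, e, e', xx, yy, zero_mul, smul_zero]
    simp only [mul_assoc, yy, mul_zero, smul_zero]
    module

theorem dim_data {x y : End'} (hx : x ∈ Rt G a) (hy : y ∈ Rt G b) (hz : x * y - y * x ≠ 0) :
    Qd G d (x * y - y * x) ∧
    LinearMap.range (x * y - y * x) =
      LinearMap.range a ⊓ LinearMap.ker b ⊔ LinearMap.range b ⊓ LinearMap.ker a ∧
    LinearMap.ker (x * y - y * x) =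
      (LinearMap.range a ⊔ LinearMap.ker b) ⊓ (LinearMap.range b ⊔ LinearMap.ker a) ∧
    Module.finrank k ↥(LinearMap.range a ⊓ LinearMap.ker b) +
      Module.finrank k ↥(LinearMap.range b ⊓ LinearMap.ker a) = d ∧
    Disjoint (LinearMap.range a ⊓ LinearMap.ker b) (LinearMap.range b ⊓ LinearMap.ker a) ∧
    LinearMap.range (x * y) = LinearMap.range a ⊓ LinearMap.ker b ∧
    LinearMap.range (y * x) = LinearMap.range b ⊓ LinearMap.ker a := by
  obtain ⟨hsq, hmem⟩ := comm_props hs ha hb hno hx hy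
  have hd := hs.min _ hsq hz hmem
  have hx0 : x ≠ 0 := fun h => hz (by simp [h])
  have hy0 : y ≠ 0 := fun h => hz (by simp [h])
  obtain ⟨qx, rx, kx⟩ := Rt_qd hs ha hx hx0
  obtain ⟨qy, ry, ky⟩ := Rt_qd hs hb hy hy0
  rw [← rx, ← kx, ← ry, ← ky]
  have e : x * y * x = 0 := triple_zero hs ha hb hno hx hy hx
  have e' : y * x * y = 0 := triple_zero' hs ha hb hno hy hx hy
  set P := LinearMap.range x ⊓ LinearMap.ker y
  set Q := LinearMap.range y ⊓ LinearMap.ker x
  have rxy : LinearMap.range (x * y) ≤ P :=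
    le_inf (range_mul_le _ _) (le_ker_of_mul_eq_zero (by rw [← mul_assoc]; exact e'))
  have ryx : LinearMap.range (y * x) ≤ Q :=
    le_inf (range_mul_le _ _) (le_ker_of_mul_eq_zero (by rw [← mul_assoc]; exact e))
  have cnt : ∀ {u v : End'}, Module.finrank k (LinearMap.range v) = d →
      Module.finrank k (LinearMap.range (u * v)) +
        Module.finrank k ↥(LinearMap.range v ⊓ LinearMap.ker u) = d := by
    intro u v hv
    have h := (u.domRestrict (LinearMap.range v)).finrank_range_add_finrank_ker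
    rw [hv, LinearMap.range_domRestrict, LinearMap.ker_domRestrict] at h
    rw [← h]
    congr 1
    · rw [Module.End.mul_eq_comp, LinearMap.range_comp]
    · rw [← LinearEquiv.finrank_eq (Submodule.equivMapOfInjective (Submodule.subtype (LinearMap.range v))
        (Submodule.injective_subtype _) (Submodule.comap (Submodule.subtype (LinearMap.range v)) (LinearMap.ker u))).symm,
        Submodule.map_comap_subtype]
  have c1 : Module.finrank k (LinearMap.range (x * y)) + Module.finrank k ↥Q = d := cnt qy.rank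
  have c2 : Module.finrank k (LinearMap.range (y * x)) + Module.finrank k ↥P = d := cnt qx.rank
  have d1 := Submodule.finrank_mono rxy
  have d2 := Submodule.finrank_mono ryx
  set z := x * y - y * x with hzdef
  have rz : LinearMap.range z ≤ LinearMap.range (x * y) ⊔ LinearMap.range (y * x) := by
    rintro _ ⟨v, rfl⟩
    exact sub_mem (Submodule.mem_sup_left ⟨v, rfl⟩) (Submodule.mem_sup_right ⟨v, rfl⟩)
  have d3 := (Submodule.finrank_mono rz).trans (Submodule.finrank_add_le_finrank_add_finrank _ _)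
  have hrk : Module.finrank k (LinearMap.range z) = d := by omega
  have exy : LinearMap.range (x * y) = P := Submodule.eq_of_le_of_finrank_eq rxy (by omega)
  have eyx : LinearMap.range (y * x) = Q := Submodule.eq_of_le_of_finrank_eq ryx (by omega)
  have hpq : Module.finrank k ↥P + Module.finrank k ↥Q = d := by omega
  rw [exy, eyx] at rz
  have d4 := (Submodule.finrank_mono rz)
  have d5 := Submodule.finrank_sup_add_finrank_inf_eq P Q
  have erz : LinearMap.range z = P ⊔ Q := Submodule.eq_of_le_of_finrank_le rz (by omega)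
  have hdisj : Disjoint P Q := disjoint_iff.2 (Submodule.finrank_eq_zero.1 (by omega))
  refine ⟨⟨hsq, hz, hmem, hrk⟩, erz, ?_, hpq, hdisj, exy, eyx⟩
  have kxy : ∀ {u v : End'}, u * v * u = 0 → LinearMap.range u ⊔ LinearMap.ker v ≤ LinearMap.ker (u * v) :=
    fun h => sup_le (le_ker_of_mul_eq_zero h) (ker_le_ker_mul _ _)
  have exk : ∀ {u v : End'}, u * v * u = 0 → Module.finrank k (LinearMap.range u) = d →
      Module.finrank k (LinearMap.range v) = d →
      LinearMap.range (u * v) = LinearMap.range u ⊓ LinearMap.ker v →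
      LinearMap.ker (u * v) = LinearMap.range u ⊔ LinearMap.ker v := by
    intro u v h hu hv hr
    refine (Submodule.eq_of_le_of_finrank_le (kxy h) ?_).symm
    have h1 := (u * v).finrank_range_add_finrank_ker
    rw [hr] at h1
    have h2 := Submodule.finrank_sup_add_finrank_inf_eq (LinearMap.range u) (LinearMap.ker v)
    have h3 := v.finrank_range_add_finrank_ker
    omega
  rw [← exk e qx.rank qy.rank exy, ← exk e' qy.rank qx.rank eyx]
  ext v
  simp only [Submodule.mem_inf, LinearMap.mem_ker, hzdef, LinearMap.sub_apply, sub_eq_zero]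
  constructor
  · intro h
    have h0 : (x * y) v = 0 := Submodule.disjoint_def.1 hdisj _ (exy ▸ ⟨v, rfl⟩) (eyx ▸ ⟨v, h.symm⟩)
    exact ⟨h0, h ▸ h0⟩
  · rintro ⟨h, h'⟩
    rw [h, h']

theorem comm_ne_left {x y x' : End'} (hx : x ∈ Rt G a) (hy : y ∈ Rt G b) (hz : x * y - y * x ≠ 0)
    (hx' : x' ∈ Rt G a) (hx'0 : x' ≠ 0) : x' * y - y * x' ≠ 0 := by
  intro h
  obtain ⟨-, -, -, hpq, hdisj, -, -⟩ := dim_data hs ha hb hno hx hy hz
  have hy0 : y ≠ 0 := fun h => hz (by simp [h])
  obtain ⟨qy, ry, ky⟩ := Rt_qd hs hb hy hy0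
  obtain ⟨qx, rx, kx⟩ := Rt_qd hs ha hx' hx'0
  rw [sub_eq_zero] at h
  have h0 : x' * y = 0 := by
    refine LinearMap.ext fun v => ?_
    refine Submodule.disjoint_def.1 hdisj _ ⟨rx ▸ LinearMap.mem_range_self x' (y v), ?_⟩ ⟨?_, ?_⟩
    · rw [← ky]
      exact LinearMap.congr_fun (show y * (x' * y) = 0 by
        rw [← mul_assoc]; exact triple_zero' hs ha hb hno hy hx' hy) v
    · rw [h, ← ry]; exact LinearMap.mem_range_self y (x' v)
    · rw [h, ← kx]
      exact LinearMap.congr_fun (show x' * (y * x') = 0 by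
        rw [← mul_assoc]; exact triple_zero hs ha hb hno hx' hy hx') v
  have h1 : LinearMap.range b ≤ LinearMap.ker a := ry ▸ kx ▸ le_ker_of_mul_eq_zero h0
  have h2 : LinearMap.range a ≤ LinearMap.ker b := rx ▸ ky ▸ le_ker_of_mul_eq_zero (h ▸ h0)
  rw [inf_eq_left.2 h1, inf_eq_left.2 h2, ha.rank, hb.rank] at hpq
  have : 0 < d := by
    rw [← ha.rank, Nat.pos_iff_ne_zero, ne_eq, Submodule.finrank_eq_zero, LinearMap.range_eq_bot]
    exact ha.ne
  omega

theorem mul_comm_root {x y x' : End'} (hx : x ∈ Rt G a) (hy : y ∈ Rt G b) (hx' : x' ∈ Rt G a) :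
    x' * (x * y - y * x) = 0 ∧ (x * y - y * x) * x' = 0 := by
  constructor
  · rw [mul_sub, ← mul_assoc, Rt_mul hx' hx, zero_mul, ← mul_assoc, triple_zero hs ha hb hno hx' hy hx, sub_zero]
  · rw [sub_mul, triple_zero hs ha hb hno hx hy hx', mul_assoc, Rt_mul hx hx', mul_zero, sub_zero]

theorem mul_comm_root' {x y y' : End'} (hx : x ∈ Rt G a) (hy : y ∈ Rt G b) (hy' : y' ∈ Rt G b) :
    y' * (x * y - y * x) = 0 ∧ (x * y - y * x) * y' = 0 := by
  obtain ⟨h1, h2⟩ := mul_comm_root hs hb ha (fun h => hno h.symm) hy hx hy'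
  rw [← neg_sub (y * x) (x * y), mul_neg, neg_mul, h1, h2]
  simp

end NonOpp

/-- Elementwise commuting position. -/
def Comm2 (G : Subgroup GL') (a b : End') : Prop := ∀ x ∈ Rt G a, ∀ y ∈ Rt G b, x * y = y * x

/-- Commutator position. -/
def Cls (G : Subgroup GL') (a b : End') : Prop :=
  ¬ Opp a b ∧ ∀ x ∈ Rt G a, ∀ y ∈ Rt G b, x ≠ 0 → y ≠ 0 → x * y - y * x ≠ 0

theorem Comm2.symm {a b : End'} (h : Comm2 G a b) : Comm2 G b a := fun x hx y hy => (h y hy x hx).symm

theorem Cls.symm {a b : End'} (h : Cls G a b) : Cls G b a :=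
  ⟨fun ho => h.1 ho.symm, fun x hx y hy hx0 hy0 h0 => h.2 y hy x hx hy0 hx0 (by rw [← neg_sub, h0, neg_zero])⟩

theorem Cls.z_ne {a b : End'} (h : Cls G a b) (ha : Qd G d a) (hb : Qd G d b) : a * b - b * a ≠ 0 :=
  h.2 a ha.self_mem b hb.self_mem ha.ne hb.ne

theorem not_opp_comm {a b : End'} (ha : Qd G d a) (h : Comm2 G a b) (hb : Qd G d b) : ¬ Opp a b := fun ho =>
  ho.triple_ne ha.ne (by rw [mul_assoc, ← h a ha.self_mem b hb.self_mem, ← mul_assoc, ha.sq, zero_mul])

theorem trichotomy (hs : QS G d) {a b : End'} (ha : Qd G d a) (hb : Qd G d b) :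
    Opp a b ∨ Comm2 G a b ∨ Cls G a b := by
  by_cases ho : Opp a b
  · exact Or.inl ho
  refine Or.inr ?_
  by_cases hc : Comm2 G a b
  · exact Or.inl hc
  refine Or.inr ⟨ho, fun x hx y hy hx0 hy0 => ?_⟩
  simp only [Comm2, not_forall] at hc
  obtain ⟨x0, hx0', y0, hy0', hne⟩ := hc
  have h1 := comm_ne_left hs ha hb ho hx0' hy0' (sub_ne_zero.2 hne) hx hx0
  have h2 := comm_ne_left hs hb ha (fun h => ho h.symm) hy0' hx
    (fun h => h1 (by rw [← neg_sub, h, neg_zero])) hy hy0
  exact fun h => h2 (by rw [← neg_sub, h, neg_zero])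

theorem Cls.z_mem (hs : QS G d) {a b : End'} (h : Cls G a b) (ha : Qd G d a) (hb : Qd G d b) {x y : End'}
    (hx : x ∈ Rt G a) (hy : y ∈ Rt G b) : x * y - y * x ∈ Rt G (a * b - b * a) := by
  by_cases h0 : x * y - y * x = 0
  · rw [h0]; exact zero_mem _
  obtain ⟨q, r, kk, -⟩ := dim_data hs ha hb h.1 hx hy h0
  obtain ⟨q', r', kk', -⟩ := dim_data hs ha hb h.1 ha.self_mem hb.self_mem (h.z_ne ha hb)
  exact mem_Rt (kk.trans kk'.symm).ge (r.trans r'.symm).le q'.sq q.mem

theorem Cls.z_qd (hs : QS G d) {a b : End'} (h : Cls G a b) (ha : Qd G d a) (hb : Qd G d b) :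
    Qd G d (a * b - b * a) :=
  (dim_data hs ha hb h.1 ha.self_mem hb.self_mem (h.z_ne ha hb)).1

theorem Cls.z_ann (hs : QS G d) {a b : End'} (h : Cls G a b) (ha : Qd G d a) (hb : Qd G d b) {x w : End'}
    (hx : x ∈ Rt G a) (hw : w ∈ Rt G (a * b - b * a)) : x * w = 0 ∧ w * x = 0 := by
  obtain ⟨h1, h2⟩ := mul_comm_root hs ha hb h.1 ha.self_mem hb.self_mem hx
  exact ⟨mul_eq_zero_of_le ((Rt_range hw).trans (le_ker_of_mul_eq_zero h1)),
    mul_eq_zero_of_le ((le_ker_of_mul_eq_zero h2).trans (Rt_ker hw))⟩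

theorem Cls.z_ann' (hs : QS G d) {a b : End'} (h : Cls G a b) (ha : Qd G d a) (hb : Qd G d b) {y w : End'}
    (hy : y ∈ Rt G b) (hw : w ∈ Rt G (a * b - b * a)) : y * w = 0 ∧ w * y = 0 := by
  obtain ⟨h1, h2⟩ := mul_comm_root' hs ha hb h.1 ha.self_mem hb.self_mem hy
  exact ⟨mul_eq_zero_of_le ((Rt_range hw).trans (le_ker_of_mul_eq_zero h1)),
    mul_eq_zero_of_le ((le_ker_of_mul_eq_zero h2).trans (Rt_ker hw))⟩

/-- The commutator root is different from both roots. -/
theorem Cls.z_not_mem (hs : QS G d) {a b : End'} (h : Cls G a b) (ha : Qd G d a) (hb : Qd G d b) {w : End'}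
    (hw : w ∈ Rt G (a * b - b * a)) (hwa : w ∈ Rt G a) : w = 0 := by
  by_contra hw0
  obtain ⟨-, r1, k1⟩ := Rt_qd hs ha hwa hw0
  obtain ⟨h1, h2⟩ := h.z_ann' hs ha hb hb.self_mem hw
  have e1 : b * a = 0 := mul_eq_zero_of_le (r1 ▸ le_ker_of_mul_eq_zero h1)
  have e2 : a * b = 0 := mul_eq_zero_of_le (k1 ▸ le_ker_of_mul_eq_zero h2)
  exact h.z_ne ha hb (by rw [e1, e2, sub_zero])

end Cfsg.Agent.Lead.QP
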