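/-
Root subgroups of a quadratic pair: conjugation, flags, unipotent pairs and the existence of opposite partners.
-/
import Cfsg.Agent.Lib.Lead.QP.Roots
import Cfsg.Agent.S5061

set_option autoImplicit false
set_option linter.unusedSectionVars false

universe u

namespace Cfsg.Agent.Lead.QP

open Cfsg Polynomial

variable {k : Type u} [Field k] {M : Type u} [AddCommGroup M] [Module k M] [FiniteDimensional k M]

local notation "End'" => Module.End k M
local notation "GL'" => LinearMap.GeneralLinearGroup k M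

variable {G : Subgroup (Module.End k M)ˣ} {d : ℕ}

/-! ### Conjugation -/

/-- Conjugation by a unit. -/
def cj (g : GL') : End' ≃ₗ[k] End' where
  toFun x := (g : End') * x * ((g⁻¹ : GL') : End')
  invFun x := ((g⁻¹ : GL') : End') * x * (g : End')
  map_add' x y := by rw [mul_add, add_mul]
  map_smul' c x := by rw [mul_smul_comm, smul_mul_assoc, RingHom.id_apply]
  left_inv x := by simp [mul_assoc]
  right_inv x := by simp [mul_assoc]

theorem cj_apply (g : GL') (x : End') : cj g x = (g : End') * x * ((g⁻¹ : GL') : End') := rfl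

theorem cj_mul (g : GL') (x y : End') : cj g (x * y) = cj g x * cj g y := by
  simp [cj_apply, mul_assoc]

theorem cj_comp (g h : GL') (x : End') : cj g (cj h x) = cj (g * h) x := by
  simp [cj_apply, mul_assoc, mul_inv_rev]

theorem cj_one (x : End') : cj (1 : GL') x = x := by simp [cj_apply]

theorem cj_inv (g : GL') (x : End') : cj g⁻¹ (cj g x) = x := by rw [cj_comp, inv_mul_cancel, cj_one]

theorem InFam.cj {x : End'} (h : InFam G x) {g : GL'} (hg : g ∈ Subgroup.normalizer (G : Set GL')) : InFam G (cj g x) := fun c => by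
  obtain ⟨e, he, hev⟩ := h c
  refine ⟨g * e * g⁻¹, (Subgroup.mem_normalizer_iff.1 hg e).1 he, ?_⟩
  rw [Units.val_mul, Units.val_mul, hev, mul_add, add_mul, mul_one, ← Units.val_mul, mul_inv_cancel, Units.val_one,
    mul_smul_comm, smul_mul_assoc]
  rfl

theorem range_cj (g : GL') (x : End') :
    LinearMap.range (cj g x) = (LinearMap.range x).map ((g : End')) := by
  rw [cj_apply, Module.End.mul_eq_comp, LinearMap.range_comp_of_range_eq_top, Module.End.mul_eq_comp,
    LinearMap.range_comp]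
  refine LinearMap.range_eq_top.2 fun v => ⟨(g : End') v, ?_⟩
  rw [← Module.End.mul_apply, ← Units.val_mul, inv_mul_cancel]
  rfl

theorem ker_cj (g : GL') (x : End') :
    LinearMap.ker (cj g x) = (LinearMap.ker x).comap (((g⁻¹ : GL') : End')) := by
  ext v
  simp only [LinearMap.mem_ker, Submodule.mem_comap, cj_apply, Module.End.mul_apply]
  constructor
  · intro h
    have := congrArg ((g⁻¹ : GL') : End') h
    rwa [map_zero, ← Module.End.mul_apply, ← Units.val_mul, inv_mul_cancel, Units.val_one, Module.End.one_apply]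
      at this
  · intro h; rw [h, map_zero]

theorem Qd.cj {a : End'} (ha : Qd G d a) {g : GL'} (hg : g ∈ Subgroup.normalizer (G : Set GL')) : Qd G d (cj g a) := by
  refine ⟨?_, fun h => ha.ne ((LinearEquiv.map_eq_zero_iff _).1 h), InFam.cj ha.mem hg, ?_⟩
  · rw [← cj_mul, ha.sq, map_zero]
  · rw [range_cj]
    refine Eq.trans ?_ ha.rank
    exact LinearEquiv.finrank_eq (Submodule.equivMapOfInjective _
      (fun v w h => by
        have := congrArg ((g⁻¹ : GL') : End') h
        simpa [← Module.End.mul_apply] using this) _).symm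

theorem cj_mem_Rt {a x : End'} (ha : a * a = 0) (hx : x ∈ Rt G a) {g : GL'} (hg : g ∈ Subgroup.normalizer (G : Set GL')) :
    cj g x ∈ Rt G (cj g a) := by
  refine mem_Rt ?_ ?_ (by rw [← cj_mul, ha, map_zero]) (InFam.cj (Rt_fam hx) hg)
  · rw [ker_cj, ker_cj]; exact Submodule.comap_mono (Rt_ker hx)
  · rw [range_cj, range_cj]; exact Submodule.map_mono (Rt_range hx)

theorem Rt_cj {a : End'} (ha : a * a = 0) {g : GL'} (hg : g ∈ Subgroup.normalizer (G : Set GL')) :
    Rt G (cj g a) = (Rt G a).map (cj g : End' →ₗ[k] End') := by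
  refine le_antisymm (fun x hx => ⟨cj g⁻¹ x, ?_, ?_⟩) (Submodule.map_le_iff_le_comap.2 fun x hx => cj_mem_Rt ha hx hg)
  · have := cj_mem_Rt (by rw [← cj_mul, ha, map_zero]) hx (inv_mem hg)
    rwa [cj_inv] at this
  · change cj g (cj g⁻¹ x) = x
    rw [cj_comp, mul_inv_cancel, cj_one]

theorem finrank_Rt_cj {a : End'} (ha : a * a = 0) {g : GL'} (hg : g ∈ Subgroup.normalizer (G : Set GL')) :
    Module.finrank k ↥(Rt G (cj g a)) = Module.finrank k ↥(Rt G a) := by
  rw [Rt_cj ha hg, LinearEquiv.finrank_map_eq]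

theorem opp_conj (hs : QS G d) {a b : End'} (ha : Qd G d a) (hb : Qd G d b) (h : Opp a b) :
    ∃ g ∈ G, Rt G (cj g a) = Rt G b := by
  obtain ⟨y, hy, qy, -, ex, ey⟩ := hs.inverse ha hb h
  set w : GL' := u1 a ha.sq * u1 y qy.sq * u1 a ha.sq with hw
  have hwG : w ∈ G := mul_mem (mul_mem (InFam.u1_mem ha.mem ha.sq) (InFam.u1_mem qy.mem qy.sq))
    (InFam.u1_mem ha.mem ha.sq)
  refine ⟨w, hwG, ?_⟩
  rw [show cj w a = y by
    rw [cj_apply, swap_conj ha.sq qy.sq ex ey, mul_assoc, ← Units.val_mul, mul_inv_cancel, Units.val_one, mul_one]]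
  exact Rt_eq_of_mem hs hb hy qy.ne

/-! ### Flags -/

/-- Elements acting trivially on the factors of a flag. -/
def flag (W1 W2 : Submodule k M) : Subgroup GL' where
  carrier := {g | (∀ v, (g : End') v - v ∈ W1) ∧ (∀ v ∈ W1, (g : End') v - v ∈ W2) ∧ ∀ v ∈ W2, (g : End') v = v}
  one_mem' := ⟨fun v => by simp, fun v _ => by simp, fun v _ => rfl⟩
  mul_mem' := by
    rintro g h ⟨g1, g2, g3⟩ ⟨h1, h2, h3⟩
    refine ⟨fun v => ?_, fun v hv => ?_, fun v hv => ?_⟩
    · rw [Units.val_mul, Module.End.mul_apply, ← sub_add_sub_cancel _ ((h : End') v)]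
      exact add_mem (g1 _) (h1 v)
    · rw [Units.val_mul, Module.End.mul_apply, ← sub_add_sub_cancel _ ((h : End') v)]
      refine add_mem (g2 _ ?_) (h2 v hv)
      rw [← sub_add_cancel ((h : End') v) v]
      exact add_mem (h1 v) hv
    · rw [Units.val_mul, Module.End.mul_apply, h3 v hv, g3 v hv]
  inv_mem' := by
    rintro g ⟨g1, g2, g3⟩
    have e : ∀ v, (g : End') (((g⁻¹ : GL') : End') v) = v := fun v => by
      rw [← Module.End.mul_apply, ← Units.val_mul, mul_inv_cancel]; rfl
    have key : ∀ v, ((g⁻¹ : GL') : End') v - v =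
        -((g : End') (((g⁻¹ : GL') : End') v) - ((g⁻¹ : GL') : End') v) := fun v => by rw [e, neg_sub]
    refine ⟨fun v => ?_, fun v hv => ?_, fun v hv => ?_⟩
    · rw [key]; exact neg_mem (g1 _)
    · rw [key]
      refine neg_mem (g2 _ ?_)
      rw [← sub_add_cancel (((g⁻¹ : GL') : End') v) v, key]
      exact add_mem (neg_mem (g1 _)) hv
    · conv_lhs => rw [← g3 v hv]
      rw [← Module.End.mul_apply, ← Units.val_mul, inv_mul_cancel]
      rfl

theorem unipotent_iff {H : Subgroup GL'} : IsUnipotentOn H ↔ ∃ n : ℕ, ∀ l : List GL', (∀ g ∈ l, g ∈ H) →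
    l.length = n → (l.map fun g : GL' => (g : End') - 1).prod = 0 := by
  simp [IsUnipotentOn, Function.comp_def, List.map_flatMap, ← List.map_eq_flatMap]

theorem flag_unipotent {W1 W2 : Submodule k M} {H : Subgroup GL'} (h : H ≤ flag W1 W2) : IsUnipotentOn H := by
  refine unipotent_iff.2 ⟨3, fun l hl hlen => ?_⟩
  obtain ⟨p, q, r, rfl⟩ := List.length_eq_three.mp hlen
  refine LinearMap.ext fun v => ?_
  have h1 := (h (hl r (by simp))).1 v
  have h2 := (h (hl q (by simp))).2.1 _ h1
  have h3 := (h (hl p (by simp))).2.2 _ h2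
  change (p : End') ((q : End') ((r : End') v - v) - ((r : End') v - v)) -
      ((q : End') ((r : End') v - v) - ((r : End') v - v)) = 0
  rw [h3, sub_self]

/-! ### Root groups -/

/-- The root group of an element. -/
def Rg (G : Subgroup (Module.End k M)ˣ) (a : End') : Subgroup GL' where
  carrier := {g | (g : End') - 1 ∈ Rt G a}
  one_mem' := by simp
  mul_mem' := by
    intro g h hg hh
    change ((g * h : GL') : End') - 1 ∈ Rt G a
    rw [Units.val_mul, show (g : End') * h - 1 = ((g : End') - 1) + ((h : End') - 1) +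
      ((g : End') - 1) * ((h : End') - 1) by noncomm_ring, Rt_mul hg hh, add_zero]
    exact add_mem hg hh
  inv_mem' := by
    intro g hg
    change ((g⁻¹ : GL') : End') - 1 ∈ Rt G a
    rw [Units.inv_eq_of_mul_eq_one_right (u := g) (a := 1 - ((g : End') - 1))]
    · simpa using neg_mem (show (g : End') - 1 ∈ Rt G a from hg)
    · have := Rt_mul hg hg
      rw [show (g : End') * (1 - ((g : End') - 1)) = 1 - ((g : End') - 1) * ((g : End') - 1) by noncomm_ring,
        this, sub_zero]

theorem mem_Rg {a : End'} {g : GL'} : g ∈ Rg G a ↔ (g : End') - 1 ∈ Rt G a := Iff.rfl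

theorem Rg_le (a : End') : Rg G a ≤ G := fun g hg => by
  obtain ⟨e, he, hev⟩ := Rt_fam hg 1
  rw [one_smul, add_sub_cancel] at hev
  rwa [Units.ext hev] at he

theorem exists_mem_Rg {a x : End'} (hx : x ∈ Rt G a) : ∃ g ∈ Rg G a, (g : End') = 1 + x := by
  refine ⟨u1 x (Rt_mul hx hx), ?_, rfl⟩
  rw [mem_Rg, u1_val, add_sub_cancel_left]
  exact hx

theorem Rg_congr {a b : End'} (h : Rt G a = Rt G b) : Rg G a = Rg G b := by
  ext g; rw [mem_Rg, mem_Rg, h]

theorem conjBy_Rg {a : End'} (ha : a * a = 0) {g : GL'} (hg : g ∈ Subgroup.normalizer (G : Set GL')) :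
    conjBy (Rg G a) g = Rg G (cj g a) := by
  have e : ∀ (g e : GL'), ((g * e * g⁻¹ : GL') : End') - 1 = cj g ((e : End') - 1) := fun g e => by
    rw [cj_apply, mul_sub, sub_mul, mul_one, ← Units.val_mul, ← Units.val_mul, ← Units.val_mul, mul_inv_cancel,
      Units.val_one]
  refine le_antisymm ?_ fun x hx => ⟨g⁻¹ * x * g, ?_, by simp [mul_assoc]⟩
  · rintro _ ⟨x, hx, rfl⟩
    change ((g * x * g⁻¹ : GL') : End') - 1 ∈ Rt G (cj g a)
    rw [e]
    exact cj_mem_Rt ha hx hg
  · have h1 := cj_mem_Rt (by rw [← cj_mul, ha, map_zero]) (mem_Rg.1 hx) (inv_mem hg)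
    rw [cj_inv, ← e, inv_inv] at h1
    exact h1

theorem Rg_ne_bot {a : End'} (ha : Qd G d a) : Rg G a ≠ ⊥ := fun h => by
  obtain ⟨g, hg, he⟩ := exists_mem_Rg ha.self_mem
  rw [h, Subgroup.mem_bot] at hg
  rw [hg, Units.val_one] at he
  exact ha.ne (add_eq_left.1 he.symm)

theorem Rg_comm {a : End'} : IsMulCommutative (Rg G a) := ⟨⟨fun g h => by
  refine Subtype.ext (Units.ext ?_)
  have h1 := Rt_mul g.2 h.2
  have h2 := Rt_mul h.2 g.2
  simp only [sub_mul, mul_sub, one_mul, mul_one, sub_eq_zero] at h1 h2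
  simp only [Subgroup.coe_mul, Units.val_mul]
  exact sub_eq_zero.1 (by linear_combination (norm := abel_nf) h1 - h2)⟩⟩

theorem comm_val {g h : GL'} {x y : End'} (hg : (g : End') = 1 + x) (hh : (h : End') = 1 + y) (xx : x * x = 0)
    (yy : y * y = 0) (e : x * y * x = 0) (e' : y * x * y = 0) :
    ((g * h * g⁻¹ * h⁻¹ : GL') : End') = 1 + (x * y - y * x) := by
  have hgi : ((g⁻¹ : GL') : End') = 1 - x :=
    Units.inv_eq_of_mul_eq_one_right (by rw [hg]; simp [mul_sub, add_mul, xx])
  have hhi : ((h⁻¹ : GL') : End') = 1 - y :=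
    Units.inv_eq_of_mul_eq_one_right (by rw [hh]; simp [mul_sub, add_mul, yy])
  rw [Units.val_mul, Units.val_mul, Units.val_mul, hg, hh, hgi, hhi]
  simp only [mul_sub, sub_mul, mul_add, add_mul, mul_one, one_mul, ← mul_assoc, e, e', xx, yy, zero_mul]
  simp only [mul_assoc, yy, mul_zero]
  abel

/-- Two roots not in opposite position generate a group stabilising a short flag. -/
theorem sup_le_flag (hs : QS G d) {a b : End'} (ha : Qd G d a) (hb : Qd G d b) (hno : ¬ Opp a b) :
    Rg G a ⊔ Rg G b ≤ flag (LinearMap.range a ⊔ LinearMap.range b)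
      (LinearMap.range (a * b) ⊔ LinearMap.range (b * a)) := by
  have key : ∀ {a b : End'}, Qd G d a → Qd G d b → ¬ Opp a b →
      Rg G a ≤ flag (LinearMap.range a ⊔ LinearMap.range b)
        (LinearMap.range (a * b) ⊔ LinearMap.range (b * a)) := by
    intro a b ha hb hno g hg
    set x := (g : End') - 1 with hx
    have hmem : x ∈ Rt G a := hg
    have hxv : ∀ v, (g : End') v - v = x v := fun v => rfl
    have e1 : x * b * a = 0 := triple_zero hs ha hb hno hmem hb.self_mem ha.self_mem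
    refine ⟨fun v => Submodule.mem_sup_left (Rt_range hmem ⟨v, rfl⟩), fun v hv => ?_, fun v hv => ?_⟩
    · obtain ⟨_, ⟨p, rfl⟩, _, ⟨q, rfl⟩, rfl⟩ := Submodule.mem_sup.1 hv
      rw [hxv, map_add, show x (a p) = 0 from LinearMap.congr_fun (Rt_mul hmem ha.self_mem) p, zero_add]
      refine Submodule.mem_sup_left ?_
      by_cases hx0 : x = 0
      · rw [hx0]; simp
      obtain ⟨w, hw⟩ : x (b q) ∈ LinearMap.range (x * b) := ⟨q, rfl⟩
      by_cases hz : x * b - b * x = 0
      · have : x (b q) = b (x q) := LinearMap.congr_fun (sub_eq_zero.1 hz) q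
        obtain ⟨r, hr⟩ : x q ∈ LinearMap.range a := Rt_range hmem ⟨q, rfl⟩
        by_cases hz' : a * b - b * a = 0
        · rw [this, ← hr]
          exact ⟨r, LinearMap.congr_fun (sub_eq_zero.1 hz') r⟩
        · exact absurd hz (comm_ne_left hs ha hb hno ha.self_mem hb.self_mem hz' hmem hx0)
      · obtain ⟨-, -, -, -, -, r1, -⟩ := dim_data hs ha hb hno hmem hb.self_mem hz
        by_cases hz' : a * b - b * a = 0
        · exact absurd hz' (comm_ne_left hs ha hb hno hmem hb.self_mem hz ha.self_mem ha.ne)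
        · obtain ⟨-, -, -, -, -, r2, -⟩ := dim_data hs ha hb hno ha.self_mem hb.self_mem hz'
          rw [r2, ← r1]
          exact ⟨q, rfl⟩
    · obtain ⟨_, ⟨p, rfl⟩, _, ⟨q, rfl⟩, rfl⟩ := Submodule.mem_sup.1 hv
      rw [← sub_eq_zero, hxv, map_add,
        show x ((a * b) p) = 0 from LinearMap.congr_fun (Rt_mul hmem ha.self_mem) (b p), zero_add]
      exact LinearMap.congr_fun e1 q
  refine sup_le (key ha hb hno) ?_
  rw [sup_comm (LinearMap.range a), sup_comm (LinearMap.range (a * b))]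
  exact key hb ha fun h => hno h.symm

theorem not_unipotent_of_opp (hs : QS G d) {a b : End'} (ha : Qd G d a) (hb : Qd G d b) (h : Opp a b)
    {H : Subgroup GL'} (hH : H2 k a b ≤ H) : ¬ IsUnipotentOn H := by
  intro hu
  obtain ⟨n, hn⟩ := unipotent_iff.1 hu
  obtain ⟨y, -, -, -, e, hfam⟩ := exists_inverse hs.dick hs.h2 hs.h3 hs.min ha hb h
  obtain ⟨gy, hgy, hgyv⟩ := hfam 1
  rw [one_smul] at hgyv
  have hga : u1 a ha.sq ∈ H2 k a b := Subgroup.subset_closure (Or.inl ⟨1, by simp⟩)
  have hprod : ∀ j : ℕ, ∃ l : List GL', (∀ g ∈ l, g ∈ H) ∧ l.length = 2 * j + 1 ∧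
      ((l.map fun g : GL' => (g : End') - 1).prod = a ∨ (l.map fun g : GL' => (g : End') - 1).prod = -a) := by
    intro j
    induction j with
    | zero => exact ⟨[u1 a ha.sq], by simpa using hH hga, rfl, by simp⟩
    | succ j ih =>
      obtain ⟨l, hl, hlen, hval⟩ := ih
      refine ⟨u1 a ha.sq :: gy :: l, ?_, by simp [hlen]; omega, ?_⟩
      · intro g hg
        rcases List.mem_cons.1 hg with rfl | hg
        · exact hH hga
        · rcases List.mem_cons.1 hg with rfl | hg
          exacts [hH hgy, hl g hg]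
      · simp only [List.map_cons, List.prod_cons, u1_val, hgyv, add_sub_cancel_left, ← mul_assoc]
        rcases hval with hv | hv <;> rw [hv]
        · exact Or.inr e
        · exact Or.inl (by rw [mul_neg, e, neg_neg])
  obtain ⟨l, hl, hlen, hval⟩ := hprod n
  have h0 : (l.map fun g : GL' => (g : End') - 1).prod = 0 := by
    rw [← List.take_append_drop n l, List.map_append, List.prod_append,
      hn (l.take n) (fun g hg => hl g (List.mem_of_mem_take hg)) (by rw [List.length_take]; omega), zero_mul]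
  rcases hval with hv | hv <;> rw [h0] at hv
  · exact ha.ne hv.symm
  · exact ha.ne (neg_eq_zero.1 hv.symm)

/-- A normalised unipotent subgroup of an irreducible group is trivial. -/
theorem unipotent_normal_trivial (hirr : IsIrreducibleFor G) {V : Subgroup GL'} (hV : IsUnipotentOn V)
    (hn : ∀ g ∈ G, ∀ x ∈ V, g⁻¹ * x * g ∈ V) : V = ⊥ := by
  classical
  obtain ⟨n, hn'⟩ := unipotent_iff.1 hV
  let P : ℕ → Prop := fun m => ∀ l : List GL', (∀ g ∈ l, g ∈ V) → l.length = m →
    (l.map fun g : GL' => (g : End') - 1).prod = 0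
  have hex : ∃ m, P m := ⟨n, hn'⟩
  obtain ⟨⟨m0, hm0⟩, hW⟩ := hirr
  have hpos : Nat.find hex ≠ 0 := fun h => hm0 (by
    have := (h ▸ Nat.find_spec hex : P 0) [] (by simp) rfl
    simpa using LinearMap.congr_fun this m0)
  obtain ⟨m, hm⟩ : ∃ m, Nat.find hex = m + 1 := ⟨Nat.find hex - 1, by omega⟩
  let Fix : Submodule k M :=
    { carrier := {v | ∀ x ∈ V, (x : End') v = v}
      add_mem' := fun {v w} hv hw x hx => by rw [map_add, hv x hx, hw x hx]
      zero_mem' := fun x _ => map_zero _
      smul_mem' := fun c v hv x hx => by rw [map_smul, hv x hx] }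
  have hstable : ∀ g ∈ G, ∀ v ∈ Fix, (g : End') v ∈ Fix := by
    intro g hg v hv x hx
    have h1 := congrArg (g : End') (hv _ (hn g hg x hx))
    rw [← Module.End.mul_apply, ← Units.val_mul, mul_assoc, mul_inv_cancel_left, Units.val_mul,
      Module.End.mul_apply] at h1
    exact h1
  rcases hW Fix hstable with h | h
  · exfalso
    have hm' : ¬ P m := Nat.find_min hex (by omega)
    simp only [P, not_forall] at hm'
    obtain ⟨l, hl, hlen, hne⟩ := hm'
    refine hne (LinearMap.ext fun v => ?_)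
    have : (l.map fun g : GL' => (g : End') - 1).prod v ∈ Fix := by
      intro x hx
      have h0 := (hm ▸ Nat.find_spec hex : P (m + 1)) (x :: l) (by simp [hl, hx]; exact hl) (by simp [hlen])
      have h1 := LinearMap.congr_fun h0 v
      simp only [List.map_cons, List.prod_cons, Module.End.mul_apply, LinearMap.zero_apply, LinearMap.sub_apply,
        Module.End.one_apply, sub_eq_zero] at h1
      exact h1
    rw [h, Submodule.mem_bot] at this
    exact this
  · refine (Subgroup.eq_bot_iff_forall _).2 fun x hx => Units.ext (LinearMap.ext fun v => ?_)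
    exact (h.ge (Submodule.mem_top (x := v))) x hx

theorem opp_cj {a b : End'} (h : Opp a b) (g : GL') : Opp (cj g a) (cj g b) := by
  have hinj : Function.Injective (g : End') := fun v w e => by
    simpa [← Module.End.mul_apply] using congrArg ((g⁻¹ : GL') : End') e
  constructor
  · rw [range_cj, ker_cj, Submodule.disjoint_def]
    rintro _ ⟨v, hv, rfl⟩ hv2
    have : v = 0 := Submodule.disjoint_def.1 h.1 v hv (by simpa [← Module.End.mul_apply] using hv2)
    rw [this, map_zero]
  · rw [range_cj, ker_cj, Submodule.disjoint_def]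
    rintro _ ⟨v, hv, rfl⟩ hv2
    have : v = 0 := Submodule.disjoint_def.1 h.2 v hv (by simpa [← Module.End.mul_apply] using hv2)
    rw [this, map_zero]

/-- Every root has an opposite conjugate. -/
theorem exists_partner (hs : QS G d) {G0 : Subgroup GL'} (hle : G ≤ G0)
    (hn : G0 ≤ Subgroup.normalizer (G : Set GL')) (hirr : IsIrreducibleFor G0) {a : End'} (ha : Qd G d a) :
    ∃ g ∈ G0, Opp a (cj g a) := by
  by_contra hno
  simp only [not_exists, not_and] at hno
  let W : Set (Subgroup GL') := {A | ∃ g ∈ G0, A = Rg G (cj g a)}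
  have hWW : ∀ A ∈ W, ∀ B ∈ W, IsUnipotentOn (A ⊔ B) := by
    rintro A ⟨g, hg, rfl⟩ B ⟨h, hh, rfl⟩
    refine flag_unipotent (sup_le_flag hs (ha.cj (hn hg)) (ha.cj (hn hh)) fun ho => hno (g⁻¹ * h) (mul_mem (inv_mem hg) hh) ?_)
    have h1 := opp_cj ho g⁻¹
    rwa [cj_inv, cj_comp] at h1
  have hconj : ∀ A ∈ W, ∀ g ∈ G0, conjBy A g ∈ W := by
    rintro A ⟨h, hh, rfl⟩ g hg
    exact ⟨g * h, mul_mem hg hh, by rw [conjBy_Rg (ha.cj (hn hh)).sq (hn hg), cj_comp]⟩
  obtain ⟨hu, hnorm⟩ := Cfsg.Agent.S5061.result (fun A (hA : A ∈ W) => by obtain ⟨g, -, rfl⟩ := hA; exact (Rg_le _).trans hle) hWW hconj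
  have hbot := unipotent_normal_trivial ⟨hirr.1, hirr.2⟩ hu (fun g hg x hx => by
    have h1 : (g⁻¹ : GL') * x * (g⁻¹)⁻¹ ∈ conjBy (⨆ A ∈ W, A) g⁻¹ := ⟨x, hx, rfl⟩
    rwa [hnorm _ (inv_mem hg), inv_inv] at h1)
  refine Rg_ne_bot ha (le_bot_iff.1 (hbot ▸ ?_))
  exact le_iSup₂_of_le (Rg G a) ⟨1, one_mem _, by rw [cj_one]⟩ le_rfl

/-- Every root has an opposite root. -/
def Partners (G : Subgroup (LinearMap.GeneralLinearGroup k M)) (d : ℕ) : Prop :=
  ∀ a : Module.End k M, Qd G d a → ∃ b, Qd G d b ∧ Opp a b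

theorem partners_of (hs : QS G d) {G0 : Subgroup GL'} (hle : G ≤ G0)
    (hn : G0 ≤ Subgroup.normalizer (G : Set GL')) (hirr : IsIrreducibleFor G0) : Partners G d := fun a ha => by
  obtain ⟨g, hg, ho⟩ := exists_partner hs hle hn hirr ha
  exact ⟨cj g a, ha.cj (hn hg), ho⟩

theorem partners_self (hs : QS G d) (hirr : IsIrreducibleFor G) : Partners G d :=
  partners_of hs le_rfl Subgroup.le_normalizer ⟨hirr.1, hirr.2⟩

end Cfsg.Agent.Lead.QP
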