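/-
The three positions of two root groups: commuting, commutator and opposite.
-/
import Cfsg.Agent.Lib.Lead.QP.Groups

set_option autoImplicit false
set_option linter.unusedSectionVars false

universe u

namespace Cfsg.Agent.Lead.QP

open Cfsg Polynomial
open scoped commutatorElement

variable {k : Type u} [Field k] {M : Type u} [AddCommGroup M] [Module k M] [FiniteDimensional k M]

local notation "End'" => Module.End k M
local notation "GL'" => LinearMap.GeneralLinearGroup k M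

variable {G : Subgroup (Module.End k M)ˣ} {d : ℕ}

theorem eq_one_of_sub {g : GL'} (h : (g : End') - 1 = 0) : g = 1 :=
  Units.ext (by rw [Units.val_one]; exact sub_eq_zero.1 h)

theorem sub_ne_zero_of_ne_one {g : GL'} (h : g ≠ 1) : (g : End') - 1 ≠ 0 := fun e => h (eq_one_of_sub e)

theorem mul_comm_iff {g h : GL'} :
    g * h = h * g ↔ ((g : End') - 1) * ((h : End') - 1) = ((h : End') - 1) * ((g : End') - 1) := by
  rw [Units.ext_iff, Units.val_mul, Units.val_mul]
  constructor <;> intro e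
  · calc _ = (g : End') * h - g - h + 1 := by noncomm_ring
      _ = (h : End') * g - h - g + 1 := by rw [e]; abel
      _ = _ := by noncomm_ring
  · calc (g : End') * h = ((g : End') - 1) * ((h : End') - 1) + g + h - 1 := by noncomm_ring
      _ = ((h : End') - 1) * ((g : End') - 1) + h + g - 1 := by rw [e]; abel
      _ = _ := by noncomm_ring

theorem comm_bot_iff {a b : End'} : ⁅Rg G a, Rg G b⁆ = ⊥ ↔ Comm2 G a b := by
  rw [Subgroup.commutator_eq_bot_iff_le_centralizer]
  constructor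
  · intro h x hx y hy
    obtain ⟨g, hg, hgv⟩ := exists_mem_Rg hx
    obtain ⟨f, hf, hfv⟩ := exists_mem_Rg hy
    have := mul_comm_iff.1 (Subgroup.mem_centralizer_iff.1 (h hg) f hf)
    rw [hgv, hfv, add_sub_cancel_left, add_sub_cancel_left] at this
    exact this.symm
  · intro h g hg
    rw [Subgroup.mem_centralizer_iff]
    intro f hf
    exact mul_comm_iff.2 (h _ hg _ hf).symm

theorem comm_of_elements (hs : QS G d) {a b x y : End'} (ha : Qd G d a) (hb : Qd G d b) (hx : x ∈ Rt G a)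
    (hx0 : x ≠ 0) (hy : y ∈ Rt G b) (hy0 : y ≠ 0) (h : x * y = y * x) : Comm2 G a b := by
  rcases trichotomy hs ha hb with ho | hc | hc
  · exfalso
    have := ho.of_mem hs ha hb hx hy hx0 hy0
    refine this.triple_ne hx0 ?_
    rw [h, mul_assoc, Rt_mul hx hx, mul_zero]
  · exact hc
  · exact absurd (sub_eq_zero.2 h) (hc.2 x hx y hy hx0 hy0)

theorem disjoint_range_of_opp {a b : End'} (ha : a * a = 0) (h : Opp a b) :
    Disjoint (LinearMap.range a) (LinearMap.range b) :=
  (Disjoint.mono_right (range_le_ker_of_sq ha) h.2).symm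

theorem comm_of_normalises (hs : QS G d) {a b : End'} (ha : Qd G d a) (hb : Qd G d b) {e : GL'} (he : e ∈ Rg G a)
    (he1 : e ≠ 1) (hn : ∀ f ∈ Rg G b, e * f * e⁻¹ ∈ Rg G b) : Comm2 G a b := by
  set x := (e : End') - 1 with hxdef
  have hx : x ∈ Rt G a := he
  have hx0 : x ≠ 0 := sub_ne_zero_of_ne_one he1
  have hxx : x * x = 0 := Rt_mul hx hx
  have hev : (e : End') = 1 + x := by rw [hxdef, add_sub_cancel]
  have hei : ((e⁻¹ : GL') : End') = 1 - x :=
    Units.inv_eq_of_mul_eq_one_right (by rw [hev]; simp [mul_sub, add_mul, hxx])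
  have key : ∀ y ∈ Rt G b, y + x * y - y * x - x * y * x ∈ Rt G b := by
    intro y hy
    obtain ⟨f, hf, hfv⟩ := exists_mem_Rg hy
    have h := mem_Rg.1 (hn f hf)
    rwa [show ((e * f * e⁻¹ : GL') : End') - 1 = y + x * y - y * x - x * y * x by
      rw [Units.val_mul, Units.val_mul, hev, hfv, hei]
      simp only [mul_add, add_mul, mul_sub, mul_one, one_mul, hxx]
      abel] at h
  rcases trichotomy hs ha hb with ho | hc | hc
  · exfalso
    have ho' := ho.of_mem hs ha hb hx hb.self_mem hx0 hb.ne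
    refine ho'.triple_ne hx0 (LinearMap.ext fun v => ?_)
    set y' := b + x * b - b * x - x * b * x with hy'
    have e1 : x * b * x = y' * x - b * x := by
      rw [hy']; simp only [sub_mul, add_mul, mul_assoc, hxx, mul_zero, sub_zero]; abel
    refine Submodule.disjoint_def.1 (disjoint_range_of_opp hxx ho') _ ⟨b (x v), rfl⟩ ?_
    rw [e1]
    exact sub_mem (Rt_range (key b hb.self_mem) ⟨x v, rfl⟩) ⟨x v, rfl⟩
  · exact hc
  · exfalso
    have h1 := key b hb.self_mem
    rw [triple_zero hs ha hb hc.1 hx hb.self_mem hx, sub_zero, add_sub_assoc] at h1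
    have h2 : x * b - b * x ∈ Rt G b := by simpa using sub_mem h1 hb.self_mem
    have h3 : b * x - x * b ∈ Rt G b := by rw [← neg_sub]; exact neg_mem h2
    have hmem := hc.symm.z_mem hs hb ha hb.self_mem hx
    have := hc.symm.z_not_mem hs hb ha hmem h3
    exact hc.2 x hx b hb.self_mem hx0 hb.ne (by rw [← neg_sub, this, neg_zero])

/-! ### Commutator position -/

theorem Cls.finrank_eq (hs : QS G d) (hp : Partners G d) {a b : End'} (h : Cls G a b) (ha : Qd G d a)
    (hb : Qd G d b) :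
    Module.finrank k ↥(Rt G a) = Module.finrank k ↥(Rt G (a * b - b * a)) := by
  set z := a * b - b * a with hzdef
  have hz := h.z_qd hs ha hb
  obtain ⟨c, hc, ho⟩ := hp z hz
  obtain ⟨g, hg, hog⟩ : ∃ g ∈ G, Opp (cj g a) c := by
    rcases trichotomy hs ha hc with h1 | h1 | h1
    · exact ⟨1, one_mem _, by rwa [cj_one]⟩
    all_goals
      have e0 : c * a * c = 0 := by
        rcases hs.dichotomy ha hc with hh | hh
        · first
            | exact absurd hh (not_opp_comm ha h1 hc)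
            | exact absurd hh h1.1
        · exact hh.2
      refine ⟨u1 b hb.sq, InFam.u1_mem hb.mem hb.sq, ?_⟩
      have e1 : cj (u1 b hb.sq) a = a - z := by
        rw [cj_apply, show (((u1 b hb.sq)⁻¹ : GL') : End') = 1 - b from rfl, u1_val, hzdef]
        simp only [mul_add, add_mul, mul_sub, mul_one, one_mul,
          triple_zero' hs ha hb h.1 hb.self_mem ha.self_mem hb.self_mem]
        abel
      rcases hs.dichotomy (ha.cj (Subgroup.le_normalizer (InFam.u1_mem hb.mem hb.sq))) hc with hh | hh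
      · exact hh
      · exfalso
        have e2 := hh.2
        rw [e1, mul_sub, sub_mul, e0, zero_sub, neg_eq_zero] at e2
        exact ho.symm.triple_ne hc.ne e2
  obtain ⟨g1, hg1, e1⟩ := opp_conj hs (ha.cj (Subgroup.le_normalizer hg)) hc hog
  obtain ⟨g2, hg2, e2⟩ := opp_conj hs hz hc ho
  rw [← finrank_Rt_cj ha.sq (Subgroup.le_normalizer hg),
    ← finrank_Rt_cj (ha.cj (Subgroup.le_normalizer hg)).sq (Subgroup.le_normalizer hg1), e1,
    ← finrank_Rt_cj hz.sq (Subgroup.le_normalizer hg2), e2]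

theorem Rt_neg (a : End') (h : a * a = 0) : Rt G (-a) = Rt G a :=
  Rt_congr (by simp [h]) h (LinearMap.range_neg a) (LinearMap.ker_neg a)

theorem Cls.surj (hs : QS G d) (hp : Partners G d) {a b x : End'} (h : Cls G a b) (ha : Qd G d a)
    (hb : Qd G d b) (hx : x ∈ Rt G a) (hx0 : x ≠ 0) {w : End'} (hw : w ∈ Rt G (a * b - b * a)) :
    ∃ y ∈ Rt G b, x * y - y * x = w := by
  let L : ↥(Rt G b) →ₗ[k] ↥(Rt G (a * b - b * a)) :=
    { toFun := fun y => ⟨x * y.1 - y.1 * x, h.z_mem hs ha hb hx y.2⟩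
      map_add' := fun y y' => by
        ext1; change x * (y.1 + y'.1) - (y.1 + y'.1) * x = _
        simp only [mul_add, add_mul, Submodule.coe_add]; abel
      map_smul' := fun c y => by
        ext1; change x * (c • y.1) - (c • y.1) * x = _
        simp [smul_sub] }
  have hinj : Function.Injective L := (injective_iff_map_eq_zero L).2 fun y hy => by
    by_contra hy0
    exact h.2 x hx y.1 y.2 hx0 (fun e => hy0 (Subtype.ext e)) (congrArg Subtype.val hy)
  have hdim : Module.finrank k ↥(Rt G b) = Module.finrank k ↥(Rt G (a * b - b * a)) := by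
    rw [h.symm.finrank_eq hs hp hb ha, ← neg_sub (a * b), Rt_neg _ (h.z_qd hs ha hb).sq]
  obtain ⟨y, hy⟩ := (LinearMap.injective_iff_surjective_of_finrank_eq_finrank hdim).1 hinj ⟨w, hw⟩
  exact ⟨y.1, y.2, congrArg Subtype.val hy⟩

theorem Cls.comm_elem (hs : QS G d) {a b : End'} (h : Cls G a b) (ha : Qd G d a) (hb : Qd G d b) {g f : GL'}
    (hg : g ∈ Rg G a) (hf : f ∈ Rg G b) :
    g * f * g⁻¹ * f⁻¹ ∈ Rg G (a * b - b * a) ∧ ((g * f * g⁻¹ * f⁻¹ : GL') : End') =
      1 + (((g : End') - 1) * ((f : End') - 1) - ((f : End') - 1) * ((g : End') - 1)) := by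
  have hg' : (g : End') - 1 ∈ Rt G a := hg
  have hf' : (f : End') - 1 ∈ Rt G b := hf
  have e := comm_val (g := g) (h := f) (add_sub_cancel 1 (g : End')).symm (add_sub_cancel 1 (f : End')).symm
    (Rt_mul hg' hg') (Rt_mul hf' hf') (triple_zero hs ha hb h.1 hg' hf' hg')
    (triple_zero' hs ha hb h.1 hf' hg' hf')
  refine ⟨?_, e⟩
  rw [mem_Rg, e, add_sub_cancel_left]
  exact h.z_mem hs ha hb hg' hf'

theorem Cls.closure_left (hs : QS G d) (hp : Partners G d) {a b : End'} (h : Cls G a b) (ha : Qd G d a)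
    (hb : Qd G d b) {e : GL'} (he : e ∈ Rg G a) (he1 : e ≠ 1) :
    Subgroup.closure ((fun f : GL' => e * f * e⁻¹ * f⁻¹) '' (Rg G b : Set GL')) = Rg G (a * b - b * a) := by
  refine le_antisymm ((Subgroup.closure_le _).2 ?_) fun g hg => Subgroup.subset_closure ?_
  · rintro _ ⟨f, hf, rfl⟩
    exact (h.comm_elem hs ha hb he hf).1
  · obtain ⟨y, hy, hyw⟩ := h.surj hs hp ha hb he (sub_ne_zero_of_ne_one he1) hg
    obtain ⟨f, hf, hfv⟩ := exists_mem_Rg hy
    refine ⟨f, hf, Units.ext ?_⟩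
    rw [(h.comm_elem hs ha hb he hf).2, hfv, add_sub_cancel_left, hyw, add_sub_cancel]

theorem Cls.closure_right (hs : QS G d) (hp : Partners G d) {a b : End'} (h : Cls G a b) (ha : Qd G d a)
    (hb : Qd G d b) {f : GL'} (hf : f ∈ Rg G b) (hf1 : f ≠ 1) :
    Subgroup.closure ((fun e : GL' => e * f * e⁻¹ * f⁻¹) '' (Rg G a : Set GL')) = Rg G (a * b - b * a) := by
  rw [← neg_sub (b * a), Rg_congr (Rt_neg _ (h.symm.z_qd hs hb ha).sq), ← h.symm.closure_left hs hp hb ha hf hf1]
  refine le_antisymm ((Subgroup.closure_le _).2 ?_) ((Subgroup.closure_le _).2 ?_)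
  · rintro _ ⟨e, he, rfl⟩
    change e * f * e⁻¹ * f⁻¹ ∈ Subgroup.closure _
    rw [← inv_inv (e * f * e⁻¹ * f⁻¹)]
    refine inv_mem (Subgroup.subset_closure ⟨e, he, ?_⟩)
    simp [mul_assoc]
  · rintro _ ⟨e, he, rfl⟩
    change f * e * f⁻¹ * e⁻¹ ∈ Subgroup.closure _
    rw [← inv_inv (f * e * f⁻¹ * e⁻¹)]
    refine inv_mem (Subgroup.subset_closure ⟨e, he, ?_⟩)
    simp [mul_assoc]

theorem Cls.commutator_eq (hs : QS G d) (hp : Partners G d) {a b : End'} (h : Cls G a b) (ha : Qd G d a)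
    (hb : Qd G d b) : ⁅Rg G a, Rg G b⁆ = Rg G (a * b - b * a) := by
  refine le_antisymm (Subgroup.commutator_le.2 fun g hg f hf => (h.comm_elem hs ha hb hg hf).1) ?_
  obtain ⟨e, he, hev⟩ := exists_mem_Rg ha.self_mem
  rw [← h.closure_left hs hp ha hb he (fun h1 => ha.ne (by rw [h1, Units.val_one] at hev; exact add_eq_left.1 hev.symm))]
  exact (Subgroup.closure_le _).2 (by rintro _ ⟨f, hf, rfl⟩; exact Subgroup.commutator_mem_commutator he hf)

theorem Cls.central (hs : QS G d) {a b : End'} (h : Cls G a b) (ha : Qd G d a) (hb : Qd G d b) :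
    Rg G a ⊔ Rg G b ≤ Subgroup.centralizer (Rg G (a * b - b * a) : Set GL') := by
  refine sup_le ?_ ?_ <;> intro g hg <;> rw [Subgroup.mem_centralizer_iff] <;> intro w hw <;>
    refine mul_comm_iff.2 ?_
  · obtain ⟨h1, h2⟩ := h.z_ann hs ha hb (mem_Rg.1 hg) (mem_Rg.1 hw); rw [h1, h2]
  · obtain ⟨h1, h2⟩ := h.z_ann' hs ha hb (mem_Rg.1 hg) (mem_Rg.1 hw); rw [h1, h2]

theorem commutator_sup_le {Γ : Type*} [Group Γ] {A B D : Subgroup Γ} (hA : IsMulCommutative A)
    (hB : IsMulCommutative B) (hAB : ⁅A, B⁆ ≤ D) (hD : A ⊔ B ≤ Subgroup.centralizer (D : Set Γ)) :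
    ⁅A ⊔ B, A ⊔ B⁆ ≤ D := by
  -- membership of all commutators, by induction over both arguments
  have step : ∀ S : Subgroup Γ, S ≤ A ⊔ B → ∀ x ∈ A ⊔ B, (∀ g ∈ (A : Set Γ) ∪ B, g * x * g⁻¹ * x⁻¹ ∈ D) →
      ∀ y ∈ A ⊔ B, y * x * y⁻¹ * x⁻¹ ∈ D := by
    intro _ _ x hx hgen y hy
    rw [Subgroup.sup_eq_closure] at hy
    induction hy using Subgroup.closure_induction with
    | mem g hg => exact hgen g hg
    | one => simp
    | mul p q hp hq ihp ihq =>
      have hpX : p ∈ A ⊔ B := by rw [Subgroup.sup_eq_closure]; exact hp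
      have hc := Subgroup.mem_centralizer_iff.1 (hD hpX) _ ihq
      have e : p * q * x * (p * q)⁻¹ * x⁻¹ = p * (q * x * q⁻¹ * x⁻¹) * p⁻¹ * (p * x * p⁻¹ * x⁻¹) := by group
      rw [e, ← hc, mul_inv_cancel_right]
      exact mul_mem ihq ihp
    | inv p hp ihp =>
      have hpX : p⁻¹ ∈ A ⊔ B := by rw [Subgroup.sup_eq_closure]; exact inv_mem hp
      have hc := Subgroup.mem_centralizer_iff.1 (hD hpX) _ (inv_mem ihp)
      have e : p⁻¹ * x * p⁻¹⁻¹ * x⁻¹ = p⁻¹ * (p * x * p⁻¹ * x⁻¹)⁻¹ * p⁻¹⁻¹ := by group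
      rw [e, ← hc, mul_inv_cancel_right]
      exact inv_mem ihp
  refine Subgroup.commutator_le.2 fun y hy x hx => step _ le_rfl x hx (fun g hg => ?_) y hy
  have hgX : g ∈ A ⊔ B := hg.elim (fun h => Subgroup.mem_sup_left h) (fun h => Subgroup.mem_sup_right h)
  have := step _ le_rfl g hgX (fun f hf => ?_) x hx
  · rw [← inv_inv (g * x * g⁻¹ * x⁻¹)]
    refine inv_mem ?_
    simpa [mul_assoc] using this
  · rcases hg with hg | hg <;> rcases hf with hf | hf
    · rw [show f * g = g * f from congrArg Subtype.val (hA.is_comm.comm ⟨f, hf⟩ ⟨g, hg⟩)]; simp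
    · rw [← inv_inv (f * g * f⁻¹ * g⁻¹)]
      refine inv_mem ?_
      simpa [mul_assoc, commutatorElement_def] using hAB (Subgroup.commutator_mem_commutator hg hf)
    · exact hAB (Subgroup.commutator_mem_commutator hf hg)
    · rw [show f * g = g * f from congrArg Subtype.val (hB.is_comm.comm ⟨f, hf⟩ ⟨g, hg⟩)]; simp

theorem Cls.class_two (hs : QS G d) (hp : Partners G d) {a b : End'} (h : Cls G a b) (ha : Qd G d a)
    (hb : Qd G d b) :
    ⁅Rg G a ⊔ Rg G b, Rg G a ⊔ Rg G b⁆ ≠ ⊥ ∧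
      ⁅⁅Rg G a ⊔ Rg G b, Rg G a ⊔ Rg G b⁆, Rg G a ⊔ Rg G b⁆ = ⊥ := by
  refine ⟨fun e => ?_, ?_⟩
  · have : ⁅Rg G a, Rg G b⁆ ≤ ⊥ := e ▸ Subgroup.commutator_mono le_sup_left le_sup_right
    rw [h.commutator_eq hs hp ha hb, le_bot_iff] at this
    exact Rg_ne_bot (h.z_qd hs ha hb) this
  · rw [Subgroup.commutator_eq_bot_iff_le_centralizer]
    refine (commutator_sup_le Rg_comm Rg_comm (h.commutator_eq hs hp ha hb).le (h.central hs ha hb)).trans ?_
    exact Subgroup.le_centralizer_iff.1 (h.central hs ha hb)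

theorem fixed_Rg {a : End'} (ha : Qd G d a) : fixedSubmodule (Rg G a) = LinearMap.ker a := by
  refine le_antisymm ?_ (le_iInf₂ fun g hg => Rt_ker (mem_Rg.1 hg))
  obtain ⟨g, hg, hgv⟩ := exists_mem_Rg ha.self_mem
  refine (iInf₂_le g hg).trans (le_of_eq ?_)
  rw [hgv, add_sub_cancel_left]

theorem commutator_Rg {a : End'} (ha : Qd G d a) : commutatorSubmodule (Rg G a) = LinearMap.range a := by
  refine le_antisymm (iSup₂_le fun g hg => Rt_range (mem_Rg.1 hg)) ?_
  obtain ⟨g, hg, hgv⟩ := exists_mem_Rg ha.self_mem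
  refine le_trans (le_of_eq ?_) (le_iSup₂ g hg)
  rw [hgv, add_sub_cancel_left]

theorem Cls.core (hs : QS G d) (hp : Partners G d) {a b : End'} (h : Cls G a b) (ha : Qd G d a)
    (hb : Qd G d b) :
    ((Rg G a ⊔ Rg G b : Subgroup GL') : Set GL') ⊆ quadraticUnipotentCore G ⁅Rg G a, Rg G b⁆ := by
  rw [h.commutator_eq hs hp ha hb]
  set z := a * b - b * a with hzdef
  have hz := h.z_qd hs ha hb
  obtain ⟨-, hr, hk, -⟩ := dim_data hs ha hb h.1 ha.self_mem hb.self_mem (h.z_ne ha hb)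
  rw [← hzdef] at hr hk
  have hflag : Rg G a ⊔ Rg G b ≤ flag (LinearMap.ker z) (LinearMap.range z) := by
    have key : ∀ {a b : End'}, Cls G a b → Qd G d a → Qd G d b →
        LinearMap.range z = LinearMap.range a ⊓ LinearMap.ker b ⊔ LinearMap.range b ⊓ LinearMap.ker a →
        LinearMap.ker z = (LinearMap.range a ⊔ LinearMap.ker b) ⊓ (LinearMap.range b ⊔ LinearMap.ker a) →
        Rt G (a * b - b * a) = Rt G z → Rg G a ≤ flag (LinearMap.ker z) (LinearMap.range z) := by
      intro a b h ha hb hr hk hzz g hg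
      have hz' : z ∈ Rt G (a * b - b * a) := hzz ▸ hz.self_mem
      obtain ⟨h1, h2⟩ := h.z_ann hs ha hb (mem_Rg.1 hg) hz'
      refine ⟨fun v => LinearMap.congr_fun h2 v, fun v hv => ?_, fun v hv => sub_eq_zero.1 ?_⟩
      · rw [hk] at hv
        obtain ⟨_, ⟨p, rfl⟩, q, hq, rfl⟩ := Submodule.mem_sup.1 hv.2
        change ((g : End') - 1) (b p + q) ∈ _
        rw [map_add, LinearMap.mem_ker.1 (Rt_ker (mem_Rg.1 hg) hq), add_zero, hr]
        refine Submodule.mem_sup_left ?_
        by_cases hx0 : (g : End') - 1 = 0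
        · rw [hx0]; simp
        obtain ⟨-, -, -, -, -, r1, -⟩ := dim_data hs ha hb h.1 (mem_Rg.1 hg) hb.self_mem
          (h.2 _ (mem_Rg.1 hg) b hb.self_mem hx0 hb.ne)
        rw [← r1]
        exact ⟨p, rfl⟩
      · obtain ⟨w, rfl⟩ := hv
        exact LinearMap.congr_fun h1 w
    refine sup_le (key h ha hb hr hk rfl) (key h.symm hb ha (hr.trans (sup_comm _ _)) (hk.trans (inf_comm _ _)) ?_)
    rw [← neg_sub, Rt_neg _ hz.sq]
  intro g hg
  obtain ⟨f1, f2, f3⟩ := hflag hg
  refine ⟨sup_le (Rg_le a) (Rg_le b) hg, ?_, ?_, ?_, ?_⟩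
  · exact Subgroup.centralizer_le_normalizer _ (h.central hs ha hb hg)
  · rw [fixed_Rg hz]; exact f1
  · rw [fixed_Rg hz, commutator_Rg hz]; exact f2
  · rw [commutator_Rg hz]; exact f3

theorem Cls.root_case (hs : QS G d) (hp : Partners G d) {S : Set (Subgroup GL')}
    (hS : ∀ c, Qd G d c → Rg G c ∈ S) {a b : End'} (h : Cls G a b) (ha : Qd G d a) (hb : Qd G d b) :
    RootCommutatorCase S (Rg G a) (Rg G b) := by
  refine ⟨?_, ?_, ?_, ?_⟩ <;> rw [h.commutator_eq hs hp ha hb]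
  · exact hS _ (h.z_qd hs ha hb)
  · intro c hc x hx
    exact Subgroup.mem_centralizer_iff.1 (h.central hs ha hb hx) c hc
  · exact fun e he he1 => h.closure_left hs hp ha hb he he1
  · exact fun f hf hf1 => h.closure_right hs hp ha hb hf hf1

/-! ### Opposite position -/

theorem Opp.not_class_two (hs : QS G d) {a b : End'} (h : Opp a b) (ha : Qd G d a) (hb : Qd G d b)
    (X : Subgroup GL') (hX : Rg G a ⊔ Rg G b ≤ X) : ⁅⁅X, X⁆, X⁆ ≠ ⊥ := by
  intro e
  obtain ⟨y, hy, qy, -, ex, ey⟩ := hs.inverse ha hb h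
  obtain ⟨g, hg, hgv⟩ := exists_mem_Rg ha.self_mem
  obtain ⟨f, hf, hfv⟩ := exists_mem_Rg hy
  have hgX : g ∈ X := hX (Subgroup.mem_sup_left hg)
  have hfX : f ∈ X := hX (Subgroup.mem_sup_right hf)
  have h1 := Subgroup.commutator_mem_commutator hgX hfX
  rw [Subgroup.commutator_eq_bot_iff_le_centralizer] at e
  have h2 := mul_comm_iff.1 (Subgroup.mem_centralizer_iff.1 (e h1) g hgX)
  have hgi : ((g⁻¹ : GL') : End') = 1 - a :=
    Units.inv_eq_of_mul_eq_one_right (by rw [hgv]; simp [mul_sub, add_mul, ha.sq])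
  have hfi : ((f⁻¹ : GL') : End') = 1 - y :=
    Units.inv_eq_of_mul_eq_one_right (by rw [hfv]; simp [mul_sub, add_mul, qy.sq])
  have hc : ((⁅g, f⁆ : GL') : End') = 1 + (a - y * a - y) := by
    rw [commutatorElement_def, Units.val_mul, Units.val_mul, Units.val_mul, hgv, hfv, hgi, hfi]
    simp only [mul_add, add_mul, mul_sub, sub_mul, mul_one, one_mul, ← mul_assoc, ex, ey, qy.sq, zero_mul,
      neg_mul]
    simp only [mul_assoc, qy.sq, mul_zero]
    simp only [← mul_assoc, ha.sq, zero_mul, mul_zero, smul_zero]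
    abel
  rw [hc, hgv, add_sub_cancel_left, add_sub_cancel_left] at h2
  have h3 : a * ((a - y * a - y) * a) = a * (a * (a - y * a - y)) := congrArg (fun t => a * t) (by
    first | exact h2 | exact h2.symm)
  have hl : a * ((a - y * a - y) * a) = a := by
    simp only [sub_mul, mul_sub, mul_assoc y a a, ha.sq, mul_zero, sub_zero, zero_sub]
    rw [mul_neg, ← mul_assoc, ex, neg_neg]
  have hr : a * (a * (a - y * a - y)) = 0 := by rw [← mul_assoc, ha.sq, zero_mul]
  exact ha.ne (by rw [← hl, h3, hr])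

end Cfsg.Agent.Lead.QP
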