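/-
Two opposite root groups: special rank one group, central involution, and the SL₂ inside.
-/
import Cfsg.Agent.Lib.Lead.QP.Classes

set_option autoImplicit false
set_option linter.unusedSectionVars false

universe u

namespace Cfsg.Agent.Lead.QP

open Cfsg Polynomial

variable {k : Type u} [Field k] {M : Type u} [AddCommGroup M] [Module k M] [FiniteDimensional k M]

local notation "End'" => Module.End k M
local notation "GL'" => LinearMap.GeneralLinearGroup k M

variable {G : Subgroup (LinearMap.GeneralLinearGroup k M)} {d : ℕ}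

theorem conjBy_comp {Γ : Type*} [Group Γ] (A : Subgroup Γ) (g h : Γ) : conjBy (conjBy A h) g = conjBy A (g * h) := by
  rw [conjBy, conjBy, conjBy, Subgroup.map_map]
  congr 1
  ext x
  simp [mul_assoc]

theorem conjBy_one' {Γ : Type*} [Group Γ] (A : Subgroup Γ) : conjBy A (1 : Γ) = A := by
  ext x; simp

/-- The inverse element inside the opposite group. -/
theorem pair_inverse (hs : QS G d) {a b : End'} (ha : Qd G d a) (hb : Qd G d b) (ho : Opp a b) {g : GL'}
    (hg : g ∈ Rg G a) (hg1 : g ≠ 1) :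
    ∃ f ∈ Rg G b, f ≠ 1 ∧ g * f * g = f * g * f ∧ conjBy (Rg G a) f = conjBy (Rg G b) g⁻¹ := by
  set x := (g : End') - 1 with hxdef
  have hx0 : x ≠ 0 := sub_ne_zero_of_ne_one hg1
  obtain ⟨qx, -, -⟩ := Rt_qd hs ha hg hx0
  obtain ⟨y, hy, qy, -, ex, ey⟩ := hs.inverse qx hb (ho.of_mem hs ha hb hg hb.self_mem hx0 hb.ne)
  obtain ⟨f, hf, hfv⟩ := exists_mem_Rg hy
  have hgu : g = u1 x qx.sq := Units.ext (by simp [hxdef])
  have hfu : f = u1 y qy.sq := Units.ext (by simp [hfv])
  have hbraid : g * f * g = f * g * f := by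
    rw [hgu, hfu]
    refine Units.ext ?_
    rw [swap_val qx.sq qy.sq ex, swap_val qy.sq qx.sq ey]
    abel
  refine ⟨f, hf, fun h => qy.ne (by rw [h, Units.val_one] at hfv; exact add_eq_left.1 hfv.symm), hbraid, ?_⟩
  have hc : conjBy (Rg G a) (g * f) = Rg G b := by
    rw [← Rg_congr (Rt_eq_of_mem hs ha hg hx0),
      conjBy_Rg qx.sq (Subgroup.le_normalizer (mul_mem (Rg_le a hg) (Rg_le b hf))), ← Rg_congr (Rt_eq_of_mem hs hb hy qy.ne)]
    congr 2
    have e : g * f * g * (g * f)⁻¹ = f := by rw [hbraid]; group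
    rw [cj_apply, mul_sub, sub_mul, mul_one, ← Units.val_mul, ← Units.val_mul, ← Units.val_mul, e,
      mul_inv_cancel, Units.val_one, hfv, add_sub_cancel_left]
  rw [← hc, conjBy_comp, inv_mul_cancel_left]

theorem cond_of_opp (hs : QS G d) {a b : End'} (ha : Qd G d a) (hb : Qd G d b) (ho : Opp a b) :
    RankOneCondition (Rg G a) (Rg G b) := by
  intro g hg hg1
  obtain ⟨f, hf, hf1, -, hc⟩ := pair_inverse hs ha hb ho hg hg1
  exact ⟨f⁻¹, inv_mem hf, inv_ne_one.2 hf1, by rw [inv_inv, hc]⟩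

theorem Rg_ne_of_opp (hs : QS G d) {a b : End'} (ha : Qd G d a) (hb : Qd G d b) (ho : Opp a b) :
    Rg G a ≠ Rg G b := fun e => by
  obtain ⟨g, hg, hgv⟩ := exists_mem_Rg ha.self_mem
  have hb' : a ∈ Rt G b := by
    have := mem_Rg.1 (e ▸ hg)
    rwa [hgv, add_sub_cancel_left] at this
  refine ho.triple_ne ha.ne ?_
  rw [mul_assoc, Rt_mul hb.self_mem hb', mul_zero]

theorem rankOne_of_opp (hs : QS G d) {a b : End'} (ha : Qd G d a) (hb : Qd G d b) (ho : Opp a b) :
    IsRankOnePair (Rg G a) (Rg G b) := by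
  have nil : ∀ c : End', Group.IsNilpotent (Rg G c) := fun c => by
    haveI := (Rg_comm (G := G) (a := c))
    letI : CommGroup (Rg G c) := { (inferInstance : Group (Rg G c)) with mul_comm := this.is_comm.comm }
    infer_instance
  exact ⟨Rg_ne_of_opp hs ha hb ho, nil a, nil b, cond_of_opp hs ha hb ho, cond_of_opp hs hb ha ho.symm⟩

theorem special_of_opp (hs : QS G d) {a b : End'} (ha : Qd G d a) (hb : Qd G d b) (ho : Opp a b) :
    IsSpecialRankOnePair (Rg G a) (Rg G b) := by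
  refine ⟨rankOne_of_opp hs ha hb ho, fun g hg hg1 h hh hh1 e => ?_⟩
  obtain ⟨f, hf, hf1, hbraid, hc⟩ := pair_inverse hs ha hb ho hg hg1
  have hn : conjBy (Rg G a) (f⁻¹ * h⁻¹) = Rg G a := by
    rw [← conjBy_comp, e, ← hc, conjBy_comp, inv_mul_cancel, conjBy_one']
  have h1 : f⁻¹ * h⁻¹ = 1 := by
    by_contra hne
    refine not_opp_comm hb (comm_of_normalises hs hb ha (mul_mem (inv_mem hf) (inv_mem hh)) hne ?_) ha ho.symm
    intro x hx
    rw [← hn]
    exact ⟨x, hx, rfl⟩
  obtain rfl : h = f⁻¹ := inv_injective (by rw [inv_inv]; exact (inv_mul_eq_one.1 h1).symm)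
  rw [inv_inv]
  calc f * g * f⁻¹ = g⁻¹ * (g * f * g) * f⁻¹ := by group
    _ = g⁻¹ * (f * g * f) * f⁻¹ := by rw [hbraid]
    _ = g⁻¹ * f * g := by group

theorem not_rankOne (hs : QS G d) {a b : End'} (ha : Qd G d a) (hb : Qd G d b)
    (h : IsRankOnePair (Rg G a) (Rg G b)) : Opp a b := by
  rcases trichotomy hs ha hb with ho | hc | hc
  · exact ho
  · exfalso
    obtain ⟨g, hg, hgv⟩ := exists_mem_Rg ha.self_mem
    obtain ⟨f, hf, -, e⟩ := h.cond_left g hg
      (fun h1 => ha.ne (by rw [h1, Units.val_one] at hgv; exact add_eq_left.1 hgv.symm))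
    refine h.ne ?_
    have fix : ∀ {a b : End'} {g : GL'}, Comm2 G a b → g ∈ Rg G b → conjBy (Rg G a) g = Rg G a := by
      intro a b g hc hg
      refine le_antisymm ?_ fun x hx => ⟨x, hx, ?_⟩
      · rintro _ ⟨x, hx, rfl⟩
        change g * x * g⁻¹ ∈ _
        rw [(mul_comm_iff.2 (hc _ (mem_Rg.1 hx) _ (mem_Rg.1 hg)).symm), mul_inv_cancel_right]
        exact hx
      · change g * x * g⁻¹ = x
        rw [(mul_comm_iff.2 (hc _ (mem_Rg.1 hx) _ (mem_Rg.1 hg)).symm), mul_inv_cancel_right]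
    rw [fix hc (inv_mem hf), fix hc.symm (inv_mem hg)] at e
    exact e
  · exfalso
    obtain ⟨g, hg, hgv⟩ := exists_mem_Rg ha.self_mem
    obtain ⟨f, hf, -, e⟩ := h.cond_left g hg
      (fun h1 => ha.ne (by rw [h1, Units.val_one] at hgv; exact add_eq_left.1 hgv.symm))
    -- the conjugate of `a` would be both a translate of `a` and an element of a translate of `b`
    have hmem : g * (f⁻¹ * g * f) * g⁻¹ ∈ Rg G b := by
      have h1 : f⁻¹ * g * f⁻¹⁻¹ ∈ conjBy (Rg G a) f⁻¹ := ⟨g, hg, rfl⟩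
      rw [e, inv_inv] at h1
      obtain ⟨w, hw, hw'⟩ := h1
      change g⁻¹ * w * g⁻¹⁻¹ = _ at hw'
      rw [← hw']
      simpa [mul_assoc] using hw
    obtain ⟨hcm, hcv⟩ := hc.symm.comm_elem hs hb ha (inv_mem hf) hg
    rw [show f⁻¹ * g * f = (f⁻¹ * g * f⁻¹⁻¹ * g⁻¹) * g by group] at hmem
    have hcomm := Subgroup.mem_centralizer_iff.1 (hc.symm.central hs hb ha (Subgroup.mem_sup_right hg)) _ hcm
    rw [show g * (f⁻¹ * g * f⁻¹⁻¹ * g⁻¹ * g) * g⁻¹ = g * (f⁻¹ * g * f⁻¹⁻¹ * g⁻¹) by group] at hmem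
    have hm := mem_Rg.1 hmem
    rw [Units.val_mul, hcv, hgv] at hm
    set z := (((f⁻¹ : GL') : End') - 1) * (1 + a - 1) - (1 + a - 1) * (((f⁻¹ : GL') : End') - 1) with hz
    have hzm : z ∈ Rt G (b * a - a * b) := by
      rw [hz, add_sub_cancel_left]
      exact hc.symm.z_mem hs hb ha (mem_Rg.1 (inv_mem hf)) ha.self_mem
    obtain ⟨z1, z2⟩ := hc.symm.z_ann' hs hb ha ha.self_mem hzm
    rw [show (1 + a) * (1 + z) - 1 = a + z + a * z by noncomm_ring, z1, add_zero] at hm
    obtain ⟨z3, z4⟩ := hc.symm.z_ann hs hb ha hb.self_mem hzm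
    have e1 : b * a = 0 := by
      have := Rt_mul hb.self_mem hm
      rwa [mul_add, z3, add_zero] at this
    have e2 : a * b = 0 := by
      have := Rt_mul hm hb.self_mem
      rwa [add_mul, z4, add_zero] at this
    exact hc.z_ne ha hb (by rw [e1, e2, sub_zero])

theorem fixed_sup {a b : End'} (ha : Qd G d a) (hb : Qd G d b) :
    fixedSubmodule (Rg G a ⊔ Rg G b) = LinearMap.ker a ⊓ LinearMap.ker b := by
  refine le_antisymm (le_inf ?_ ?_) fun v hv => ?_
  · exact (le_of_eq (fixed_Rg ha)).trans' (le_iInf₂ fun g hg => iInf₂_le g (Subgroup.mem_sup_left hg))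
  · exact (le_of_eq (fixed_Rg hb)).trans' (le_iInf₂ fun g hg => iInf₂_le g (Subgroup.mem_sup_right hg))
  · obtain ⟨h1, h2⟩ := hv
    simp only [fixedSubmodule, Submodule.mem_iInf]
    intro g hg
    rw [Subgroup.sup_eq_closure] at hg
    rw [LinearMap.mem_ker, LinearMap.sub_apply, Module.End.one_apply, sub_eq_zero]
    induction hg using Subgroup.closure_induction with
    | mem x hx =>
      rw [← sub_eq_zero]
      rcases hx with hx | hx
      · exact Rt_ker (mem_Rg.1 hx) h1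
      · exact Rt_ker (mem_Rg.1 hx) h2
    | one => rfl
    | mul x y _ _ hx hy => rw [Units.val_mul, Module.End.mul_apply, hy, hx]
    | inv x _ hx =>
      conv_lhs => rw [← hx]
      rw [← Module.End.mul_apply, ← Units.val_mul, inv_mul_cancel]; rfl

theorem commutator_sup {a b : End'} (ha : Qd G d a) (hb : Qd G d b) :
    commutatorSubmodule (Rg G a ⊔ Rg G b) = LinearMap.range a ⊔ LinearMap.range b := by
  refine le_antisymm (iSup₂_le fun g hg => ?_) (sup_le ?_ ?_)
  · rw [Subgroup.sup_eq_closure] at hg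
    induction hg using Subgroup.closure_induction with
    | mem x hx =>
      rcases hx with hx | hx
      · exact (Rt_range (mem_Rg.1 hx)).trans le_sup_left
      · exact (Rt_range (mem_Rg.1 hx)).trans le_sup_right
    | one => simp
    | mul x y _ _ hx hy =>
      rintro _ ⟨v, rfl⟩
      rw [LinearMap.sub_apply, Units.val_mul, Module.End.mul_apply, Module.End.one_apply,
        ← sub_add_sub_cancel _ ((y : End') v)]
      exact add_mem (hx ⟨_, rfl⟩) (hy ⟨v, rfl⟩)
    | inv x _ hx =>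
      rintro _ ⟨v, rfl⟩
      have e : (x : End') (((x⁻¹ : GL') : End') v) = v := by
        rw [← Module.End.mul_apply, ← Units.val_mul, mul_inv_cancel]; rfl
      rw [LinearMap.sub_apply, Module.End.one_apply, ← neg_sub]
      refine neg_mem (hx ⟨((x⁻¹ : GL') : End') v, ?_⟩)
      rw [LinearMap.sub_apply, Module.End.one_apply, e]
  · rw [← commutator_Rg ha]
    exact iSup₂_le fun g hg => le_iSup₂_of_le g (Subgroup.mem_sup_left hg) le_rfl
  · rw [← commutator_Rg hb]
    exact iSup₂_le fun g hg => le_iSup₂_of_le g (Subgroup.mem_sup_right hg) le_rfl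

theorem central_involution (hs : QS G d) {a b : End'} (ha : Qd G d a) (hb : Qd G d b) (ho : Opp a b) :
    (∃! i : GL', i ∈ Rg G a ⊔ Rg G b ∧ i ≠ 1 ∧ i * i = 1 ∧
        (∀ x ∈ Rg G a ⊔ Rg G b, i * x = x * i) ∧
        (∀ m ∈ commutatorSubmodule (Rg G a ⊔ Rg G b), (i : M →ₗ[k] M) m = -m) ∧
        (∀ m ∈ fixedSubmodule (Rg G a ⊔ Rg G b), (i : M →ₗ[k] M) m = m)) ∧
      IsCompl (fixedSubmodule (Rg G a ⊔ Rg G b)) (commutatorSubmodule (Rg G a ⊔ Rg G b)) := by
  obtain ⟨y, hy, qy, hoy, ex, ey⟩ := hs.inverse ha hb ho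
  obtain ⟨-, ry, ky⟩ := Rt_qd hs hb hy qy.ne
  rw [fixed_sup ha hb, commutator_sup ha hb, ← ry, ← ky]
  set P : End' := -(a * y + y * a) with hP
  have e1 : a * y * (a * y) = -(a * y) := by rw [← mul_assoc, ex, neg_mul]
  have e2 : y * a * (y * a) = -(y * a) := by rw [← mul_assoc, ey, neg_mul]
  have e3 : a * y * (y * a) = 0 := by rw [← mul_assoc, mul_assoc a, qy.sq, mul_zero, zero_mul]
  have e4 : y * a * (a * y) = 0 := by rw [← mul_assoc, mul_assoc y, ha.sq, mul_zero, zero_mul]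
  have hPP : P * P = P := by
    rw [hP, neg_mul_neg, add_mul, mul_add, mul_add, e1, e2, e3, e4]; abel
  have hPl : ∀ {a y x : End'}, a * a = 0 → y * y = 0 → a * y * a = -a → x ∈ Rt G a →
      (-(a * y + y * a)) * x = x ∧ x * (-(a * y + y * a)) = x := by
    intro a y x haa hyy ex hx
    constructor
    · refine LinearMap.ext fun v => ?_
      obtain ⟨w, hw⟩ : x v ∈ LinearMap.range a := Rt_range hx ⟨v, rfl⟩
      rw [Module.End.mul_apply, ← hw, ← Module.End.mul_apply, neg_mul, add_mul, mul_assoc y a a, haa, mul_zero,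
        add_zero, ex, neg_neg]
    · have h0 : x * (1 + y * a) = 0 := mul_eq_zero_of_le ((le_ker_of_mul_eq_zero (by
        rw [mul_add, mul_one, ← mul_assoc, ex, add_neg_cancel])).trans (Rt_ker hx))
      have hxa : x * a = 0 := mul_eq_zero_of_le ((range_le_ker_of_sq haa).trans (Rt_ker hx))
      rw [mul_neg, mul_add, ← mul_assoc, hxa, zero_mul, zero_add]
      rw [mul_add, mul_one] at h0
      exact (eq_neg_of_add_eq_zero_left h0).symm
  have hPa : ∀ x ∈ Rt G a, P * x = x ∧ x * P = x := fun x hx => hPl ha.sq qy.sq ex hx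
  have hPb : ∀ x ∈ Rt G b, P * x = x ∧ x * P = x := fun x hx => by
    rw [hP, add_comm]
    exact hPl qy.sq ha.sq ey (Rt_eq_of_mem hs hb hy qy.ne ▸ hx)
  have hker : LinearMap.ker P = LinearMap.ker a ⊓ LinearMap.ker y := by
    refine le_antisymm (le_inf ?_ ?_) fun v hv => ?_
    · rw [← (hPa a ha.self_mem).2]; exact ker_le_ker_mul _ _
    · rw [← (hPb y hy).2]; exact ker_le_ker_mul _ _
    · obtain ⟨h1, h2⟩ := hv
      change v ∈ LinearMap.ker a at h1
      change v ∈ LinearMap.ker y at h2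
      rw [LinearMap.mem_ker] at h1 h2 ⊢
      simp [hP, h1, h2]
  have hrange : LinearMap.range P = LinearMap.range a ⊔ LinearMap.range y := by
    refine le_antisymm ?_ (sup_le ?_ ?_)
    · rintro _ ⟨v, rfl⟩
      rw [hP, LinearMap.neg_apply]
      exact neg_mem (add_mem (Submodule.mem_sup_left ⟨y v, rfl⟩) (Submodule.mem_sup_right ⟨a v, rfl⟩))
    · rw [← (hPa a ha.self_mem).1]; exact range_mul_le _ _
    · rw [← (hPb y hy).1]; exact range_mul_le _ _
  have hcompl : IsCompl (LinearMap.ker P) (LinearMap.range P) := by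
    have : IsIdempotentElem P := hPP
    exact (LinearMap.IsIdempotentElem.isCompl this).symm
  rw [← hker, ← hrange]
  refine ⟨?_, hcompl⟩
  set w : GL' := u1 a ha.sq * u1 y qy.sq * u1 a ha.sq with hw
  have hua : u1 a ha.sq ∈ Rg G a := by rw [mem_Rg, u1_val, add_sub_cancel_left]; exact ha.self_mem
  have huy : u1 y qy.sq ∈ Rg G b := by rw [mem_Rg, u1_val, add_sub_cancel_left]; exact hy
  have hwm : w ∈ Rg G a ⊔ Rg G b :=
    mul_mem (mul_mem (Subgroup.mem_sup_left hua) (Subgroup.mem_sup_right huy)) (Subgroup.mem_sup_left hua)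
  have hiv : ((w * w : GL') : End') = 1 - P - P := by
    have hwv : (w : End') = (1 - P) + (a + y) := by rw [hw, swap_val ha.sq qy.sq ex, hP]; abel
    have z1 : (1 - P) * (a + y) = 0 := by
      rw [sub_mul, one_mul, mul_add, (hPa a ha.self_mem).1, (hPb y hy).1, sub_self]
    have z2 : (a + y) * (1 - P) = 0 := by
      rw [mul_sub, mul_one, add_mul, (hPa a ha.self_mem).2, (hPb y hy).2, sub_self]
    have z3 : (a + y) * (a + y) = -P := by
      rw [hP, add_mul, mul_add, mul_add, ha.sq, qy.sq, neg_neg]; abel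
    have z4 : (1 - P) * (1 - P) = 1 - P := by
      rw [sub_mul, one_mul, mul_sub, mul_one, hPP, sub_self, sub_zero]
    rw [Units.val_mul, hwv, show ∀ u v : End', (u + v) * (u + v) = u * u + u * v + (v * u + v * v) from
      fun u v => by noncomm_ring, z1, z2, z3, z4]
    abel
  have hfix : ∀ v ∈ LinearMap.ker P, ((w * w : GL') : End') v = v := fun v hv => by
    rw [hiv, LinearMap.sub_apply, LinearMap.sub_apply, Module.End.one_apply, LinearMap.mem_ker.1 hv, sub_zero,
      sub_zero]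
  have hneg : ∀ v ∈ LinearMap.range P, ((w * w : GL') : End') v = -v := by
    rintro _ ⟨v, rfl⟩
    rw [hiv, LinearMap.sub_apply, LinearMap.sub_apply, Module.End.one_apply, ← Module.End.mul_apply, hPP]
    abel
  refine ⟨w * w, ⟨mul_mem hwm hwm, ?_, ?_, ?_, hneg, hfix⟩, ?_⟩
  · intro h1
    obtain ⟨v, hv⟩ : ∃ v, a v ≠ 0 := by
      by_contra hno
      simp only [not_exists, not_not] at hno
      exact ha.ne (LinearMap.ext hno)
    have h2 := hneg (a v) (hrange.ge (Submodule.mem_sup_left ⟨v, rfl⟩))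
    rw [h1, Units.val_one, Module.End.one_apply] at h2
    have h3 : (2 : k) • a v = 0 := by rw [two_smul]; exact add_eq_zero_iff_eq_neg.2 h2
    exact hv ((smul_eq_zero.1 h3).resolve_left hs.h2)
  · refine Units.ext ?_
    rw [Units.val_mul, hiv, Units.val_one, sub_mul, sub_mul, one_mul, mul_sub, mul_sub, mul_one, hPP]
    abel
  · intro x hx
    rw [Subgroup.sup_eq_closure] at hx
    refine (Subgroup.mem_centralizer_singleton_iff.1 ((Subgroup.closure_le _).2 ?_ hx)).symm
    rintro g (hg | hg)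
    all_goals
      rw [SetLike.mem_coe, Subgroup.mem_centralizer_singleton_iff, mul_comm_iff, hiv,
        show 1 - P - P - 1 = -P - P by abel]
    · have h := hPa _ (mem_Rg.1 hg)
      generalize (g : End') - 1 = x at h ⊢
      simp [mul_sub, sub_mul, h.1, h.2]
    · have h := hPb _ (mem_Rg.1 hg)
      generalize (g : End') - 1 = x at h ⊢
      simp [mul_sub, sub_mul, h.1, h.2]
  · rintro j ⟨-, -, -, -, jneg, jfix⟩
    refine Units.ext (LinearMap.ext fun v => ?_)
    obtain ⟨p, hp, q, hq, rfl⟩ := Submodule.mem_sup.1 (hcompl.sup_eq_top.ge (Submodule.mem_top (x := v)))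
    rw [map_add, map_add, jfix p hp, jneg q hq, hfix p hp, hneg q hq]

/-- The SL₂ generated by two opposite scalar families. -/
theorem sl2_model (hs : QS G d) {a b : End'} (ha : Qd G d a) (hb : Qd G d b) (ho : Opp a b) :
    ∃ m : k[X], ∃ _ : Fact (Irreducible m), ∃ φ : Matrix.SpecialLinearGroup (Fin 2) (AdjoinRoot m) →* GL',
      Function.Injective φ ∧ φ.range = H2 k a b ∧
      ∀ r : AdjoinRoot m, φ (uM r) ∈ Rg G a ∧ φ (lM r) ∈ Rg G b := by
  obtain ⟨-, m, hirm, hcop, hmI, hmb, hall⟩ := opp_core hs.dick hs.h2 hs.h3 hs.min ha hb (ho.triple_ne ha.ne)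
  obtain ⟨-, -, -, -, -, -, hall'⟩ := opp_core hs.dick hs.h2 hs.h3 hs.min hb ha (ho.symm.triple_ne hb.ne)
  haveI := Fact.mk hirm
  refine ⟨m, ⟨hirm⟩, ?_⟩
  let ψ : Gam k (X : k[X]) →* Matrix.SpecialLinearGroup (Fin 2) (AdjoinRoot m) :=
    (red (aeval (AdjoinRoot.root m))).comp (Gam k (X : k[X])).subtype
  have hfull := full_adjoinRoot hs.dick hs.h2 hs.h3 m hirm.ne_zero hcop
  have hψ : Function.Surjective ψ := fun g => by
    have h1 := mem_of_uM_lM _ hfull g
    rw [← aeval_X (R := k) (AdjoinRoot.root m), ← Gam_map] at h1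
    obtain ⟨N, hN, e⟩ := h1
    exact ⟨⟨N, hN⟩, e⟩
  have hker : ∀ N, ψ N = 1 ↔ Phi (k := k) ha.sq hb.sq N = 1 := fun N =>
    ((Phi_eq_one_iff ha.sq hb.sq hmI hmb hcop N).trans MonoidHom.mem_ker).symm
  let φ := ψ.liftOfSurjective hψ ⟨Phi ha.sq hb.sq, fun N hN => (hker N).1 hN⟩
  have hφ : ∀ N, φ (ψ N) = Phi ha.sq hb.sq N := fun N =>
    MonoidHom.liftOfRightInverse_comp_apply ψ _ _ _ N
  refine ⟨φ, (injective_iff_map_eq_one φ).2 fun g hg => ?_, ?_, fun r => ?_⟩
  · obtain ⟨N, rfl⟩ := hψ g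
    rw [hφ] at hg
    exact (hker N).2 hg
  · rw [← Phi_range ha.sq hb.sq]
    refine le_antisymm ?_ ?_
    · rintro _ ⟨g, rfl⟩
      obtain ⟨N, rfl⟩ := hψ g
      exact ⟨N, (hφ N).symm⟩
    · rintro _ ⟨N, rfl⟩
      exact ⟨ψ N, hφ N⟩
  · constructor
    · obtain ⟨N, hN⟩ := hψ (uM r)
      obtain ⟨p, q, r', s, h⟩ := gam_shape N.2
      have e : ∀ i j, AdjoinRoot.mk m ((N.1 : Matrix (Fin 2) (Fin 2) k[X]) i j) =
          (uM r : Matrix (Fin 2) (Fin 2) (AdjoinRoot m)) i j := fun i j => by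
        rw [← hN]; simp [ψ, AdjoinRoot.aeval_eq]
      have hp : m ∣ p := by have := e 0 0; simpa [h, uM_val, AdjoinRoot.mk_eq_zero, (root_unit hcop).ne_zero] using this
      have hr : m ∣ r' := by have := e 1 0; simpa [h, uM_val, AdjoinRoot.mk_eq_zero, (root_unit hcop).ne_zero] using this
      have hss : m ∣ s := by have := e 1 1; simpa [h, uM_val, AdjoinRoot.mk_eq_zero, (root_unit hcop).ne_zero] using this
      obtain ⟨r'', rfl⟩ := hr
      obtain ⟨s', rfl⟩ := hss
      rw [← hN, hφ, mem_Rg, Phi_val, wordVal_of_shape h, form, ← mul_assoc (aeval (a * b) p),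
        (hmI p).2 hp, zero_mul, map_mul, map_mul, ← mul_assoc b, hmb,
        ← mul_assoc b, hmb]
      simp only [zero_mul, add_zero, add_sub_cancel_left]
      refine mem_Rt (ker_le_ker_mul _ _) (by rw [aeval_mul_eq]; exact range_mul_le _ _) ha.sq fun c => ?_
      exact (hall q c).imp fun g hg => ⟨H2_le ha.mem hb.mem hg.1, hg.2⟩
    · obtain ⟨N, hN⟩ := hψ (lM r)
      obtain ⟨p, q, r', s, h⟩ := gam_shape N.2
      have e : ∀ i j, AdjoinRoot.mk m ((N.1 : Matrix (Fin 2) (Fin 2) k[X]) i j) =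
          (lM r : Matrix (Fin 2) (Fin 2) (AdjoinRoot m)) i j := fun i j => by
        rw [← hN]; simp [ψ, AdjoinRoot.aeval_eq]
      have hp : m ∣ p := by have := e 0 0; simpa [h, lM_val, AdjoinRoot.mk_eq_zero, (root_unit hcop).ne_zero] using this
      have hq : m ∣ q := by have := e 0 1; simpa [h, lM_val, AdjoinRoot.mk_eq_zero] using this
      have hss : m ∣ s := by have := e 1 1; simpa [h, lM_val, AdjoinRoot.mk_eq_zero, (root_unit hcop).ne_zero] using this
      obtain ⟨s', rfl⟩ := hss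
      rw [← hN, hφ, mem_Rg, Phi_val, wordVal_of_shape h, form, ← mul_assoc (aeval (a * b) p),
        (hmI p).2 hp, (hmI q).2 hq, zero_mul, map_mul, ← mul_assoc b, hmb]
      simp only [zero_mul, add_zero, add_sub_cancel_left]
      rw [aeval_swap]
      refine mem_Rt (ker_le_ker_mul _ _) (by rw [aeval_mul_eq]; exact range_mul_le _ _) hb.sq fun c => ?_
      exact (hall' r' c).imp fun g hg => ⟨H2_le hb.mem ha.mem hg.1, hg.2⟩

theorem psl2_pair (hs : QS G d) {a b : End'} (ha : Qd G d a) (hb : Qd G d b) (ho : Opp a b) :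
    ∃ A₀ B₀ : Subgroup GL', A₀ ≤ Rg G a ∧ B₀ ≤ Rg G b ∧
      ∃ (k₁ : Type u) (_ : Field k₁), 3 < ENat.card k₁ ∧ IsPSL2PairOver k₁ A₀ B₀ := by
  obtain ⟨m, hm, φ, hinj, -, hroot⟩ := sl2_model hs ha hb ho
  refine ⟨(upperUnipotentSL2 (AdjoinRoot m)).map φ, (lowerUnipotentSL2 (AdjoinRoot m)).map φ, ?_, ?_,
    AdjoinRoot m, inferInstance, ?_, φ, ?_, ?_, rfl, rfl⟩
  · rw [Subgroup.map_le_iff_le_comap]
    refine (Subgroup.closure_le _).2 fun g ⟨h10, h00, h11⟩ => ?_
    rw [SetLike.mem_coe, Subgroup.mem_comap]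
    convert (hroot ((g : Matrix (Fin 2) (Fin 2) (AdjoinRoot m)) 0 1)).1
    refine Matrix.SpecialLinearGroup.ext _ _ fun i j => ?_
    fin_cases i <;> fin_cases j <;> simp [uM_val, h10, h00, h11]
  · rw [Subgroup.map_le_iff_le_comap]
    refine (Subgroup.closure_le _).2 fun g ⟨h01, h00, h11⟩ => ?_
    rw [SetLike.mem_coe, Subgroup.mem_comap]
    convert (hroot ((g : Matrix (Fin 2) (Fin 2) (AdjoinRoot m)) 1 0)).2
    refine Matrix.SpecialLinearGroup.ext _ _ fun i j => ?_
    fin_cases i <;> fin_cases j <;> simp [lM_val, h01, h00, h11]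
  · obtain ⟨c, hc0, hc1⟩ := exists_not_pm_one hs.h2 hs.h3
    have h4 : Function.Injective (![0, 1, -1, c] : Fin 4 → k) := by
      have h11 : (-1 : k) ≠ 1 := fun h => hs.h2 (by linear_combination -h)
      have c1 : c ≠ 1 := fun h => hc1 (by rw [h, one_pow])
      have c2 : c ≠ -1 := fun h => hc1 (by rw [h]; ring)
      intro i j
      fin_cases i <;> fin_cases j <;> simp [hc0, hc0.symm, h11, h11.symm, c1, c1.symm, c2, c2.symm]
    have h5 := ENat.card_le_card_of_injective
      ((algebraMap k (AdjoinRoot m)).injective.comp h4)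
    rw [ENat.card_eq_coe_fintype_card, Fintype.card_fin] at h5
    exact lt_of_lt_of_le (by norm_num) h5
  · rw [← Subgroup.map_sup, MonoidHom.range_eq_map]
    congr 1
    refine ((Subgroup.eq_top_iff' _).2 fun g => mem_of_uM_lM _ (fun r => ?_) g).symm
    refine ⟨Subgroup.mem_sup_left (Subgroup.subset_closure ?_), Subgroup.mem_sup_right (Subgroup.subset_closure ?_)⟩
    · simp [uM_val]
    · simp [lM_val]
  · rw [(MonoidHom.ker_eq_bot_iff φ).2 hinj]; exact bot_le

end Cfsg.Agent.Lead.QP
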