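/-
The components of the opposition graph on root groups and the subgroups they generate.
-/
import Cfsg.Agent.Lib.Lead.QP.Opposite

set_option autoImplicit false
set_option linter.unusedSectionVars false

universe u

namespace Cfsg.Agent.Lead.QP

open Cfsg Polynomial

variable {k : Type u} [Field k] {M : Type u} [AddCommGroup M] [Module k M] [FiniteDimensional k M]

local notation "End'" => Module.End k M
local notation "GL'" => LinearMap.GeneralLinearGroup k M

variable {G : Subgroup (LinearMap.GeneralLinearGroup k M)} {d : ℕ}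

/-- The root groups. -/
def Sig (G : Subgroup (LinearMap.GeneralLinearGroup k M)) (d : ℕ) : Set (Subgroup (LinearMap.GeneralLinearGroup k M)) :=
  {A | ∃ a : Module.End k M, Qd G d a ∧ A = Rg G a}

/-- Opposition of roots. -/
def OppR (G : Subgroup (LinearMap.GeneralLinearGroup k M)) (d : ℕ) (a b : Module.End k M) : Prop :=
  Qd G d a ∧ Qd G d b ∧ Opp a b

/-- Two roots lie in the same component. -/
def Con (G : Subgroup (LinearMap.GeneralLinearGroup k M)) (d : ℕ) (a b : Module.End k M) : Prop :=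
  Relation.ReflTransGen (OppR G d) a b

theorem Con.symm {a b : End'} (h : Con G d a b) : Con G d b a := by
  induction h with
  | refl => exact Relation.ReflTransGen.refl
  | tail _ h2 ih => exact Relation.ReflTransGen.head ⟨h2.2.1, h2.1, h2.2.2.symm⟩ ih

theorem Con.trans {a b c : End'} (h : Con G d a b) (h' : Con G d b c) : Con G d a c :=
  Relation.ReflTransGen.trans h h'

theorem Con.of_opp {a b : End'} (ha : Qd G d a) (hb : Qd G d b) (h : Opp a b) : Con G d a b :=
  Relation.ReflTransGen.single ⟨ha, hb, h⟩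

theorem Con.qd {a b : End'} (ha : Qd G d a) (h : Con G d a b) : Qd G d b := by
  induction h with
  | refl => exact ha
  | tail _ h2 _ => exact h2.2.1

theorem Rt_of_Rg_eq {a b : End'} (h : Rg G a = Rg G b) : Rt G a = Rt G b := by
  have key : ∀ {a b : End'}, Rg G a = Rg G b → Rt G a ≤ Rt G b := by
    intro a b h x hx
    obtain ⟨g, hg, hgv⟩ := exists_mem_Rg hx
    rw [h, mem_Rg, hgv, add_sub_cancel_left] at hg
    exact hg
  exact le_antisymm (key h) (key h.symm)

theorem same_of_Rg_eq (hs : QS G d) {a b : End'} (ha : Qd G d a) (hb : Qd G d b) (h : Rg G a = Rg G b) :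
    LinearMap.range a = LinearMap.range b ∧ LinearMap.ker a = LinearMap.ker b :=
  (Rt_qd hs hb (Rt_of_Rg_eq h ▸ ha.self_mem) ha.ne).2

theorem Con.of_Rg_eq (hs : QS G d) (hp : Partners G d) {a b : End'} (ha : Qd G d a) (hb : Qd G d b)
    (h : Rg G a = Rg G b) : Con G d a b := by
  obtain ⟨c, hc, ho⟩ := hp a ha
  obtain ⟨hr, hk⟩ := same_of_Rg_eq hs ha hb h
  exact (Con.of_opp ha hc ho).trans (Con.of_opp hb hc (ho.of_same hr.symm hk.symm rfl rfl)).symm

theorem Cls.con (hs : QS G d) (hp : Partners G d) {a b : End'} (h : Cls G a b) (ha : Qd G d a) (hb : Qd G d b) :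
    Con G d a (a * b - b * a) := by
  have hzne := h.z_ne ha hb
  set z := a * b - b * a with hzdef
  have hz := h.z_qd hs ha hb
  obtain ⟨c, hc, ho⟩ := hp z hz
  by_cases hac : Opp a c
  · exact (Con.of_opp ha hc hac).trans (Con.of_opp hz hc ho).symm
  have e0 : c * a * c = 0 := ((hs.dichotomy ha hc).resolve_left hac).2
  set u : GL' := u1 b hb.sq with hu
  have huG : u ∈ Subgroup.normalizer (G : Set GL') := Subgroup.le_normalizer (InFam.u1_mem hb.mem hb.sq)
  have e1 : cj u a = a - z := by
    rw [cj_apply, hu, show (((u1 b hb.sq)⁻¹ : GL') : End') = 1 - b from rfl, u1_val, hzdef]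
    simp only [mul_add, add_mul, mul_sub, mul_one, one_mul,
      triple_zero' hs ha hb h.1 hb.self_mem ha.self_mem hb.self_mem]
    abel
  have hog : Opp (cj u a) c := by
    rcases hs.dichotomy (ha.cj huG) hc with hh | hh
    · exact hh
    · exfalso
      have e2 := hh.2
      rw [e1, mul_sub, sub_mul, e0, zero_sub, neg_eq_zero] at e2
      exact ho.symm.triple_ne hc.ne e2
  have hk' : Qd G d (cj u⁻¹ c) := hc.cj (inv_mem huG)
  have hfix : cj u⁻¹ z = z := by
    obtain ⟨z1, z2⟩ := h.z_ann' hs ha hb hb.self_mem hz.self_mem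
    rw [← hzdef] at z1 z2
    rw [cj_apply, inv_inv, hu, show (((u1 b hb.sq)⁻¹ : GL') : End') = 1 - b from rfl, u1_val]
    simp only [sub_mul, mul_add, mul_one, one_mul, z1, z2, sub_zero, add_zero]
  have h1 := opp_cj hog u⁻¹
  have h2 := opp_cj ho u⁻¹
  rw [cj_inv] at h1
  rw [hfix] at h2
  exact (Con.of_opp ha hk' h1).trans (Con.of_opp hz hk' h2).symm

theorem comm_of_not_con (hs : QS G d) (hp : Partners G d) {a b : End'} (ha : Qd G d a) (hb : Qd G d b)
    (h : ¬ Con G d a b) : Comm2 G a b := by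
  rcases trichotomy hs ha hb with ho | hc | hc
  · exact absurd (Con.of_opp ha hb ho) h
  · exact hc
  · exfalso
    have h1 := hc.con hs hp ha hb
    have h2 := hc.symm.con hs hp hb ha
    refine h (h1.trans (Con.trans ?_ h2.symm))
    have hz := hc.z_qd hs ha hb
    refine Con.of_Rg_eq hs hp hz (hc.symm.z_qd hs hb ha) (Rg_congr ?_)
    rw [← neg_sub (b * a), Rt_neg _ (hc.symm.z_qd hs hb ha).sq]

theorem Con.cj {a b : End'} (h : Con G d a b) {g : GL'} (hg : g ∈ Subgroup.normalizer (G : Set GL')) :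
    Con G d (cj g a) (cj g b) := by
  induction h with
  | refl => exact Relation.ReflTransGen.refl
  | tail _ h2 ih => exact Relation.ReflTransGen.tail ih ⟨h2.1.cj hg, h2.2.1.cj hg, opp_cj h2.2.2 g⟩

/-- The root groups of a component. -/
def part (G : Subgroup (LinearMap.GeneralLinearGroup k M)) (d : ℕ) (a : Module.End k M) :
    Set (Subgroup (LinearMap.GeneralLinearGroup k M)) :=
  {A | ∃ b, Con G d a b ∧ A = Rg G b}

/-- The group generated by a component. -/
def GP (G : Subgroup (LinearMap.GeneralLinearGroup k M)) (d : ℕ) (a : Module.End k M) :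
    Subgroup (LinearMap.GeneralLinearGroup k M) :=
  ⨆ A ∈ part G d a, A

theorem Rg_le_GP {a b : End'} (h : Con G d a b) : Rg G b ≤ GP G d a := le_iSup₂_of_le _ ⟨b, h, rfl⟩ le_rfl

theorem GP_le {a : End'} {H : Subgroup GL'} (h : ∀ b, Con G d a b → Rg G b ≤ H) : GP G d a ≤ H :=
  iSup₂_le fun _ ⟨b, hb, e⟩ => e ▸ h b hb

theorem GP_le_self (a : End') : GP G d a ≤ G := GP_le fun b _ => Rg_le b

theorem part_eq {a b : End'} (h : Con G d a b) : part G d a = part G d b := by
  ext A
  exact ⟨fun ⟨c, hc, e⟩ => ⟨c, h.symm.trans hc, e⟩, fun ⟨c, hc, e⟩ => ⟨c, h.trans hc, e⟩⟩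

theorem part_sub {a : End'} (ha : Qd G d a) : part G d a ⊆ Sig G d := fun _ ⟨b, hb, e⟩ => ⟨b, hb.qd ha, e⟩

theorem con_of_part (hs : QS G d) (hp : Partners G d) {a b : End'} (ha : Qd G d a) (hb : Qd G d b)
    (h : Rg G b ∈ part G d a) : Con G d a b := by
  obtain ⟨c, hc, e⟩ := h
  exact hc.trans (Con.of_Rg_eq hs hp (hc.qd ha) hb e.symm)

theorem GP_commute (hs : QS G d) (hp : Partners G d) {a b : End'} (ha : Qd G d a) (hb : Qd G d b)
    (h : ¬ Con G d a b) : ⁅GP G d a, GP G d b⁆ = ⊥ := by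
  rw [Subgroup.commutator_eq_bot_iff_le_centralizer]
  refine GP_le fun a' ha' => Subgroup.le_centralizer_iff.1 (GP_le fun b' hb' => ?_)
  refine Subgroup.le_centralizer_iff.1 ?_
  rw [← Subgroup.commutator_eq_bot_iff_le_centralizer, comm_bot_iff]
  exact comm_of_not_con hs hp (ha'.qd ha) (hb'.qd hb) fun hc => h (ha'.trans (hc.trans hb'.symm))

theorem cj_self_of_mem {b : End'} {g : GL'} (hg : g ∈ Rg G b) (hb : b ∈ Rt G b) : cj g b = b := by
  have h1 := Rt_mul (mem_Rg.1 hg) hb
  have h2 := Rt_mul hb (mem_Rg.1 hg)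
  have e : (g : End') * b = b * (g : End') := by
    rw [sub_mul, one_mul, sub_eq_zero] at h1
    rw [mul_sub, mul_one, sub_eq_zero] at h2
    rw [h1, h2]
  rw [cj_apply, e, mul_assoc, ← Units.val_mul, mul_inv_cancel, Units.val_one, mul_one]

/-- The stabiliser of a component. -/
def Stb (G : Subgroup (LinearMap.GeneralLinearGroup k M)) (d : ℕ) (a : Module.End k M) :
    Subgroup (LinearMap.GeneralLinearGroup k M) where
  carrier := {g | g ∈ Subgroup.normalizer (G : Set (LinearMap.GeneralLinearGroup k M)) ∧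
    ∀ b, Qd G d b → (Con G d a (cj g b) ↔ Con G d a b)}
  one_mem' := ⟨one_mem _, fun b _ => by rw [cj_one]⟩
  mul_mem' := by
    rintro g h ⟨hg, hg'⟩ ⟨hh, hh'⟩
    refine ⟨mul_mem hg hh, fun b hb => ?_⟩
    rw [← cj_comp, hg' _ (hb.cj hh), hh' b hb]
  inv_mem' := by
    rintro g ⟨hg, hg'⟩
    refine ⟨inv_mem hg, fun b hb => ?_⟩
    rw [← hg' _ (hb.cj (inv_mem hg)), cj_comp, mul_inv_cancel, cj_one]

theorem mem_Stb {a c : End'} {g : GL'} (hg : g ∈ Subgroup.normalizer (G : Set GL'))
    (hc : Con G d a c) (hgc : Con G d a (cj g c)) : g ∈ Stb G d a := by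
  refine ⟨hg, fun b _ => ?_⟩
  have hga : Con G d a (cj g a) := hgc.trans (hc.cj hg).symm
  refine ⟨fun h => ?_, fun h => hga.trans (h.cj hg)⟩
  have h1 := (hga.symm.trans h).cj (inv_mem hg)
  rwa [cj_inv, cj_inv] at h1

theorem Rg_le_Stb (hs : QS G d) (hp : Partners G d) {a c : End'} (ha : Qd G d a) (hc : Qd G d c) :
    Rg G c ≤ Stb G d a := by
  intro g hg
  by_cases h : Con G d a c
  · refine mem_Stb (Subgroup.le_normalizer (Rg_le c hg)) h ?_
    rw [cj_self_of_mem hg hc.self_mem]
    exact h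
  · refine mem_Stb (Subgroup.le_normalizer (Rg_le c hg)) Relation.ReflTransGen.refl ?_
    have hcomm := comm_of_not_con hs hp ha hc h a ha.self_mem _ (mem_Rg.1 hg)
    have e : (g : End') * a = a * (g : End') := by
      rw [mul_sub, mul_one, sub_mul, one_mul, sub_left_inj] at hcomm
      exact hcomm.symm
    rw [cj_apply, e, mul_assoc, ← Units.val_mul, mul_inv_cancel, Units.val_one, mul_one]
    exact Relation.ReflTransGen.refl

theorem part_conj_mem {a : End'} (ha : Qd G d a) {g : GL'} (hg : g ∈ Stb G d a) {A : Subgroup GL'}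
    (hA : A ∈ part G d a) : conjBy A g ∈ part G d a := by
  obtain ⟨b, hb, rfl⟩ := hA
  exact ⟨cj g b, (hg.2 b (hb.qd ha)).2 hb, conjBy_Rg (hb.qd ha).sq hg.1⟩

theorem GP_normal {a : End'} (ha : Qd G d a) {g : GL'} (hg : g ∈ Stb G d a) :
    conjBy (GP G d a) g = GP G d a := by
  have hmap : ∀ g ∈ Stb G d a, conjBy (GP G d a) g ≤ GP G d a := fun g hg => by
    rw [conjBy, Subgroup.map_le_iff_le_comap]
    refine GP_le fun b hb x hx => ?_
    obtain ⟨c, hc, e⟩ := part_conj_mem ha hg ⟨b, hb, rfl⟩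
    exact Rg_le_GP hc (e ▸ ⟨x, hx, rfl⟩)
  refine le_antisymm (hmap g hg) ?_
  have h := Subgroup.map_mono (f := (MulAut.conj g).toMonoidHom) (hmap g⁻¹ (inv_mem hg))
  rw [show (conjBy (GP G d a) g⁻¹).map (MulAut.conj g).toMonoidHom = conjBy (conjBy (GP G d a) g⁻¹) g from rfl,
    conjBy_comp, mul_inv_cancel, conjBy_one'] at h
  exact h

theorem GP_le_Stb (hs : QS G d) (hp : Partners G d) {a : End'} (ha : Qd G d a) : GP G d a ≤ Stb G d a :=
  GP_le fun _ hb => Rg_le_Stb hs hp ha (hb.qd ha)

/-- The members of a component are conjugate inside the group they generate. -/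
theorem con_conj (hs : QS G d) {a b : End'} (ha : Qd G d a) (h : Con G d a b) :
    ∃ g ∈ GP G d a, conjBy (Rg G a) g = Rg G b := by
  induction h with
  | refl => exact ⟨1, one_mem _, conjBy_one' _⟩
  | @tail c e hac hce ih =>
    obtain ⟨g, hg, hgc⟩ := ih
    obtain ⟨x, hx, hxv⟩ := exists_mem_Rg hce.1.self_mem
    obtain ⟨f, hf, -, -, hc⟩ := pair_inverse hs hce.1 hce.2.1 hce.2.2 hx
      (fun h1 => hce.1.ne (by rw [h1, Units.val_one] at hxv; exact add_eq_left.1 hxv.symm))
    refine ⟨x * f * g, mul_mem (mul_mem (Rg_le_GP hac hx) (Rg_le_GP (hac.tail hce) hf)) hg, ?_⟩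
    rw [← conjBy_comp, hgc, ← conjBy_comp, hc, conjBy_comp, mul_inv_cancel, conjBy_one']

theorem parts_finite (hs : QS G d) (hp : Partners G d) :
    {S : Set (Subgroup GL') | ∃ a, Qd G d a ∧ S = part G d a}.Finite := by
  classical
  set P := {S : Set (Subgroup GL') | ∃ a, Qd G d a ∧ S = part G d a}
  choose rep hrep using fun S : P => S.2
  have hli : LinearIndependent k rep := by
    rw [linearIndependent_iff']
    intro s c hsum j hj
    obtain ⟨b, hb, ho⟩ := hp _ (hrep j).1
    obtain ⟨y, hy, qy, hoy, ey, ey'⟩ := hs.inverse (hrep j).1 hb ho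
    have h0 : ∀ i ∈ s, i ≠ j → y * rep i * y = 0 := by
      intro i _ hij
      have hn : ¬ Con G d (rep i) y := fun hc => hij (Subtype.ext (by
        rw [(hrep i).2, (hrep j).2, part_eq (hc.trans (Con.of_opp (hrep j).1 qy hoy).symm)]))
      rw [mul_assoc, comm_of_not_con hs hp (hrep i).1 qy hn _ (hrep i).1.self_mem y qy.self_mem, ← mul_assoc,
        qy.sq, zero_mul]
    have h1 := congrArg (fun z => y * z * y) hsum
    simp only [Finset.mul_sum, Finset.sum_mul, mul_zero, zero_mul, mul_smul_comm, smul_mul_assoc] at h1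
    rw [Finset.sum_eq_single j (fun i hi hij => by rw [h0 i hi hij, smul_zero]) (fun h => absurd hj h), ey',
      smul_neg, neg_eq_zero, smul_eq_zero] at h1
    exact h1.resolve_right qy.ne
  exact Set.finite_coe_iff.1 hli.finite

/-- A square zero element with scalar family in a normalising group fixes every component. -/
theorem quad_mem_Stb (hs : QS G d) (hp : Partners G d) {a q : End'} (ha : Qd G d a) (hq : q * q = 0)
    (hn : u1 q hq ∈ Subgroup.normalizer (G : Set GL')) : u1 q hq ∈ Stb G d a := by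
  by_contra hno
  obtain ⟨b, hb, ho⟩ := hp a ha
  obtain ⟨y, hy, qy, hoy, ey, ey'⟩ := hs.inverse ha hb ho
  set u : GL' := u1 q hq with hu
  have hay : Con G d a y := Con.of_opp ha qy hoy
  have hv : ∀ x : End', cj u x = x + (q * x - x * q) - q * x * q ∧
      cj u⁻¹ x = x - (q * x - x * q) - q * x * q := fun x => by
    constructor
    · rw [cj_apply, hu, show (((u1 q hq)⁻¹ : GL') : End') = 1 - q from rfl, u1_val]
      noncomm_ring
    · rw [cj_apply, inv_inv, hu, show (((u1 q hq)⁻¹ : GL') : End') = 1 - q from rfl, u1_val]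
      noncomm_ring
  have hn1 : ¬ Con G d a (cj u a) := fun h => hno (mem_Stb hn Relation.ReflTransGen.refl h)
  have hn2 : ¬ Con G d a (cj u⁻¹ a) := fun h =>
    hno (inv_inv u ▸ inv_mem (mem_Stb (inv_mem hn) Relation.ReflTransGen.refl h))
  have c1 : ∀ x : End', Con G d a x → x * cj u a = cj u a * x := fun x hx =>
    comm_of_not_con hs hp (hx.qd ha) (ha.cj hn) (fun h => hn1 (hx.trans h)) x (hx.qd ha).self_mem _
      (ha.cj hn).self_mem
  have c2 : ∀ x : End', Con G d a x → x * cj u⁻¹ a = cj u⁻¹ a * x := fun x hx =>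
    comm_of_not_con hs hp (hx.qd ha) (ha.cj (inv_mem hn)) (fun h => hn2 (hx.trans h)) x (hx.qd ha).self_mem _
      (ha.cj (inv_mem hn)).self_mem
  -- the linear part commutes with the component
  have odd : ∀ x : End', Con G d a x → x * (q * a - a * q) = (q * a - a * q) * x := fun x hx => by
    have e1 := c1 x hx
    have e2 := c2 x hx
    rw [(hv a).1] at e1
    rw [(hv a).2] at e2
    have h2 : (2 : k) • (x * (q * a - a * q)) = (2 : k) • ((q * a - a * q) * x) := by
      have := congrArg₂ (fun s t => s - t) e1 e2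
      simp only [mul_add, add_mul, mul_sub, sub_mul, two_smul] at this ⊢
      linear_combination (norm := abel) this
    exact (IsUnit.mk0 _ hs.h2).smul_left_cancel.1 h2
  have o1 := odd a Relation.ReflTransGen.refl
  simp only [mul_sub, sub_mul, ← mul_assoc, ha.sq, zero_mul, sub_zero] at o1
  simp only [mul_assoc q a a, ha.sq, mul_zero, zero_sub] at o1
  have h1 : a * q * a = 0 := by
    have h2 : (2 : k) • (a * q * a) = 0 := by rw [two_smul]; exact add_eq_zero_iff_eq_neg.2 o1
    exact (smul_eq_zero.1 h2).resolve_left hs.h2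
  have o2 := odd y hay
  simp only [mul_sub, sub_mul, ← mul_assoc] at o2
  have hl : a * (y * q * a - y * a * q) = a * (q * a * y - a * q * y) := congrArg (fun t => a * t) o2
  have hr : (y * q * a - y * a * q) * a = (q * a * y - a * q * y) * a := congrArg (fun t => t * a) o2
  simp only [mul_sub, ← mul_assoc, ey, ha.sq, zero_mul, h1, neg_mul, sub_neg_eq_add, sub_zero] at hl
  have hr' : -(y * (a * q * a)) + 0 = q * (a * y * a) - a * q * y * a := by
    calc -(y * (a * q * a)) + 0 = (y * q * a - y * a * q) * a := by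
          simp [sub_mul, mul_assoc, ha.sq]
      _ = (q * a * y - a * q * y) * a := hr
      _ = _ := by simp [sub_mul, mul_assoc]
  rw [h1, mul_zero, neg_zero, add_zero, ey, mul_neg, eq_comm, sub_eq_zero] at hr'
  -- hl : a * y * q * a + a * q = 0,  hr' : -(q * a) = a * q * y * a
  have e4 : a * y * (q * a) = -(a * y * (a * q * y * a)) := by
    rw [← neg_neg (q * a), hr', mul_neg]
  rw [show a * y * (a * q * y * a) = a * y * a * (q * y * a) by simp only [mul_assoc], ey, neg_mul, neg_neg,
    ← mul_assoc, ← mul_assoc, ← mul_assoc] at e4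
  have haq : a * q = q * a := by
    rw [e4] at hl
    rw [← neg_neg (q * a), hr', ← sub_eq_zero, sub_neg_eq_add, add_comm]
    exact hl
  refine hn1 ?_
  rw [(hv a).1, haq, sub_self, add_zero, ← haq, mul_assoc, hq, mul_zero, sub_zero]
  exact Relation.ReflTransGen.refl

end Cfsg.Agent.Lead.QP
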