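/-
Unipotent subgroups inside normal subgroups of an irreducible linear group, and the splitting of a quadratic
element relative to a normal subgroup.
-/
import Cfsg.Agent.Lib.Lead.QP.Groups

set_option autoImplicit false
set_option linter.unusedSectionVars false

universe u

namespace Cfsg.Agent.Lead.QP

open Cfsg Polynomial
open scoped commutatorElement

variable {k : Type u} [Field k] {M : Type u} [AddCommGroup M] [Module k M] [FiniteDimensional k M]

local notation "End'" => Module.End k M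
local notation "GL'" => LinearMap.GeneralLinearGroup k M

theorem uni_closure {T : Set GL'} (h : S5061.Uni T) : IsUnipotentOn (Subgroup.closure T) := by
  obtain ⟨n, hn⟩ := h
  let K : Subgroup GL' :=
    { carrier := {g | S5061.dd g ∈ S5061.Ap T 1}
      one_mem' := by simp [S5061.dd]
      mul_mem' := fun {g h} hg hh => by
        change S5061.dd (g * h) ∈ S5061.Ap T 1
        rw [S5061.dd_mul]
        exact add_mem (add_mem (S5061.Ap_anti T (by omega) (S5061.Ap_mul hg hh)) hg) hh
      inv_mem' := fun {g} hg => by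
        refine S5061.inv_mem_of (n := n) (fun a ha b hb => S5061.Ap_anti T (by omega) (S5061.Ap_mul ha hb)) hg ?_
        have := S5061.list_mem (T := T) (List.replicate n g) fun a ha => (List.eq_of_mem_replicate ha) ▸ hg
        rw [List.map_replicate, List.prod_replicate, List.length_replicate, hn] at this
        exact this }
  have hle : Subgroup.closure T ≤ K := (Subgroup.closure_le _).2 fun g hg => S5061.dd_mem hg
  refine unipotent_iff.2 ⟨n, fun l hl hlen => ?_⟩
  have := S5061.list_mem (T := T) l fun g hg => hle (hl g hg)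
  rw [hlen, hn] at this
  exact this

theorem unipotent_mono {U V : Subgroup GL'} (hle : U ≤ V) (h : IsUnipotentOn V) : IsUnipotentOn U := by
  obtain ⟨n, hn⟩ := unipotent_iff.1 h
  exact unipotent_iff.2 ⟨n, fun l hl hlen => hn l (fun g hg => hle (hl g hg)) hlen⟩

theorem unipotent_sup {V W : Subgroup GL'} (hV : IsUnipotentOn V) (hW : IsUnipotentOn W)
    (hn : W ≤ Subgroup.normalizer (V : Set GL')) : IsUnipotentOn (V ⊔ W) := by
  rw [Subgroup.sup_eq_closure]
  exact uni_closure (S5061.uni_union (S5061.uni_of_isUnipotentOn hV) (S5061.uni_of_isUnipotentOn hW)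
    fun h hh x hx => (Subgroup.mem_normalizer_iff.1 (hn hh) x).1 hx)

theorem unipotent_conj {V : Subgroup GL'} (hV : IsUnipotentOn V) (g : GL') : IsUnipotentOn (conjBy V g) := by
  obtain ⟨n, hn⟩ := unipotent_iff.1 hV
  refine unipotent_iff.2 ⟨n, fun l hl hlen => ?_⟩
  have e : l = (l.map fun x => g⁻¹ * x * g).map fun x => g * x * g⁻¹ := by
    rw [List.map_map]
    conv_lhs => rw [← List.map_id l]
    exact List.map_congr_left fun x _ => by simp [mul_assoc]
  have h0 := hn (l.map fun x => g⁻¹ * x * g) (fun x hx => by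
    obtain ⟨y, hy, rfl⟩ := List.mem_map.1 hx
    obtain ⟨v, hv, e⟩ := hl y hy
    change g * v * g⁻¹ = y at e
    rw [← e]; simpa [mul_assoc] using hv) (by simpa using hlen)
  rw [e]
  change (((l.map fun x => g⁻¹ * x * g).map fun x => g * x * g⁻¹).map S5061.dd).prod = 0
  rw [← S5061.prod_conj]
  change (g : End') * (((l.map fun x => g⁻¹ * x * g).map fun x : GL' => (x : End') - 1).prod) * _ = 0
  rw [h0, mul_zero, zero_mul]

theorem mem_normalizer_of_conjBy {U : Subgroup GL'} {g : GL'} (e : conjBy U g = U) :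
    g ∈ Subgroup.normalizer (U : Set GL') := by
  refine Subgroup.mem_normalizer_iff.2 fun x => ⟨fun hx => e ▸ ⟨x, hx, rfl⟩, fun hx => ?_⟩
  rw [← e] at hx
  obtain ⟨y, hy, hxy⟩ := hx
  change g * y * g⁻¹ = g * x * g⁻¹ at hxy
  rwa [← mul_left_cancel (mul_right_cancel hxy)]

theorem normal_le_normalizer {K : Subgroup GL'} {U : Subgroup GL'}
    (h : ∀ g ∈ K, ∀ x ∈ U, g * x * g⁻¹ ∈ U) : K ≤ Subgroup.normalizer (U : Set GL') := fun g hg =>
  Subgroup.mem_normalizer_iff.2 fun x => ⟨h g hg x, fun hx => by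
    have := h g⁻¹ (inv_mem hg) _ hx
    simpa [mul_assoc] using this⟩

/-- A normal subgroup of an irreducible group has no non-trivial unipotent normal subgroup. -/
theorem unipotent_in_normal {G K V : Subgroup GL'} (hirr : IsIrreducibleFor G) (hKG : K ≤ G)
    (hn : G ≤ Subgroup.normalizer (K : Set GL')) (hVK : V ≤ K) (hV : IsUnipotentOn V)
    (hKV : K ≤ Subgroup.normalizer (V : Set GL')) : V = ⊥ := by
  let W : Set (Subgroup GL') := {U | U ≤ K ∧ K ≤ Subgroup.normalizer (U : Set GL') ∧ IsUnipotentOn U}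
  have hconj : ∀ A ∈ W, ∀ g ∈ G, conjBy A g ∈ W := by
    intro A hA g hg
    refine ⟨?_, ?_, unipotent_conj hA.2.2 g⟩
    · rintro _ ⟨x, hx, rfl⟩
      exact (Subgroup.mem_normalizer_iff.1 (hn hg) x).1 (hA.1 hx)
    · refine normal_le_normalizer fun y hy => ?_
      rintro _ ⟨x, hx, rfl⟩
      refine ⟨(g⁻¹ * y * g) * x * (g⁻¹ * y * g)⁻¹, (Subgroup.mem_normalizer_iff.1 (hA.2.1 ?_) x).1 hx, ?_⟩
      · have := (Subgroup.mem_normalizer_iff.1 (hn (inv_mem hg)) y).1 hy
        rwa [inv_inv] at this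
      · simp [mul_assoc]
  obtain ⟨hu, hnorm⟩ := S5061.result (G := G) (W := W) (fun A hA => hA.1.trans hKG)
    (fun A hA B hB => unipotent_sup hA.2.2 hB.2.2 (hB.1.trans hA.2.1)) hconj
  have hbot := unipotent_normal_trivial ⟨hirr.1, hirr.2⟩ hu (fun g hg x hx => by
    have h1 : (g⁻¹ : GL') * x * (g⁻¹)⁻¹ ∈ conjBy (⨆ A ∈ W, A) g⁻¹ := ⟨x, hx, rfl⟩
    rwa [hnorm _ (inv_mem hg), inv_inv] at h1)
  exact le_bot_iff.1 (hbot ▸ (le_iSup₂_of_le V ⟨hVK, hKV, hV⟩ le_rfl : V ≤ ⨆ A ∈ W, A))

/-! ### Scalar families -/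

theorem closure_fam {a : End'} (ha : a * a = 0) {g : GL'} : g ∈ Subgroup.closure (fam k a) ↔ g ∈ fam k a := by
  refine ⟨fun h => ?_, fun h => Subgroup.subset_closure h⟩
  induction h using Subgroup.closure_induction with
  | mem x hx => exact hx
  | one => exact ⟨0, by simp⟩
  | mul x y _ _ hx hy =>
    obtain ⟨c, hc⟩ := hx
    obtain ⟨c', hc'⟩ := hy
    refine ⟨c + c', ?_⟩
    rw [Units.val_mul, hc, hc', add_mul, one_mul, mul_add, mul_one, smul_mul_smul_comm, ha, smul_zero, add_zero,
      add_smul]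
    abel
  | inv x _ hx =>
    obtain ⟨c, hc⟩ := hx
    refine ⟨-c, Units.inv_eq_of_mul_eq_one_right ?_⟩
    rw [hc]
    simp [mul_add, add_mul, smul_mul_smul_comm, ha]

theorem fam_comm {a : End'} (ha : a * a = 0) {g h : GL'} (hg : g ∈ fam k a) (hh : h ∈ fam k a) : g * h = h * g := by
  obtain ⟨c, hc⟩ := hg
  obtain ⟨c', hc'⟩ := hh
  refine Units.ext ?_
  rw [Units.val_mul, Units.val_mul, hc, hc']
  simp [mul_add, add_mul, smul_mul_smul_comm, ha]
  abel

theorem conjBy_fam (a : End') (g : GL') :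
    conjBy (Subgroup.closure (fam k a)) g = Subgroup.closure (fam k (cj g a)) := by
  rw [conjBy, MonoidHom.map_closure]
  congr 1
  have key : ∀ (g : GL') (a : End') (x : GL'), x ∈ fam k a → g * x * g⁻¹ ∈ fam k (cj g a) := by
    rintro g a x ⟨c, hc⟩
    refine ⟨c, ?_⟩
    rw [Units.val_mul, Units.val_mul, hc, mul_add, add_mul, mul_one, ← Units.val_mul, mul_inv_cancel,
      Units.val_one, mul_smul_comm, smul_mul_assoc]
    rfl
  ext x
  constructor
  · rintro ⟨y, hy, rfl⟩
    exact key g a y hy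
  · intro hx
    have h := key g⁻¹ _ x hx
    rw [cj_inv] at h
    exact ⟨_, h, by simp [mul_assoc]⟩

theorem H2_eq_sup (a b : End') : H2 k a b = Subgroup.closure (fam k a) ⊔ Subgroup.closure (fam k b) :=
  Subgroup.closure_union _ _

theorem H2_unipotent {a b : End'} (ha : a * a = 0) (hb : b * b = 0) (h : ∃ n, (a * b) ^ n * a = 0) :
    IsUnipotentOn (H2 k a b) := by
  obtain ⟨n, hn⟩ := h
  set ga := u1 a ha with hga
  set gb := u1 b hb with hgb
  have shape : ∀ l : List GL', (∀ g ∈ l, g = ga ∨ g = gb) →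
      (l.map S5061.dd).prod = 0 ∨ ∃ j, (l.length = 2 * j ∧ ((l.map S5061.dd).prod = (a * b) ^ j ∨
        (l.map S5061.dd).prod = (b * a) ^ j)) ∨ (l.length = 2 * j + 1 ∧
        ((l.map S5061.dd).prod = (a * b) ^ j * a ∨ (l.map S5061.dd).prod = (b * a) ^ j * b)) := by
    intro l hl
    induction l with
    | nil => exact Or.inr ⟨0, Or.inl ⟨rfl, Or.inl (by simp)⟩⟩
    | cons g l ih =>
      have hg : S5061.dd g = a ∨ S5061.dd g = b := by
        rcases hl g List.mem_cons_self with rfl | rfl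
        · exact Or.inl (by rw [S5061.dd, hga, u1_val, add_sub_cancel_left])
        · exact Or.inr (by rw [S5061.dd, hgb, u1_val, add_sub_cancel_left])
      rw [List.map_cons, List.prod_cons, List.length_cons]
      have pa : ∀ (x y : End') (j : ℕ), x * (y * x) ^ j = (x * y) ^ j * x := fun x y j => by
        induction j with
        | zero => simp
        | succ j ihj => rw [pow_succ, ← mul_assoc, ihj, pow_succ]; simp [mul_assoc]
      rcases ih (fun g hg => hl g (List.mem_cons_of_mem _ hg)) with h0 | ⟨j, ⟨hlen, hv⟩ | ⟨hlen, hv⟩⟩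
      · exact Or.inl (by rw [h0, mul_zero])
      · rcases hv with hv | hv <;> rw [hv] <;> rcases hg with hg | hg <;> rw [hg]
        · cases j with
          | zero => exact Or.inr ⟨0, Or.inr ⟨by omega, Or.inl (by simp)⟩⟩
          | succ j => exact Or.inl (by rw [pow_succ', ← mul_assoc, ← mul_assoc, ha, zero_mul, zero_mul])
        · exact Or.inr ⟨j, Or.inr ⟨by omega, Or.inr (pa b a j)⟩⟩
        · exact Or.inr ⟨j, Or.inr ⟨by omega, Or.inl (pa a b j)⟩⟩
        · cases j with
          | zero => exact Or.inr ⟨0, Or.inr ⟨by omega, Or.inr (by simp)⟩⟩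
          | succ j => exact Or.inl (by rw [pow_succ', ← mul_assoc, ← mul_assoc, hb, zero_mul, zero_mul])
      · rcases hv with hv | hv <;> rw [hv] <;> rcases hg with hg | hg <;> rw [hg]
        · refine Or.inl ?_
          rw [← pa a b j, ← mul_assoc, ha, zero_mul]
        · exact Or.inr ⟨j + 1, Or.inl ⟨by omega, Or.inr (by rw [← mul_assoc, pa b a j, mul_assoc, ← pow_succ])⟩⟩
        · exact Or.inr ⟨j + 1, Or.inl ⟨by omega, Or.inl (by rw [← mul_assoc, pa a b j, mul_assoc, ← pow_succ])⟩⟩
        · refine Or.inl ?_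
          rw [← pa b a j, ← mul_assoc, hb, zero_mul]
  have z1 : ∀ j, n + 1 ≤ j → (a * b) ^ j = 0 := fun j hj => by
    rw [show j = (j - (n + 1)) + (n + 1) by omega, pow_add, pow_succ, ← mul_assoc ((a * b) ^ n), hn, zero_mul,
      mul_zero]
  have z2 : ∀ j, n + 2 ≤ j → (b * a) ^ j = 0 := fun j hj => by
    have e : (b * a) ^ (n + 2) = b * (a * b) ^ (n + 1) * a := by
      have : ∀ i : ℕ, (b * a) ^ (i + 1) = b * (a * b) ^ i * a := fun i => by
        induction i with
        | zero => simp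
        | succ i ihi => rw [pow_succ, ihi, pow_succ]; simp [mul_assoc]
      exact this (n + 1)
    rw [show j = (j - (n + 2)) + (n + 2) by omega, pow_add, e, z1 (n + 1) le_rfl, mul_zero, zero_mul, mul_zero]
  have hU : S5061.Uni ({ga, gb} : Set GL') := by
    refine S5061.uni_of_prod (n := 2 * (n + 2)) fun l hl hlen => ?_
    rcases shape l hl with h0 | ⟨j, ⟨hj, hv⟩ | ⟨hj, hv⟩⟩
    · exact h0
    · rcases hv with hv | hv <;> rw [hv]
      · exact z1 j (by omega)
      · exact z2 j (by omega)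
    · omega
  have hfam : S5061.Uni (fam k a ∪ fam k b) := by
    refine S5061.uni_of_le hU fun g hg => ?_
    have da : a ∈ S5061.Ap ({ga, gb} : Set GL') 1 := by
      have := S5061.dd_mem (T := ({ga, gb} : Set GL')) (g := ga) (Or.inl rfl)
      rwa [S5061.dd, hga, u1_val, add_sub_cancel_left] at this
    have db : b ∈ S5061.Ap ({ga, gb} : Set GL') 1 := by
      have := S5061.dd_mem (T := ({ga, gb} : Set GL')) (g := gb) (Or.inr rfl)
      rwa [S5061.dd, hgb, u1_val, add_sub_cancel_left] at this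
    rcases hg with ⟨c, hc⟩ | ⟨c, hc⟩ <;> rw [S5061.dd, hc, add_sub_cancel_left]
    exacts [Submodule.smul_mem _ c da, Submodule.smul_mem _ c db]
  exact uni_closure hfam

end Cfsg.Agent.Lead.QP
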