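/-
A quadratic element of an irreducible group splits along any normal subgroup.
-/
import Cfsg.Agent.Lib.Lead.QP.Unipotent
import Cfsg.Agent.Lib.Lead.QP.Opposite

set_option autoImplicit false
set_option linter.unusedSectionVars false

universe u

namespace Cfsg.Agent.Lead.QP

open Cfsg Polynomial
open scoped commutatorElement

variable {k : Type u} [Field k] {M : Type u} [AddCommGroup M] [Module k M] [FiniteDimensional k M]

local notation "End'" => Module.End k M
local notation "GL'" => LinearMap.GeneralLinearGroup k M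

theorem commutator_le_of_congr {K A H : Subgroup GL'} (hA : ∀ x ∈ A, ∀ y ∈ A, x * y = y * x)
    (hAn : A ≤ Subgroup.normalizer (K : Set GL')) (hH : ∀ x ∈ H, ∃ a ∈ A, a⁻¹ * x ∈ K) : ⁅H, H⁆ ≤ K := by
  have cj : ∀ a ∈ A, ∀ x ∈ K, a * x * a⁻¹ ∈ K := fun a ha x hx => (Subgroup.mem_normalizer_iff.1 (hAn ha) x).1 hx
  refine Subgroup.commutator_le.2 fun x hx y hy => ?_
  obtain ⟨a, ha, hu⟩ := hH x hx
  obtain ⟨b, hb, hv⟩ := hH y hy
  rw [commutatorElement_def, ← mul_inv_cancel_left a x, ← mul_inv_cancel_left b y]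
  generalize a⁻¹ * x = u at hu ⊢
  generalize b⁻¹ * y = v at hv ⊢
  have hab := hA a ha b hb
  have e : a * u * (b * v) * (a * u)⁻¹ * (b * v)⁻¹ =
      (a * b) * ((b⁻¹ * u * b) * v * u⁻¹ * (a⁻¹ * v⁻¹ * a)) * (a * b)⁻¹ := by
    calc a * u * (b * v) * (a * u)⁻¹ * (b * v)⁻¹ = a * u * b * v * u⁻¹ * a⁻¹ * v⁻¹ * b⁻¹ := by group
      _ = a * u * b * v * u⁻¹ * a⁻¹ * v⁻¹ * (a * (a * b)⁻¹) := by rw [hab]; group
      _ = _ := by group
  rw [e]
  refine cj _ (mul_mem ha hb) _ (mul_mem (mul_mem (mul_mem ?_ hv) (inv_mem hu)) ?_)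
  · simpa using cj b⁻¹ (inv_mem hb) u hu
  · simpa using cj a⁻¹ (inv_mem ha) v⁻¹ (inv_mem hv)

theorem InFam.of_add {G : Subgroup GL'} {q x : End'} (hq : InFam G q) (hx : InFam G x) (h : q * x = 0) :
    InFam G (q - x) := by
  rw [sub_eq_add_neg]
  refine InFam.add hq (fun c => ?_) (by rw [mul_neg, h, neg_zero])
  obtain ⟨g, hg, he⟩ := hx (-c)
  exact ⟨g, hg, by rw [he, smul_neg, neg_smul]⟩

theorem InFam.mono {G H : Subgroup GL'} (h : G ≤ H) {x : End'} (hx : InFam G x) : InFam H x := fun c =>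
  (hx c).imp fun _ hg => ⟨h hg.1, hg.2⟩

theorem closure_fam_le {G : Subgroup GL'} {x : End'} (hx : InFam G x) : Subgroup.closure (fam k x) ≤ G :=
  (Subgroup.closure_le _).2 (InFam.fam_subset hx)

/-- Either the family centralises the normal subgroup or it has a non-zero part inside. -/
theorem split_step (hD : Dickson k) (h2 : (2 : k) ≠ 0) (h3 : Nat.card k ≠ 3) {G K : Subgroup GL'}
    (hirr : IsIrreducibleFor G) (hKG : K ≤ G) (hn : G ≤ Subgroup.normalizer (K : Set GL')) {q : End'}
    (hq : q * q = 0) (hmem : InFam G q) :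
    Subgroup.closure (fam k q) ≤ Subgroup.centralizer (K : Set GL') ∨
    ∃ a r : End', q = a + r ∧ a ≠ 0 ∧ a * a = 0 ∧ r * r = 0 ∧ a * r = 0 ∧ r * a = 0 ∧ InFam K a ∧ InFam G r ∧
      Module.finrank k (LinearMap.range r) < Module.finrank k (LinearMap.range q) := by
  classical
  set A := Subgroup.closure (fam k q) with hAdef
  have hAG : A ≤ G := closure_fam_le hmem
  by_cases hnil : ∀ g ∈ K, ∃ n, (q * cj g q) ^ n * q = 0
  · refine Or.inl ?_
    let W : Set (Subgroup GL') := {B | ∃ g ∈ K, B = conjBy A g}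
    have hAn : A ≤ Subgroup.normalizer (K : Set GL') := hAG.trans hn
    have hWle : ∀ B ∈ W, B ≤ K ⊔ A := by
      rintro B ⟨g, hg, rfl⟩ _ ⟨x, hx, rfl⟩
      exact mul_mem (mul_mem (Subgroup.mem_sup_left hg) (Subgroup.mem_sup_right hx))
        (inv_mem (Subgroup.mem_sup_left hg))
    have hWW : ∀ B ∈ W, ∀ C ∈ W, IsUnipotentOn (B ⊔ C) := by
      rintro B ⟨g, hg, rfl⟩ C ⟨h, hh, rfl⟩
      obtain ⟨n, hnn⟩ := hnil (g⁻¹ * h) (mul_mem (inv_mem hg) hh)
      have hu := unipotent_conj (H2_unipotent hq (show cj (g⁻¹ * h) q * cj (g⁻¹ * h) q = 0 by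
        rw [← cj_mul, hq, map_zero]) ⟨n, hnn⟩) g
      rwa [H2_eq_sup, ← conjBy_fam, conjBy, Subgroup.map_sup, ← hAdef,
        show (conjBy A (g⁻¹ * h)).map (MulAut.conj g).toMonoidHom = conjBy (conjBy A (g⁻¹ * h)) g from rfl,
        conjBy_comp, mul_inv_cancel_left] at hu
    have hWconj : ∀ B ∈ W, ∀ x ∈ K ⊔ A, conjBy B x ∈ W := by
      rintro B ⟨g, hg, rfl⟩ x hx
      rw [sup_comm, ← SetLike.mem_coe, Subgroup.coe_mul_of_left_le_normalizer_right A K hAn] at hx
      obtain ⟨f, hf, y, hy, rfl⟩ := Set.mem_mul.1 hx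
      refine ⟨f * (y * g) * f⁻¹, (Subgroup.mem_normalizer_iff.1 (hAn hf) _).1 (mul_mem hy hg), ?_⟩
      rw [conjBy_comp]
      have hfix : conjBy A f⁻¹ = A := by
        have hmem' : ∀ f ∈ A, ∀ x ∈ A, f * x * f⁻¹ ∈ A := fun f hf x hx => mul_mem (mul_mem hf hx) (inv_mem hf)
        refine le_antisymm ?_ fun x hx => ⟨f * x * f⁻¹, hmem' f hf x hx, ?_⟩
        · rintro _ ⟨x, hx, rfl⟩
          exact hmem' _ (inv_mem hf) x hx
        · simp [mul_assoc]
      rw [← conjBy_comp A (f * (y * g)) f⁻¹, hfix, mul_assoc]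
    obtain ⟨hu, hnorm⟩ := S5061.result (G := K ⊔ A) (W := W) hWle hWW hWconj
    set U := ⨆ B ∈ W, B
    have hV : U ⊓ K = ⊥ := by
      refine unipotent_in_normal hirr hKG hn inf_le_right (unipotent_mono inf_le_left hu) fun g hg => ?_
      refine Subgroup.mem_normalizer_iff.2 fun x => ?_
      have h1 := Subgroup.mem_normalizer_iff.1
        (mem_normalizer_of_conjBy (hnorm g (Subgroup.mem_sup_left hg))) x
      rw [Subgroup.mem_inf, Subgroup.mem_inf, h1]
      exact and_congr_right fun _ => ⟨fun hx => mul_mem (mul_mem hg hx) (inv_mem hg), fun hx => by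
        have := mul_mem (mul_mem (inv_mem hg) hx) hg
        simpa [mul_assoc] using this⟩
    intro f hf
    rw [Subgroup.mem_centralizer_iff]
    intro x hx
    have h1 : x * f * x⁻¹ * f⁻¹ ∈ U ⊓ K := by
      refine Subgroup.mem_inf.2 ⟨mul_mem ?_ (inv_mem ?_), ?_⟩
      · exact (le_iSup₂_of_le (conjBy A x) ⟨x, hx, rfl⟩ le_rfl : conjBy A x ≤ U) ⟨f, hf, rfl⟩
      · exact (le_iSup₂_of_le A ⟨1, one_mem _, (conjBy_one' A).symm⟩ le_rfl : A ≤ U) hf
      · rw [mul_assoc, mul_assoc, ← mul_assoc f]
        exact mul_mem hx ((Subgroup.mem_normalizer_iff.1 (hAn hf) _).1 (inv_mem hx))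
    rw [hV, Subgroup.mem_bot, mul_inv_eq_one, mul_inv_eq_iff_eq_mul] at h1
    exact h1
  · refine Or.inr ?_
    simp only [not_forall, not_exists] at hnil
    obtain ⟨g, hg, hnn⟩ := hnil
    set b := cj g q with hb
    have hbb : b * b = 0 := by rw [hb, ← cj_mul, hq, map_zero]
    -- the derived group of the pair lies inside
    have hH : ⁅H2 k q b, H2 k q b⁆ ≤ K := by
      refine commutator_le_of_congr (A := A) (fun x hx y hy => fam_comm hq ((closure_fam hq).1 hx)
        ((closure_fam hq).1 hy)) (hAG.trans hn) fun x hx => ?_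
      induction hx using Subgroup.closure_induction with
      | mem x hx =>
        rcases hx with hx | hx
        · exact ⟨x, Subgroup.subset_closure hx, by rw [inv_mul_cancel]; exact one_mem _⟩
        · have h1 : x ∈ conjBy A g := by
            rw [hAdef, conjBy_fam]; exact Subgroup.subset_closure hx
          obtain ⟨y, hy, rfl⟩ := h1
          refine ⟨y, hy, ?_⟩
          change y⁻¹ * (g * y * g⁻¹) ∈ K
          rw [show y⁻¹ * (g * y * g⁻¹) = (y⁻¹ * g * y⁻¹⁻¹) * g⁻¹ by group]
          exact mul_mem ((Subgroup.mem_normalizer_iff.1 (hn (inv_mem (hAG hy))) g).1 hg) (inv_mem hg)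
      | one => exact ⟨1, one_mem _, by rw [inv_one, one_mul]; exact one_mem _⟩
      | mul x y _ _ hx hy =>
        obtain ⟨a, ha, hu⟩ := hx
        obtain ⟨c, hc, hv⟩ := hy
        refine ⟨a * c, mul_mem ha hc, ?_⟩
        rw [show (a * c)⁻¹ * (x * y) = (c⁻¹ * (a⁻¹ * x) * c⁻¹⁻¹) * (c⁻¹ * y) by group]
        exact mul_mem ((Subgroup.mem_normalizer_iff.1 (hn (inv_mem (hAG hc))) _).1 hu) hv
      | inv x _ hx =>
        obtain ⟨a, ha, hu⟩ := hx
        refine ⟨a⁻¹, inv_mem ha, ?_⟩
        rw [show a⁻¹⁻¹ * x⁻¹ = a * (a⁻¹ * x)⁻¹ * a⁻¹ by group]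
        exact (Subgroup.mem_normalizer_iff.1 (hn (hAG ha)) _).1 (inv_mem hu)
    let I : Ideal k[X] :=
      { carrier := {f | aeval (q * b) f * q = 0}
        add_mem' := fun {f h} hf hh => by
          change aeval (q * b) (f + h) * q = 0
          rw [map_add, add_mul, hf, hh, add_zero]
        zero_mem' := by simp
        smul_mem' := fun c f hf => by
          change aeval (q * b) (c * f) * q = 0
          rw [map_mul, mul_assoc, hf, mul_zero] }
    obtain ⟨m, hm⟩ := (IsPrincipalIdealRing.principal I).principal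
    have hmI : ∀ f : k[X], aeval (q * b) f * q = 0 ↔ m ∣ f := fun f => by
      rw [← Ideal.mem_span_singleton, show Ideal.span {m} = I from hm.symm]
      rfl
    have hm0 : m ≠ 0 := by
      intro h0
      have h := (hmI (minpoly k (q * b))).1 (by rw [minpoly.aeval, zero_mul])
      rw [h0, zero_dvd_iff] at h
      exact minpoly.ne_zero (Algebra.IsIntegral.isIntegral (q * b)) h
    obtain ⟨e, m0, hX, rfl⟩ := WfDvdMonoid.max_power_factor hm0 irreducible_X
    have hcop : IsCoprime m0 X := (irreducible_X.coprime_iff_not_dvd.2 hX).symm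
    have hm00 : m0 ≠ 0 := right_ne_zero_of_mul hm0
    have hzero : aeval (q * b) (X ^ e * m0) * q = 0 := (hmI _).2 dvd_rfl
    have hnu : ¬ IsUnit m0 := fun hu => hnn e (by
      have := (hmI (X ^ e)).2 ((associated_mul_unit_left (X ^ e) m0 hu).dvd)
      simpa using this)
    obtain ⟨u, v, huv⟩ := hcop.pow_right (n := e + 2)
    set F := v * X ^ (e + 2) with hF
    set a := aeval (q * b) F * q with ha
    have hqa : q * a = 0 := by rw [ha, ← mul_assoc, a_aeval hq, smul_mul_assoc, hq, smul_zero]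
    have haq : a * q = 0 := by rw [ha, mul_assoc, hq, mul_zero]
    have haK : InFam K a := fun c => by
      obtain ⟨N, hN, h00, h01, h10, h11, hD1⟩ := exists_full_word h2 h3 hcop
        (full_adjoinRoot hD h2 h3 m0 hm00 hcop) (e + 1) (F := C c * F)
        (dvd_mul_of_dvd_right (dvd_mul_left _ _) _)
      have hd : (X : k[X]) * (X ^ e * m0) ∣ X ^ (e + 1 + 1) * m0 := ⟨X, by ring⟩
      have hval := Phi_word hq hbb hN hzero (F := C c * F) (hd.trans h00) (dvd_trans ⟨X * X, by ring⟩ h01)
        (dvd_trans ⟨1, by ring⟩ h10) (hd.trans h11)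
      refine ⟨_, ?_, hval.trans (by rw [map_mul, aeval_C, mul_assoc, ← Algebra.smul_def])⟩
      have hle : ⁅Gam k (X : k[X]), Gam k (X : k[X])⁆ ≤
          (K.comap (Phi (k := k) hq hbb)).map (Gam k (X : k[X])).subtype := by
        refine Subgroup.commutator_le.2 fun x hx y hy => ⟨⁅(⟨x, hx⟩ : Gam k (X : k[X])), ⟨y, hy⟩⁆, ?_, ?_⟩
        · rw [SetLike.mem_coe, Subgroup.mem_comap, map_commutatorElement]
          exact hH (Subgroup.commutator_mem_commutator (Phi_range (k := k) hq hbb ▸ ⟨_, rfl⟩)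
            (Phi_range (k := k) hq hbb ▸ ⟨_, rfl⟩))
        · rw [map_commutatorElement]; rfl
      obtain ⟨N', hN', e'⟩ := hle hD1
      rw [show (⟨N, hN⟩ : Gam k (X : k[X])) = N' from Subtype.ext e'.symm]
      exact hN'
    have hane : a ≠ 0 := fun h => hnu (isUnit_of_dvd_one (by
      rw [← huv]
      exact dvd_add (dvd_mul_left _ _) ((dvd_mul_left m0 _).trans ((hmI F).1 h))))
    have haa : a * a = 0 := by
      conv_lhs => arg 2; rw [ha]
      rw [← mul_assoc, show a * aeval (q * b) F = aeval (q * b) F * (q * aeval (q * b) F) by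
        rw [ha, mul_assoc], a_aeval hq, mul_smul_comm, smul_mul_assoc, mul_assoc, hq, mul_zero, smul_zero]
    refine ⟨a, q - a, (add_sub_cancel a q).symm, hane, haa, ?_, ?_, ?_, haK,
      InFam.of_add hmem (haK.mono hKG) hqa, ?_⟩
    · rw [sub_mul, mul_sub, mul_sub, hq, hqa, haq, haa]; simp
    · rw [mul_sub, haq, haa, sub_zero]
    · rw [sub_mul, hqa, haa, sub_zero]
    · have hr : q - a = aeval (q * b) (1 - F) * q := by rw [map_sub, map_one, sub_mul, one_mul, ha]
      have hle : LinearMap.range (q - a) ≤ LinearMap.range q := by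
        rw [hr, aeval_mul_eq]; exact range_mul_le _ _
      refine lt_of_le_of_ne (Submodule.finrank_mono hle) fun heq => ?_
      have heq' := Submodule.eq_of_le_of_finrank_eq hle heq
      refine hnn e (LinearMap.ext fun w => ?_)
      obtain ⟨w', hw'⟩ : q w ∈ LinearMap.range (q - a) := heq'.ge ⟨w, rfl⟩
      have h0 : aeval (q * b) (X ^ e * (1 - F)) * q = 0 := (hmI _).2 (mul_dvd_mul_left _
        ⟨u, by rw [hF]; linear_combination -huv⟩)
      rw [map_mul, map_pow, aeval_X, mul_assoc, ← hr] at h0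
      change ((q * b) ^ e) (q w) = 0
      rw [← hw']
      exact LinearMap.congr_fun h0 w'

/-- Every quadratic family lies in the product of a normal subgroup with its centraliser. -/
theorem fam_le_sup (hD : Dickson k) (h2 : (2 : k) ≠ 0) (h3 : Nat.card k ≠ 3) {G K : Subgroup GL'}
    (hirr : IsIrreducibleFor G) (hKG : K ≤ G) (hn : G ≤ Subgroup.normalizer (K : Set GL')) :
    ∀ (n : ℕ) {q : End'}, Module.finrank k (LinearMap.range q) = n → q * q = 0 → InFam G q →
      InFam (K ⊔ (G ⊓ Subgroup.centralizer (K : Set GL'))) q := by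
  intro n
  induction n using Nat.strong_induction_on with
  | _ n ih =>
    intro q hn' hq hmem
    rcases split_step hD h2 h3 hirr hKG hn hq hmem with hc | ⟨a, r, rfl, -, -, hrr, har, -, haK, hrG, hlt⟩
    · intro c
      obtain ⟨g, hg, he⟩ := hmem c
      exact ⟨g, Subgroup.mem_sup_right ⟨hg, hc (Subgroup.subset_closure ⟨c, he⟩)⟩, he⟩
    · exact InFam.add (haK.mono le_sup_left) (ih _ (hn' ▸ hlt) rfl hrr hrG) har

/-- The normal subgroup has no non-trivial proper normal subgroup outside its centre. -/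
def Quasi (K : Subgroup (LinearMap.GeneralLinearGroup k M)) : Prop :=
  ∀ L : Subgroup (LinearMap.GeneralLinearGroup k M), L ≤ K →
    K ≤ Subgroup.normalizer (L : Set (LinearMap.GeneralLinearGroup k M)) →
    ¬ L ≤ Subgroup.centralizer (K : Set (LinearMap.GeneralLinearGroup k M)) → L = K

/-- Every quadratic family lies in a quasisimple normal subgroup or centralises it. -/
theorem in_or_cen (hD : Dickson k) (h2 : (2 : k) ≠ 0) (h3 : Nat.card k ≠ 3) {G K : Subgroup GL'}
    (hirr : IsIrreducibleFor G) (hKG : K ≤ G) (hn : G ≤ Subgroup.normalizer (K : Set GL')) (hK : Quasi K) :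
    ∀ (n : ℕ) {q : End'}, Module.finrank k (LinearMap.range q) = n → q * q = 0 → InFam G q →
      InFam K q ∨ InFam (G ⊓ Subgroup.centralizer (K : Set GL')) q := by
  intro n
  induction n using Nat.strong_induction_on with
  | _ n ih =>
    intro q hn' hq hmem
    rcases split_step hD h2 h3 hirr hKG hn hq hmem with hc | ⟨a, r, rfl, hane, haa, hrr, har, hra, haK, hrG, hlt⟩
    · refine Or.inr fun c => ?_
      obtain ⟨g, hg, he⟩ := hmem c
      exact ⟨g, ⟨hg, hc (Subgroup.subset_closure ⟨c, he⟩)⟩, he⟩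
    rcases ih _ (hn' ▸ hlt) rfl hrr hrG with hr | hr
    · exact Or.inl (InFam.add haK hr har)
    refine Or.inl ?_
    -- the conjugates of the inner part generate everything
    let T : Set GL' := {x | ∃ g ∈ K, x ∈ conjBy (Subgroup.closure (fam k a)) g}
    have hTK : Subgroup.closure T ≤ K := (Subgroup.closure_le _).2 (by
      rintro _ ⟨g, hg, y, hy, rfl⟩
      exact mul_mem (mul_mem hg (closure_fam_le haK hy)) (inv_mem hg))
    have hTn : K ≤ Subgroup.normalizer ((Subgroup.closure T : Subgroup GL') : Set GL') := by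
      refine normal_le_normalizer fun g hg x hx => ?_
      have h1 : Subgroup.closure T ≤ (Subgroup.closure T).comap (MulAut.conj g).toMonoidHom := by
        refine (Subgroup.closure_le _).2 ?_
        rintro _ ⟨g', hg', y, hy, rfl⟩
        exact Subgroup.subset_closure ⟨g * g', mul_mem hg hg', y, hy, by simp [mul_assoc]⟩
      exact h1 hx
    have hsub : Subgroup.closure (fam k a) ≤ Subgroup.closure T := fun y hy =>
      Subgroup.subset_closure ⟨1, one_mem _, by rw [conjBy_one']; exact hy⟩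
    have hTeq : Subgroup.closure T = K := hK _ hTK hTn fun hcen => by
      have hbot : Subgroup.closure (fam k a) = ⊥ := by
        refine unipotent_in_normal hirr hKG hn (closure_fam_le haK) ?_ ?_
        · have := H2_unipotent (k := k) haa haa ⟨1, by rw [pow_one, haa, zero_mul]⟩
          rwa [H2_eq_sup, sup_idem] at this
        · refine normal_le_normalizer fun g hg x hx => ?_
          rw [Subgroup.mem_centralizer_iff.1 (hcen (hsub hx)) g hg, mul_inv_cancel_right]
          exact hx
      obtain ⟨g, hg, he⟩ := haK 1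
      have hmem1 : g ∈ Subgroup.closure (fam k a) := Subgroup.subset_closure ⟨1, he⟩
      rw [hbot, Subgroup.mem_bot] at hmem1
      rw [hmem1, Units.val_one, one_smul] at he
      exact hane (add_eq_left.1 he.symm)
    have hkill : ∀ x ∈ K, r * ((x : End') - 1) = 0 := by
      intro x hx
      rw [← hTeq] at hx
      induction hx using Subgroup.closure_induction with
      | mem x hx =>
        obtain ⟨g, hg, hy⟩ := hx
        rw [conjBy_fam, closure_fam (by rw [← cj_mul, haa, map_zero])] at hy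
        obtain ⟨c, hc⟩ := hy
        obtain ⟨e, he, hev⟩ := hr 1
        have hcomm : r * (g : End') = (g : End') * r := by
          have := congrArg Units.val (Subgroup.mem_centralizer_iff.1 he.2 g hg)
          rw [Units.val_mul, Units.val_mul, hev, one_smul, mul_add, add_mul, mul_one, one_mul, add_right_inj] at this
          exact this.symm
        rw [hc, add_sub_cancel_left, mul_smul_comm, cj_apply, ← mul_assoc, ← mul_assoc, hcomm,
          mul_assoc (g : End'), hra, mul_zero, zero_mul, smul_zero]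
      | one => simp
      | mul x y _ _ hx hy =>
        rw [Units.val_mul, show (x : End') * y - 1 = ((x : End') - 1) * y + ((y : End') - 1) by noncomm_ring,
          mul_add, ← mul_assoc, hx, hy, zero_mul, add_zero]
      | inv x _ hx =>
        have e : ((x⁻¹ : GL') : End') - 1 = -(((x : End') - 1) * ((x⁻¹ : GL') : End')) := by
          rw [sub_mul, ← Units.val_mul, mul_inv_cancel, Units.val_one, one_mul, neg_sub]
        rw [e, mul_neg, ← mul_assoc, hx, zero_mul, neg_zero]
    let W0 : Submodule k M := ⨆ x ∈ K, LinearMap.range ((x : End') - 1)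
    rcases hirr.2 W0 (fun g hg w hw => by
      suffices h : W0 ≤ W0.comap (g : End') from h hw
      refine iSup₂_le fun x hx => ?_
      rintro _ ⟨v, rfl⟩
      have h2 : LinearMap.range (((g * x * g⁻¹ : GL') : End') - 1) ≤ W0 :=
        le_iSup₂_of_le (g * x * g⁻¹) ((Subgroup.mem_normalizer_iff.1 (hn hg) x).1 hx) le_rfl
      refine h2 ⟨(g : End') v, ?_⟩
      simp [Units.val_mul, ← Module.End.mul_apply, mul_assoc, mul_sub, sub_mul]) with h | h
    · exfalso
      obtain ⟨g, hg, he⟩ := haK 1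
      have h0 : LinearMap.range ((g : End') - 1) ≤ ⊥ := h ▸ le_iSup₂_of_le g hg le_rfl
      rw [he, one_smul, add_sub_cancel_left, le_bot_iff, LinearMap.range_eq_bot] at h0
      exact hane h0
    · have hr0 : r = 0 := by
        refine LinearMap.ext fun v => ?_
        have : W0 ≤ LinearMap.ker r := iSup₂_le fun x hx => le_ker_of_mul_eq_zero (hkill x hx)
        exact this (h.ge (Submodule.mem_top (x := v)))
      rw [hr0, add_zero]
      exact haK

end Cfsg.Agent.Lead.QP
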