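/-
The group generated by a component is quasisimple.
-/
import Cfsg.Agent.Lib.Lead.QP.Components
import Cfsg.Agent.Lib.Lead.QP.Split

set_option autoImplicit false
set_option linter.unusedSectionVars false

universe u

namespace Cfsg.Agent.Lead.QP

open Cfsg Polynomial
open scoped commutatorElement

variable {k : Type u} [Field k] {M : Type u} [AddCommGroup M] [Module k M] [FiniteDimensional k M]

local notation "End'" => Module.End k M
local notation "GL'" => LinearMap.GeneralLinearGroup k M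

variable {G : Subgroup (LinearMap.GeneralLinearGroup k M)} {d : ℕ}

theorem sl2_commutator_top {K : Type*} [Field K] (hK : ∃ a : K, a ≠ 0 ∧ a ^ 2 ≠ 1) :
    commutator (Matrix.SpecialLinearGroup (Fin 2) K) = ⊤ := by
  refine normal_sl2 hK _ fun h => ?_
  have h1 := h (Subgroup.commutator_mem_commutator (Subgroup.mem_top (uM (1 : K))) (Subgroup.mem_top (lM (1 : K))))
  obtain ⟨r, -, hr⟩ := Matrix.SpecialLinearGroup.mem_center_iff.1 h1
  have e := congrFun (congrFun hr 1) 0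
  simp [commutatorElement_def, inv_val, uM_val, lM_val, Matrix.mul_apply, Fin.sum_univ_two] at e

theorem mem_derived_of_opp (hs : QS G d) {a b : End'} (ha : Qd G d a) (hb : Qd G d b) (ho : Opp a b) :
    Rg G a ≤ ⁅Rg G a ⊔ Rg G b, Rg G a ⊔ Rg G b⁆ := by
  intro g hg
  by_cases hg1 : g = 1
  · rw [hg1]; exact one_mem _
  set x := (g : End') - 1 with hx
  obtain ⟨qx, -, -⟩ := Rt_qd hs ha (mem_Rg.1 hg) (sub_ne_zero_of_ne_one hg1)
  have hox := ho.of_mem hs ha hb (mem_Rg.1 hg) hb.self_mem (sub_ne_zero_of_ne_one hg1) hb.ne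
  obtain ⟨m, hm, φ, -, hrange, -⟩ := sl2_model hs qx hb hox
  have hle : φ.range ≤ Rg G a ⊔ Rg G b := by
    rw [hrange]
    refine (Subgroup.closure_le _).2 ?_
    rintro y (⟨c, hy⟩ | ⟨c, hy⟩)
    · refine Subgroup.mem_sup_left ?_
      rw [mem_Rg, hy, add_sub_cancel_left]
      exact Submodule.smul_mem _ c (mem_Rg.1 hg)
    · refine Subgroup.mem_sup_right ?_
      rw [mem_Rg, hy, add_sub_cancel_left]
      exact Submodule.smul_mem _ c hb.self_mem
  obtain ⟨s, hs'⟩ : g ∈ φ.range := by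
    rw [hrange]
    exact Subgroup.subset_closure (Or.inl ⟨1, by rw [one_smul, add_sub_cancel]⟩)
  obtain ⟨c, hc0, hc1⟩ := exists_not_pm_one hs.h2 hs.h3
  have htop := sl2_commutator_top (K := AdjoinRoot m) ⟨algebraMap k _ c, by simpa using hc0, by
    rw [← map_pow, ← map_one (algebraMap k (AdjoinRoot m))]
    exact fun h => hc1 ((algebraMap k (AdjoinRoot m)).injective h)⟩
  have hmem : g ∈ (commutator (Matrix.SpecialLinearGroup (Fin 2) (AdjoinRoot m))).map φ :=
    ⟨s, by rw [htop]; exact Subgroup.mem_top _, hs'⟩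
  rw [commutator_def, Subgroup.map_commutator, ← MonoidHom.range_eq_map] at hmem
  exact Subgroup.commutator_mono hle hle hmem

theorem GP_perfect (hs : QS G d) (hp : Partners G d) {a : End'} (ha : Qd G d a) :
    GP G d a ≤ ⁅GP G d a, GP G d a⁆ := by
  refine GP_le fun b hb => ?_
  obtain ⟨c, hc, ho⟩ := hp b (hb.qd ha)
  have h2 : Rg G b ⊔ Rg G c ≤ GP G d a := sup_le (Rg_le_GP hb) (Rg_le_GP (hb.trans (Con.of_opp (hb.qd ha) hc ho)))
  exact (mem_derived_of_opp hs (hb.qd ha) hc ho).trans (Subgroup.commutator_mono h2 h2)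

theorem GP_not_central (hs : QS G d) (hp : Partners G d) {a : End'} (ha : Qd G d a) :
    ¬ GP G d a ≤ Subgroup.centralizer (GP G d a : Set GL') := by
  intro h
  have h1 : ⁅GP G d a, GP G d a⁆ = ⊥ := Subgroup.commutator_eq_bot_iff_le_centralizer.2 h
  exact Rg_ne_bot ha (le_bot_iff.1 ((Rg_le_GP Relation.ReflTransGen.refl).trans (h1 ▸ GP_perfect hs hp ha)))

theorem GP_quasi (hs : QS G d) (hp : Partners G d) {A : Subgroup GL'} (hirr : IsIrreducibleFor A)
    {a : End'} (ha : Qd G d a) (hle : GP G d a ≤ A)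
    (hn : A ≤ Subgroup.normalizer (GP G d a : Set GL')) : Quasi (GP G d a) := by
  intro L hL hLn hLc
  refine le_antisymm hL ?_
  set P := GP G d a with hPdef
  by_cases hex : ∃ b, Con G d a b ∧ Rg G b ≤ L
  · obtain ⟨b, hb, hbL⟩ := hex
    refine GP_le fun c hc => ?_
    obtain ⟨g, hg, e⟩ := con_conj hs (hb.qd ha) (hb.symm.trans hc)
    have hgP : g ∈ P := by
      refine (GP_le (fun x hx => ?_) : GP G d b ≤ P) hg
      exact Rg_le_GP (hb.trans hx)
    rw [← e]
    rintro _ ⟨x, hx, rfl⟩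
    exact (Subgroup.mem_normalizer_iff.1 (hLn hgP) x).1 (hbL hx)
  exfalso
  simp only [not_exists, not_and] at hex
  have hLG : L ≤ Subgroup.normalizer (G : Set GL') :=
    (hL.trans (GP_le_self a)).trans Subgroup.le_normalizer
  -- conjugates under the normal subgroup commute
  have hcomm : ∀ l ∈ L, ∀ b, Con G d a b → Comm2 G b (cj l b) := by
    intro l hl b hb
    have hbq := hb.qd ha
    have hlb : Con G d a (cj l b) := ((GP_le_Stb hs hp ha (hL hl)).2 b hbq).2 hb
    have hX : ⁅Rg G b ⊔ Rg G (cj l b), Rg G b ⊔ Rg G (cj l b)⁆ ≤ L := by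
      refine commutator_le_of_congr (A := Rg G b) (fun x hx y hy => ?_)
        ((Rg_le_GP hb).trans hLn) fun x hx => ?_
      · exact congrArg Subtype.val (Rg_comm.is_comm.comm (⟨x, hx⟩ : Rg G b) ⟨y, hy⟩)
      · rw [Subgroup.sup_eq_closure] at hx
        induction hx using Subgroup.closure_induction with
        | mem x hx =>
          rcases hx with hx | hx
          · exact ⟨x, hx, by rw [inv_mul_cancel]; exact one_mem _⟩
          · rw [← conjBy_Rg hbq.sq (hLG hl)] at hx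
            obtain ⟨y, hy, rfl⟩ := hx
            refine ⟨y, hy, ?_⟩
            change y⁻¹ * (l * y * l⁻¹) ∈ L
            rw [show y⁻¹ * (l * y * l⁻¹) = (y⁻¹ * l * y⁻¹⁻¹) * l⁻¹ by group]
            exact mul_mem ((Subgroup.mem_normalizer_iff.1 (hLn (inv_mem (Rg_le_GP hb hy))) l).1 hl) (inv_mem hl)
        | one => exact ⟨1, one_mem _, by rw [inv_one, one_mul]; exact one_mem _⟩
        | mul x y _ _ hx hy =>
          obtain ⟨p, hpA, hu⟩ := hx
          obtain ⟨c, hc, hv⟩ := hy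
          refine ⟨p * c, mul_mem hpA hc, ?_⟩
          rw [show (p * c)⁻¹ * (x * y) = (c⁻¹ * (p⁻¹ * x) * c⁻¹⁻¹) * (c⁻¹ * y) by group]
          exact mul_mem ((Subgroup.mem_normalizer_iff.1 (hLn (inv_mem (Rg_le_GP hb hc))) _).1 hu) hv
        | inv x _ hx =>
          obtain ⟨p, hpA, hu⟩ := hx
          refine ⟨p⁻¹, inv_mem hpA, ?_⟩
          rw [show p⁻¹⁻¹ * x⁻¹ = p * (p⁻¹ * x)⁻¹ * p⁻¹ by group]
          exact (Subgroup.mem_normalizer_iff.1 (hLn (Rg_le_GP hb hpA)) _).1 (inv_mem hu)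
    rcases trichotomy hs hbq (hbq.cj (hLG hl)) with ho | hc | hc
    · exact absurd ((mem_derived_of_opp hs hbq (hbq.cj (hLG hl)) ho).trans hX) (hex b hb)
    · exact hc
    · refine absurd ?_ (hex _ (hb.trans (hc.con hs hp hbq (hbq.cj (hLG hl)))))
      rw [← hc.commutator_eq hs hp hbq (hbq.cj (hLG hl))]
      exact (Subgroup.commutator_mono le_sup_left le_sup_right).trans hX
  refine hLc (Subgroup.le_centralizer_iff.1 (GP_le fun b hb f hf => ?_))
  have hbq := hb.qd ha
  set B := Rg G b with hB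
  have hBL : B ≤ Subgroup.normalizer (L : Set GL') := (Rg_le_GP hb).trans hLn
  let W : Set (Subgroup GL') := {C | ∃ l ∈ L, C = conjBy B l}
  have hWW : ∀ C ∈ W, ∀ D ∈ W, IsUnipotentOn (C ⊔ D) := by
    rintro C ⟨g, hg, rfl⟩ D ⟨h, hh, rfl⟩
    rw [conjBy_Rg hbq.sq (hLG hg), conjBy_Rg hbq.sq (hLG hh)]
    refine flag_unipotent (sup_le_flag hs (hbq.cj (hLG hg)) (hbq.cj (hLG hh)) fun ho => ?_)
    have h1 := opp_cj ho g⁻¹
    rw [cj_inv, cj_comp] at h1
    exact not_opp_comm hbq (hcomm _ (mul_mem (inv_mem hg) hh) b hb) (hbq.cj (hLG (mul_mem (inv_mem hg) hh))) h1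
  have hWle : ∀ C ∈ W, C ≤ L ⊔ B := by
    rintro C ⟨g, hg, rfl⟩ _ ⟨x, hx, rfl⟩
    exact mul_mem (mul_mem (Subgroup.mem_sup_left hg) (Subgroup.mem_sup_right hx))
      (inv_mem (Subgroup.mem_sup_left hg))
  have hWconj : ∀ C ∈ W, ∀ x ∈ L ⊔ B, conjBy C x ∈ W := by
    rintro C ⟨g, hg, rfl⟩ x hx
    rw [sup_comm, ← SetLike.mem_coe, Subgroup.coe_mul_of_left_le_normalizer_right B L hBL] at hx
    obtain ⟨p, hp', y, hy, rfl⟩ := Set.mem_mul.1 hx
    refine ⟨y * g, mul_mem hy hg, ?_⟩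
    rw [conjBy_comp, mul_assoc, ← conjBy_comp]
    have hl := mul_mem hy hg
    have hz : ∀ z ∈ conjBy B (y * g), p * z = z * p := fun z hz => by
      rw [conjBy_Rg hbq.sq (hLG hl)] at hz
      exact mul_comm_iff.2 (hcomm _ hl b hb _ (mem_Rg.1 hp') _ (mem_Rg.1 hz))
    refine le_antisymm ?_ fun z hz' => ⟨z, hz', ?_⟩
    · rintro _ ⟨z, hz', rfl⟩
      change p * z * p⁻¹ ∈ _
      rw [hz z hz', mul_inv_cancel_right]
      exact hz'
    · change p * z * p⁻¹ = z
      rw [hz z hz', mul_inv_cancel_right]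
  obtain ⟨hu, hnorm⟩ := S5061.result (G := L ⊔ B) (W := W) hWle hWW hWconj
  set U := ⨆ C ∈ W, C
  set V := U ⊓ L
  have hLV : L ≤ Subgroup.normalizer (V : Set GL') := fun g hg => by
    refine Subgroup.mem_normalizer_iff.2 fun x => ?_
    have h1 := Subgroup.mem_normalizer_iff.1
      (mem_normalizer_of_conjBy (hnorm g (Subgroup.mem_sup_left hg))) x
    simp only [V, Subgroup.mem_inf, h1]
    exact and_congr_right fun _ => ⟨fun hx => mul_mem (mul_mem hg hx) (inv_mem hg), fun hx => by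
      have := mul_mem (mul_mem (inv_mem hg) hx) hg
      simpa [mul_assoc] using this⟩
  let W' : Set (Subgroup GL') := {C | ∃ g ∈ P, C = conjBy V g}
  have hW'L : ∀ g ∈ P, conjBy V g ≤ L := by
    rintro g hg _ ⟨x, hx, rfl⟩
    exact (Subgroup.mem_normalizer_iff.1 (hLn hg) x).1 hx.2
  have hW'n : ∀ g ∈ P, L ≤ Subgroup.normalizer (conjBy V g : Set GL') := fun g hg => by
    refine normal_le_normalizer fun y hy => ?_
    rintro _ ⟨x, hx, rfl⟩
    refine ⟨(g⁻¹ * y * g) * x * (g⁻¹ * y * g)⁻¹, (Subgroup.mem_normalizer_iff.1 (hLV ?_) x).1 hx, ?_⟩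
    · have := (Subgroup.mem_normalizer_iff.1 (hLn (inv_mem hg)) y).1 hy
      rwa [inv_inv] at this
    · simp [mul_assoc]
  have hVu : IsUnipotentOn V := unipotent_mono inf_le_left hu
  obtain ⟨hu', hnorm'⟩ := S5061.result (G := P) (W := W')
    (by rintro C ⟨g, hg, rfl⟩; exact (hW'L g hg).trans hL)
    (by rintro C ⟨g, hg, rfl⟩ D ⟨h, hh, rfl⟩
        exact unipotent_sup (unipotent_conj hVu g) (unipotent_conj hVu h) ((hW'L h hh).trans (hW'n g hg)))
    (by rintro C ⟨g, hg, rfl⟩ h hh; exact ⟨h * g, mul_mem hh hg, conjBy_comp _ _ _⟩)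
  have hbot := unipotent_in_normal hirr hle hn
    (iSup₂_le fun C ⟨g, hg, e⟩ => e ▸ (hW'L g hg).trans hL) hu'
    (fun g hg => mem_normalizer_of_conjBy (hnorm' g hg))
  have hV0 : V = ⊥ := le_bot_iff.1 (hbot ▸ (le_iSup₂_of_le V ⟨1, one_mem _, (conjBy_one' V).symm⟩ le_rfl :
    V ≤ ⨆ C ∈ W', C))
  rw [Subgroup.mem_centralizer_iff]
  intro x hx
  have h1 : x * f * x⁻¹ * f⁻¹ ∈ V := by
    refine Subgroup.mem_inf.2 ⟨mul_mem ?_ (inv_mem ?_), ?_⟩
    · exact (le_iSup₂_of_le (conjBy B x) ⟨x, hx, rfl⟩ le_rfl : conjBy B x ≤ U) ⟨f, hf, rfl⟩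
    · exact (le_iSup₂_of_le B ⟨1, one_mem _, (conjBy_one' B).symm⟩ le_rfl : B ≤ U) hf
    · rw [mul_assoc, mul_assoc, ← mul_assoc f]
      exact mul_mem hx ((Subgroup.mem_normalizer_iff.1 (hBL hf) _).1 (inv_mem hx))
  rw [hV0, Subgroup.mem_bot, mul_inv_eq_one, mul_inv_eq_iff_eq_mul] at h1
  exact h1

theorem isQuasisimple_of {K : Subgroup GL'} (hperf : K ≤ ⁅K, K⁆) (hnc : ¬ K ≤ Subgroup.centralizer (K : Set GL'))
    (hK : Quasi K) : IsQuasisimple ↥K := by
  have hinj : Function.Injective (Subgroup.map K.subtype) := Subgroup.map_injective K.subtype_injective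
  have hcen : ∀ {x : K}, (x : GL') ∈ Subgroup.centralizer (K : Set GL') → x ∈ Subgroup.center K := fun {x} hx =>
    Subgroup.mem_center_iff.2 fun y => Subtype.ext (Subgroup.mem_centralizer_iff.1 hx y y.2)
  refine ⟨⟨hinj ?_⟩, ?_⟩
  · rw [commutator_def, Subgroup.map_commutator, ← MonoidHom.range_eq_map, Subgroup.range_subtype]
    exact le_antisymm (Subgroup.commutator_le_self _) hperf
  · have hnt : Subgroup.center K ≠ ⊤ := fun h => hnc fun x hx => Subgroup.mem_centralizer_iff.2 fun y hy => by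
      have := Subgroup.mem_center_iff.1 (h ▸ Subgroup.mem_top (⟨x, hx⟩ : K)) ⟨y, hy⟩
      exact congrArg Subtype.val this
    haveI : Nontrivial (K ⧸ Subgroup.center K) := by
      by_contra hn
      rw [not_nontrivial_iff_subsingleton] at hn
      exact hnt ((Subgroup.eq_top_iff' _).2 fun x => (QuotientGroup.eq_one_iff x).1 (Subsingleton.elim _ _))
    refine IsSimpleGroup.mk fun N hN => ?_
    set L := (N.comap (QuotientGroup.mk' (Subgroup.center K))).map K.subtype with hL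
    by_cases hc : L ≤ Subgroup.centralizer (K : Set GL')
    · refine Or.inl ((Subgroup.eq_bot_iff_forall _).2 fun x hx => ?_)
      obtain ⟨y, rfl⟩ := QuotientGroup.mk_surjective x
      exact (QuotientGroup.eq_one_iff y).2 (hcen (hc ⟨y, hx, rfl⟩))
    · refine Or.inr ((Subgroup.eq_top_iff' _).2 fun x => ?_)
      obtain ⟨y, rfl⟩ := QuotientGroup.mk_surjective x
      have hLK : L ≤ K := by rintro _ ⟨z, -, rfl⟩; exact z.2
      have hLn : K ≤ Subgroup.normalizer (L : Set GL') := by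
        refine normal_le_normalizer fun g hg x hx => ?_
        rw [hL, Subgroup.mem_map] at hx ⊢
        obtain ⟨z, hz, hzx⟩ := hx
        refine ⟨(⟨g, hg⟩ : K) * z * (⟨g, hg⟩ : K)⁻¹, ?_, ?_⟩
        · exact (Subgroup.Normal.comap hN (QuotientGroup.mk' (Subgroup.center K))).conj_mem z hz _
        · rw [map_mul, map_mul, map_inv, hzx, Subgroup.subtype_apply]
      have hy : (y : GL') ∈ L := by rw [hK L hLK hLn hc]; exact y.2
      obtain ⟨z, hz, e⟩ := hy
      rw [show y = z from Subtype.ext e.symm]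
      exact hz

theorem GP_quasisimple (hs : QS G d) (hp : Partners G d) {A : Subgroup GL'} (hirr : IsIrreducibleFor A)
    {a : End'} (ha : Qd G d a) (hle : GP G d a ≤ A) (hn : A ≤ Subgroup.normalizer (GP G d a : Set GL')) :
    IsQuasisimple ↥(GP G d a) :=
  isQuasisimple_of (GP_perfect hs hp ha) (GP_not_central hs hp ha) (GP_quasi hs hp hirr ha hle hn)

end Cfsg.Agent.Lead.QP
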