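/-
Translation between the predicates on quadratic pairs and root spaces.
-/
import Cfsg.Agent.Lib.Lead.QP.Classes

set_option autoImplicit false
set_option linter.unusedSectionVars false

universe u

namespace Cfsg.Agent.Lead.QP

open Cfsg Polynomial

variable {k : Type u} [Field k] {M : Type u} [AddCommGroup M] [Module k M] [FiniteDimensional k M]

local notation "End'" => Module.End k M
local notation "GL'" => LinearMap.GeneralLinearGroup k M

variable {G : Subgroup (LinearMap.GeneralLinearGroup k M)}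

theorem two_ne_of_ringChar (hk2 : ringChar k ≠ 2) : (2 : k) ≠ 0 := Ring.two_ne_zero hk2

theorem inFam_of_quadratic {σ : GL'} (h : σ ∈ quadraticElements G) : InFam G ((σ : End') - 1) := fun c => by
  have hsq : ((σ : End') - 1) * ((σ : End') - 1) = 0 := h.2.1.1
  exact ⟨u1 (c • ((σ : End') - 1)) (smul_sq hsq c), h.2.2 ⟨c, rfl⟩, rfl⟩

theorem quadratic_of {x : End'} (hx : x * x = 0) (hx0 : x ≠ 0) (hm : InFam G x) :
    u1 x hx ∈ quadraticElements G := by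
  refine ⟨InFam.u1_mem hm hx, ⟨?_, ?_⟩, ?_⟩
  · change (1 + x - 1) * (1 + x - 1) = 0
    rw [add_sub_cancel_left, hx]
  · change 1 + x - 1 ≠ 0
    rwa [add_sub_cancel_left]
  · rintro τ ⟨c, hc⟩
    obtain ⟨g, hg, hgv⟩ := hm c
    have : τ = g := Units.ext (by
      rw [hgv, hc]
      change 1 + c • (1 + x - 1) = 1 + c • x
      rw [add_sub_cancel_left])
    rwa [this]

theorem qs_of (hD : Dickson k) (hk2 : ringChar k ≠ 2) (hk3 : Nat.card k ≠ 3) {σ : GL'}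
    (hσ : σ ∈ minimalQuadraticElements G) : QS G (commutatorRank σ) := by
  refine ⟨hD, two_ne_of_ringChar hk2, hk3, fun x hx hx0 hm => ?_⟩
  have h := hσ.2 _ (quadratic_of hx hx0 hm)
  rwa [show commutatorRank (u1 x hx) = Module.finrank k (LinearMap.range x) by
    rw [commutatorRank, u1_val, add_sub_cancel_left]] at h

theorem rank_eq {σ τ : GL'} (hσ : σ ∈ minimalQuadraticElements G) (hτ : τ ∈ minimalQuadraticElements G) :
    commutatorRank τ = commutatorRank σ := le_antisymm (hτ.2 σ hσ.1) (hσ.2 τ hτ.1)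

theorem qd_of {σ τ : GL'} (hσ : σ ∈ minimalQuadraticElements G) (hτ : τ ∈ minimalQuadraticElements G) :
    Qd G (commutatorRank σ) ((τ : End') - 1) :=
  ⟨hτ.1.2.1.1, hτ.1.2.1.2, inFam_of_quadratic hτ.1, rank_eq hσ hτ⟩

theorem minimal_of_qd {σ : GL'} (hσ : σ ∈ minimalQuadraticElements G) {x : End'}
    (hx : Qd G (commutatorRank σ) x) : u1 x hx.sq ∈ minimalQuadraticElements G := by
  refine ⟨quadratic_of hx.sq hx.ne hx.mem, fun τ hτ => ?_⟩
  rw [show commutatorRank (u1 x hx.sq) = commutatorRank σ by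
    rw [commutatorRank, u1_val, add_sub_cancel_left, hx.rank]]
  exact hσ.2 τ hτ

theorem sameAction_eq (hD : Dickson k) (hk2 : ringChar k ≠ 2) (hk3 : Nat.card k ≠ 3) {σ : GL'}
    (hσ : σ ∈ minimalQuadraticElements G) : sameActionSubgroup G σ = Rg G ((σ : End') - 1) := by
  have hs := qs_of hD hk2 hk3 hσ
  have hσ' := qd_of hσ hσ
  refine le_antisymm ((Subgroup.closure_le _).2 ?_) fun g hg => ?_
  · rintro τ ⟨hτ, hk, hr⟩
    exact mem_Rt hk.ge hr.le hσ'.sq (inFam_of_quadratic hτ.1)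
  · by_cases h1 : g = 1
    · rw [h1]; exact one_mem _
    obtain ⟨q, hr, hk⟩ := Rt_qd hs hσ' (mem_Rg.1 hg) (sub_ne_zero_of_ne_one h1)
    have e : g = u1 ((g : End') - 1) q.sq := Units.ext (by simp)
    exact Subgroup.subset_closure ⟨e ▸ minimal_of_qd hσ q, hk, hr⟩

theorem root_mem (hD : Dickson k) (hk2 : ringChar k ≠ 2) (hk3 : Nat.card k ≠ 3) {σ : GL'}
    (hσ : σ ∈ minimalQuadraticElements G) {x : End'} (hx : Qd G (commutatorRank σ) x) :
    Rg G x ∈ quadraticRootSubgroups G := by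
  refine ⟨_, minimal_of_qd hσ hx, ?_⟩
  rw [sameAction_eq hD hk2 hk3 (minimal_of_qd hσ hx), u1_val, add_sub_cancel_left]

theorem root_cases (hD : Dickson k) (hk2 : ringChar k ≠ 2) (hk3 : Nat.card k ≠ 3) {σ : GL'}
    (hσ : σ ∈ minimalQuadraticElements G) {A : Subgroup GL'} (hA : A ∈ quadraticRootSubgroups G) :
    ∃ a : End', Qd G (commutatorRank σ) a ∧ A = Rg G a := by
  obtain ⟨τ, hτ, rfl⟩ := hA
  exact ⟨_, qd_of hσ hτ, sameAction_eq hD hk2 hk3 hτ⟩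

theorem scalarFamily_sub {σ : GL'} : scalarFamily σ = fam k ((σ : End') - 1) := rfl

/-- Everything needed to work with two root subgroups. -/
theorem root_setup (hD : Dickson k) (hk2 : ringChar k ≠ 2) (hk3 : Nat.card k ≠ 3)
    {E F : Subgroup GL'} (hE : E ∈ quadraticRootSubgroups G) (hF : F ∈ quadraticRootSubgroups G) :
    ∃ (d : ℕ) (a b : End'), QS G d ∧ Qd G d a ∧ Qd G d b ∧ E = Rg G a ∧ F = Rg G b ∧
      ∀ c, Qd G d c → Rg G c ∈ quadraticRootSubgroups G := by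
  obtain ⟨σ, hσ, hEσ⟩ := hE
  obtain ⟨b, hb, hFb⟩ := root_cases hD hk2 hk3 hσ hF
  exact ⟨_, _, b, qs_of hD hk2 hk3 hσ, qd_of hσ hσ, hb, hEσ.trans (sameAction_eq hD hk2 hk3 hσ), hFb,
    fun c hc => root_mem hD hk2 hk3 hσ hc⟩

/-- S5073 relative to the field theorem. -/
theorem commute_criterion (hD : Dickson k) (hk2 : ringChar k ≠ 2) (hk3 : Nat.card k ≠ 3)
    {E F : Subgroup GL'} (hE : E ∈ quadraticRootSubgroups G) (hF : F ∈ quadraticRootSubgroups G)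
    (h : (∃ e ∈ E, e ≠ 1 ∧ ∃ f ∈ F, f ≠ 1 ∧ e * f = f * e) ∨ E ⊓ Subgroup.normalizer (F : Set GL') ≠ ⊥) :
    ⁅E, F⁆ = ⊥ := by
  obtain ⟨d, a, b, hs, ha, hb, rfl, rfl, -⟩ := root_setup hD hk2 hk3 hE hF
  rw [comm_bot_iff]
  rcases h with ⟨e, he, he1, f, hf, hf1, hef⟩ | h
  · exact comm_of_elements hs ha hb he (sub_ne_zero_of_ne_one he1) hf (sub_ne_zero_of_ne_one hf1)
      (mul_comm_iff.1 hef)
  · obtain ⟨e, he, he1⟩ : ∃ e ∈ Rg G a ⊓ Subgroup.normalizer (Rg G b : Set GL'), e ≠ 1 := by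
      by_contra hno
      simp only [not_exists, not_and, not_not] at hno
      exact h ((Subgroup.eq_bot_iff_forall _).2 hno)
    exact comm_of_normalises hs ha hb he.1 he1 fun f hf => (Subgroup.mem_normalizer_iff.1 he.2 f).1 hf

/-- S5066 relative to the field theorem. -/
theorem class_two_pairs (hD : Dickson k) (hirr : IsIrreducibleFor G) (hk2 : ringChar k ≠ 2)
    (hk3 : Nat.card k ≠ 3) {E F : Subgroup GL'} (hE : E ∈ quadraticRootSubgroups G)
    (hF : F ∈ quadraticRootSubgroups G) (h2 : ⁅E ⊔ F, E ⊔ F⁆ ≠ ⊥ ∧ ⁅⁅E ⊔ F, E ⊔ F⁆, E ⊔ F⁆ = ⊥) :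
    ⁅E, F⁆ ∈ quadraticRootSubgroups G ∧
    (∀ e ∈ E, e ≠ 1 → Subgroup.closure ((fun f : GL' => e * f * e⁻¹ * f⁻¹) '' (F : Set GL')) = ⁅E, F⁆) ∧
    (∀ f ∈ F, f ≠ 1 → Subgroup.closure ((fun e : GL' => e * f * e⁻¹ * f⁻¹) '' (E : Set GL')) = ⁅E, F⁆) ∧
    ((E ⊔ F : Subgroup GL') : Set GL') ⊆ quadraticUnipotentCore G ⁅E, F⁆ := by
  obtain ⟨d, a, b, hs, ha, hb, rfl, rfl, hS⟩ := root_setup hD hk2 hk3 hE hF
  rcases trichotomy hs ha hb with ho | hc | hc
  · exact absurd h2.2 (ho.not_class_two hs ha hb _ le_rfl)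
  · exfalso
    refine h2.1 (le_bot_iff.1 (commutator_sup_le Rg_comm Rg_comm (comm_bot_iff.2 hc).le ?_))
    intro g _
    rw [Subgroup.mem_centralizer_iff]
    intro x hx
    rw [SetLike.mem_coe, Subgroup.mem_bot] at hx
    rw [hx, one_mul, mul_one]
  · obtain ⟨r1, -, r3, r4⟩ := hc.root_case hs (partners_self hs hirr) hS ha hb
    exact ⟨r1, r3, r4, hc.core hs (partners_self hs hirr) ha hb⟩

/-- S5068 relative to the field theorem. -/
theorem unipotent_pairs (hD : Dickson k) (hirr : IsIrreducibleFor G) (hk2 : ringChar k ≠ 2)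
    (hk3 : Nat.card k ≠ 3) {E F : Subgroup GL'} (hE : E ∈ quadraticRootSubgroups G)
    (hF : F ∈ quadraticRootSubgroups G) (hu : IsUnipotentOn (E ⊔ F)) :
    ⁅E, F⁆ = ⊥ ∨
    (⁅E, F⁆ ∈ quadraticRootSubgroups G ∧
      (∀ e ∈ E, e ≠ 1 → Subgroup.closure ((fun f : GL' => e * f * e⁻¹ * f⁻¹) '' (F : Set GL')) = ⁅E, F⁆) ∧
      (∀ f ∈ F, f ≠ 1 → Subgroup.closure ((fun e : GL' => e * f * e⁻¹ * f⁻¹) '' (E : Set GL')) = ⁅E, F⁆) ∧
      ⁅E ⊔ F, E ⊔ F⁆ ≠ ⊥ ∧ ⁅⁅E ⊔ F, E ⊔ F⁆, E ⊔ F⁆ = ⊥ ∧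
      ((E ⊔ F : Subgroup GL') : Set GL') ⊆ quadraticUnipotentCore G ⁅E, F⁆) := by
  obtain ⟨d, a, b, hs, ha, hb, rfl, rfl, hS⟩ := root_setup hD hk2 hk3 hE hF
  rcases trichotomy hs ha hb with ho | hc | hc
  · refine absurd hu (not_unipotent_of_opp hs ha hb ho ((Subgroup.closure_le _).2 ?_))
    rintro g (⟨c, hg⟩ | ⟨c, hg⟩)
    · refine Subgroup.mem_sup_left ?_
      rw [mem_Rg, hg, add_sub_cancel_left]
      exact Submodule.smul_mem _ c ha.self_mem
    · refine Subgroup.mem_sup_right ?_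
      rw [mem_Rg, hg, add_sub_cancel_left]
      exact Submodule.smul_mem _ c hb.self_mem
  · exact Or.inl (comm_bot_iff.2 hc)
  · obtain ⟨r1, -, r3, r4⟩ := hc.root_case hs (partners_self hs hirr) hS ha hb
    obtain ⟨c1, c2⟩ := hc.class_two hs (partners_self hs hirr) ha hb
    exact Or.inr ⟨r1, r3, r4, c1, c2, hc.core hs (partners_self hs hirr) ha hb⟩

end Cfsg.Agent.Lead.QP
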