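/-
The field case of fullness, from the theorem on simple algebraic extensions.
-/
import Cfsg.Agent.S5060
import Cfsg.Agent.Lib.Lead.QP.Bridge
import Cfsg.Agent.Lib.Lead.QP.Opposite

set_option autoImplicit false

universe u

namespace Cfsg.Agent.Lead.QP

theorem dickson_holds {k : Type u} [Field k] (hk2 : ringChar k ≠ 2) (hk3 : Nat.card k ≠ 3) : Dickson k := by
  intro K _ _ α hα hα0 hgen r
  have htop : ∀ x : K, x ∈ IntermediateField.adjoin k ({α} : Set K) := fun x =>
    IntermediateField.algebra_adjoin_le_adjoin k ({α} : Set K) (hgen ▸ Algebra.mem_top)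
  have h := Cfsg.Agent.S5060.result hk2 hk3 α hα hα0
  have mem : ∀ g : Matrix.SpecialLinearGroup (Fin 2) K, g ∈ Gam k α := by
    intro g
    have hg : g ∈ {g : Matrix.SpecialLinearGroup (Fin 2) K | ∀ i j : Fin 2,
        (g : Matrix (Fin 2) (Fin 2) K) i j ∈ IntermediateField.adjoin k ({α} : Set K)} := fun i j => htop _
    rw [← h] at hg
    refine (Subgroup.closure_le _).2 ?_ hg
    rintro x (⟨c, hc⟩ | ⟨c, hc⟩)
    · rw [show x = uM (algebraMap k K c) from Subtype.ext hc]; exact uM_mem α c
    · rw [show x = lM (algebraMap k K c * α) from Subtype.ext hc]; exact lM_mem α c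
  exact ⟨mem _, mem _⟩

end Cfsg.Agent.Lead.QP
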