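/-
Passing root subgroup conditions to the subgroup generated by the roots.
-/
import Cfsg.Prelude.Def_RootSubgroups

set_option autoImplicit false

namespace Cfsg.Agent.Lead.QP

open Cfsg

variable {Γ : Type*} [Group Γ] {G0 : Subgroup Γ}

theorem map_subgroupOf_self {A : Subgroup Γ} (h : A ≤ G0) : (A.subgroupOf G0).map G0.subtype = A := by
  rw [Subgroup.subgroupOf_map_subtype, inf_eq_left.2 h]

theorem map_conjBy {A : Subgroup G0} (g : G0) :
    (conjBy A g).map G0.subtype = conjBy (A.map G0.subtype) (g : Γ) := by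
  rw [conjBy, conjBy, Subgroup.map_map, Subgroup.map_map]
  congr 1

theorem subgroupOf_conjBy {A : Subgroup Γ} (hA : A ≤ G0) (g : G0) (hAg : conjBy A (g : Γ) ≤ G0) :
    conjBy (A.subgroupOf G0) g = (conjBy A (g : Γ)).subgroupOf G0 :=
  Subgroup.map_injective G0.subtype_injective (by rw [map_conjBy, map_subgroupOf_self hA, map_subgroupOf_self hAg])

theorem rankOne_subgroupOf {A B : Subgroup Γ} (hA : A ≤ G0) (hB : B ≤ G0) (h : IsRankOnePair A B) :
    IsRankOnePair (A.subgroupOf G0) (B.subgroupOf G0) := by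
  have cond : ∀ {A B : Subgroup Γ}, A ≤ G0 → B ≤ G0 → RankOneCondition A B →
      RankOneCondition (A.subgroupOf G0) (B.subgroupOf G0) := by
    intro A B hA hB h a ha ha1
    obtain ⟨b, hb, hb1, e⟩ := h a ha (fun e => ha1 (Subtype.ext e))
    refine ⟨⟨b, hB hb⟩, hb, fun e' => hb1 (congrArg Subtype.val e'), ?_⟩
    refine Subgroup.map_injective G0.subtype_injective ?_
    rw [map_conjBy, map_conjBy, map_subgroupOf_self hA, map_subgroupOf_self hB]
    exact e
  haveI := h.nilpotent_left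
  haveI := h.nilpotent_right
  refine ⟨fun e => h.ne ?_, Group.nilpotent_of_mulEquiv (Subgroup.subgroupOfEquivOfLe hA).symm,
    Group.nilpotent_of_mulEquiv (Subgroup.subgroupOfEquivOfLe hB).symm, cond hA hB h.cond_left,
    cond hB hA h.cond_right⟩
  rw [← map_subgroupOf_self hA, e, map_subgroupOf_self hB]

theorem commutator_subgroupOf {A B : Subgroup Γ} (hA : A ≤ G0) (hB : B ≤ G0) :
    ⁅A.subgroupOf G0, B.subgroupOf G0⁆ = ⁅A, B⁆.subgroupOf G0 :=
  Subgroup.map_injective G0.subtype_injective (by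
    rw [Subgroup.map_commutator, map_subgroupOf_self hA, map_subgroupOf_self hB, map_subgroupOf_self
      ((Subgroup.commutator_mono hA hB).trans (Subgroup.commutator_le_self _))])

theorem closure_image_subgroupOf {B : Subgroup Γ} (hB : B ≤ G0) (F : Γ → Γ) (F' : G0 → G0)
    (hF : ∀ x : G0, (F' x : Γ) = F x) {D : Subgroup Γ} (h : Subgroup.closure (F '' (B : Set Γ)) = D) :
    Subgroup.closure (F' '' ((B.subgroupOf G0 : Subgroup G0) : Set G0)) = D.subgroupOf G0 := by
  subst h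
  refine Subgroup.map_injective G0.subtype_injective ?_
  have e : (Subgroup.closure (F' '' ((B.subgroupOf G0 : Subgroup G0) : Set G0))).map G0.subtype =
      Subgroup.closure (F '' (B : Set Γ)) := by
    rw [MonoidHom.map_closure]
    congr 1
    ext x
    constructor
    · rintro ⟨_, ⟨y, hy, rfl⟩, rfl⟩
      exact ⟨y, hy, (hF y).symm⟩
    · rintro ⟨y, hy, rfl⟩
      exact ⟨_, ⟨⟨y, hB hy⟩, hy, rfl⟩, hF ⟨y, hB hy⟩⟩
  rw [e, map_subgroupOf_self]
  rw [← e]
  rintro _ ⟨y, -, rfl⟩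
  exact y.2

theorem rootCase_subgroupOf {S : Set (Subgroup Γ)} {A B : Subgroup Γ} (hA : A ≤ G0) (hB : B ≤ G0)
    (h : RootCommutatorCase S A B) :
    RootCommutatorCase ((fun A : Subgroup Γ => A.subgroupOf G0) '' S) (A.subgroupOf G0) (B.subgroupOf G0) := by
  obtain ⟨h1, h2, h3, h4⟩ := h
  refine ⟨?_, ?_, ?_, ?_⟩ <;> rw [commutator_subgroupOf hA hB]
  · exact ⟨_, h1, rfl⟩
  · intro c hc x hx
    refine Subtype.ext (h2 c hc x ?_)
    rw [← map_subgroupOf_self hA, ← map_subgroupOf_self hB, ← Subgroup.map_sup]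
    exact ⟨x, hx, rfl⟩
  · intro a ha ha1
    exact closure_image_subgroupOf hB (fun b : Γ => (a : Γ) * b * (a : Γ)⁻¹ * b⁻¹) _ (fun _ => rfl)
      (h3 a ha fun e => ha1 (Subtype.ext e))
  · intro b hb hb1
    exact closure_image_subgroupOf hA (fun a : Γ => a * (b : Γ) * a⁻¹ * (b : Γ)⁻¹) _ (fun _ => rfl)
      (h4 b hb fun e => hb1 (Subtype.ext e))

theorem rootSet_image {S : Set (Subgroup Γ)} (hgen : (⨆ A ∈ S, A) = G0) (hcomm : ∀ A ∈ S, IsMulCommutative A)
    (hne : ∀ A ∈ S, A ≠ ⊥) (hconj : ∀ A ∈ S, ∀ g ∈ G0, conjBy A g ∈ S)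
    (hpair : ∀ A ∈ S, ∀ B ∈ S, ⁅A, B⁆ = ⊥ ∨ IsRankOnePair A B ∨ RootCommutatorCase S A B) :
    IsRootSubgroupSet ((fun A : Subgroup Γ => A.subgroupOf G0) '' S) := by
  have hle : ∀ A ∈ S, A ≤ G0 := fun A hA => hgen ▸ le_iSup₂_of_le A hA le_rfl
  constructor
  · rintro _ ⟨A, hA, rfl⟩
    haveI := hcomm A hA
    refine ⟨⟨fun x y => Subtype.ext (Subtype.ext ?_)⟩⟩
    have h := congrArg Subtype.val ((hcomm A hA).is_comm.comm (⟨x.1.1, x.2⟩ : A) ⟨y.1.1, y.2⟩)
    simpa using h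
  · rintro _ ⟨A, hA, rfl⟩ e
    refine hne A hA ?_
    rw [← map_subgroupOf_self (hle A hA)]
    simp [show A.subgroupOf G0 = ⊥ from e]
  · refine Subgroup.map_injective G0.subtype_injective ?_
    rw [← MonoidHom.range_eq_map, Subgroup.range_subtype]
    refine le_antisymm (Subgroup.map_subtype_le _) ?_
    conv_lhs => rw [← hgen]
    refine iSup₂_le fun A hA => ?_
    rw [← map_subgroupOf_self (hle A hA)]
    refine Subgroup.map_mono ?_
    exact le_iSup₂_of_le (A.subgroupOf G0) ⟨A, hA, rfl⟩ le_rfl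
  · rintro _ ⟨A, hA, rfl⟩ g
    exact ⟨conjBy A (g : Γ), hconj A hA g g.2, (subgroupOf_conjBy (hle A hA) g (hle _ (hconj A hA g g.2))).symm⟩
  · rintro _ ⟨A, hA, rfl⟩ _ ⟨B, hB, rfl⟩
    rcases hpair A hA B hB with h | h | h
    · left
      rw [commutator_subgroupOf (hle A hA) (hle B hB), h, Subgroup.bot_subgroupOf]
    · exact Or.inr (Or.inl (rankOne_subgroupOf (hle A hA) (hle B hB) h))
    · exact Or.inr (Or.inr (rootCase_subgroupOf (hle A hA) (hle B hB) h))

end Cfsg.Agent.Lead.QP
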