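/-
The structure of quadratic pairs: root groups, components, central product decomposition.
-/
import Cfsg.Agent.Lib.Lead.QP.Bridge
import Cfsg.Agent.Lib.Lead.QP.Parts
import Cfsg.Agent.Lib.Lead.QP.Transfer

set_option autoImplicit false
set_option linter.unusedSectionVars false

universe u

namespace Cfsg.Agent.Lead.QP

open Cfsg Polynomial
open scoped commutatorElement

variable {k : Type u} [Field k] {M : Type u} [AddCommGroup M] [Module k M] [FiniteDimensional k M]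

local notation "End'" => Module.End k M
local notation "GL'" => LinearMap.GeneralLinearGroup k M

variable {G : Subgroup (LinearMap.GeneralLinearGroup k M)} {d : ℕ}

/-- The roots of a quadratic pair in terms of root spaces. -/
theorem exists_setup (hD : Dickson k) (hk2 : ringChar k ≠ 2) (hk3 : Nat.card k ≠ 3)
    (G : Subgroup GL') : ∃ d, QS G d ∧ quadraticRootSubgroups G = Sig G d := by
  classical
  by_cases h : ∃ τ, τ ∈ quadraticElements G
  · obtain ⟨σ, hσ⟩ : ∃ σ, σ ∈ minimalQuadraticElements G := by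
      have hex : ∃ n, ∃ τ, τ ∈ quadraticElements G ∧ commutatorRank τ = n :=
        let ⟨τ, hτ⟩ := h
        ⟨_, τ, hτ, rfl⟩
      obtain ⟨σ, hσ, hn⟩ := Nat.find_spec hex
      exact ⟨σ, hσ, fun τ hτ => hn ▸ Nat.find_le ⟨τ, hτ, rfl⟩⟩
    refine ⟨_, qs_of hD hk2 hk3 hσ, Set.ext fun A => ⟨fun hA => root_cases hD hk2 hk3 hσ hA, ?_⟩⟩
    rintro ⟨a, ha, rfl⟩
    exact root_mem hD hk2 hk3 hσ ha
  · have hnone : ∀ x : End', x * x = 0 → x ≠ 0 → InFam G x → False := fun x hx hx0 hm =>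
      h ⟨_, quadratic_of hx hx0 hm⟩
    refine ⟨0, ⟨hD, two_ne_of_ringChar hk2, hk3, fun x hx hx0 hm => (hnone x hx hx0 hm).elim⟩, ?_⟩
    refine Set.ext fun A => ⟨?_, ?_⟩
    · rintro ⟨τ, hτ, -⟩
      exact (h ⟨τ, hτ.1⟩).elim
    · rintro ⟨a, ha, -⟩
      exact (hnone a ha.sq ha.ne ha.mem).elim

theorem quadratic_sub {σ : GL'} (h : σ ∈ quadraticElements G) :
    ((σ : End') - 1) * ((σ : End') - 1) = 0 ∧ (σ : End') - 1 ≠ 0 ∧ InFam G ((σ : End') - 1) :=
  ⟨h.2.1.1, h.2.1.2, inFam_of_quadratic h⟩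

theorem gen_le_Stb (hs : QS G d) (hp : Partners G d) {A : Subgroup GL'}
    (hn : A ≤ Subgroup.normalizer (G : Set GL')) (hgen : Subgroup.closure (quadraticElements A) = A)
    {a : End'} (ha : Qd G d a) : A ≤ Stb G d a := by
  rw [← hgen]
  refine (Subgroup.closure_le _).2 fun σ hσ => ?_
  obtain ⟨hsq, -, -⟩ := quadratic_sub hσ
  have e : σ = u1 ((σ : End') - 1) hsq := Units.ext (by simp)
  rw [e]
  exact quad_mem_Stb hs hp ha hsq (e ▸ hn hσ.1)

theorem inFam_of_quadratic' {P : Subgroup GL'} {x : End'} {hx' : x * x = 0} (h : u1 x hx' ∈ quadraticElements P)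
    (hx : x * x = 0) : InFam P x := by
  have h1 := inFam_of_quadratic h
  rwa [u1_val, add_sub_cancel_left] at h1

/-- The subgroup generated by all roots. -/
def GS (G : Subgroup (LinearMap.GeneralLinearGroup k M)) (d : ℕ) : Subgroup (LinearMap.GeneralLinearGroup k M) :=
  ⨆ A ∈ Sig G d, A

theorem Rg_le_GS {a : End'} (ha : Qd G d a) : Rg G a ≤ GS G d := le_iSup₂_of_le _ ⟨a, ha, rfl⟩ le_rfl

theorem GS_le : GS G d ≤ G := iSup₂_le fun _ ⟨a, _, e⟩ => e ▸ Rg_le a

theorem GS_normal : Subgroup.normalizer (G : Set GL') ≤ Subgroup.normalizer ((GS G d : Subgroup GL') : Set GL') := by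
  refine normal_le_normalizer fun g hg x hx => ?_
  have h : GS G d ≤ (GS G d).comap (MulAut.conj g).toMonoidHom := iSup₂_le fun A ⟨a, ha, e⟩ y hy => by
    subst e
    exact Rg_le_GS (ha.cj hg) (conjBy_Rg ha.sq hg ▸ ⟨y, hy, rfl⟩)
  exact h hx

theorem sig_pair (hs : QS G d) (hp : Partners G d) {S : Set (Subgroup GL')} {a b : End'} (ha : Qd G d a)
    (hb : Qd G d b) (hS : Cls G a b → Rg G (a * b - b * a) ∈ S) :
    ⁅Rg G a, Rg G b⁆ = ⊥ ∨ IsRankOnePair (Rg G a) (Rg G b) ∨ RootCommutatorCase S (Rg G a) (Rg G b) := by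
  rcases trichotomy hs ha hb with ho | hc | hc
  · exact Or.inr (Or.inl (rankOne_of_opp hs ha hb ho))
  · exact Or.inl (comm_bot_iff.2 hc)
  · obtain ⟨-, r2, r3, r4⟩ := hc.root_case hs hp (S := Sig G d) (fun c hc => ⟨c, hc, rfl⟩) ha hb
    refine Or.inr (Or.inr ⟨?_, r2, r3, r4⟩)
    rw [hc.commutator_eq hs hp ha hb]
    exact hS hc

/-- S5062 relative to the field theorem. -/
theorem root_subgroups (hD : Dickson k) (hG : IsQuadraticPair G) (hk2 : ringChar k ≠ 2) (hk3 : Nat.card k ≠ 3) :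
    IsRootSubgroupSet ((fun A : Subgroup GL' => A.subgroupOf (⨆ B ∈ quadraticRootSubgroups G, B)) ''
      quadraticRootSubgroups G) ∧
    (∀ A ∈ quadraticRootSubgroups G,
      ¬ IsIsolatedIn (FAdj (quadraticRootSubgroups G)) (quadraticRootSubgroups G) A) ∧
    (∀ A ∈ quadraticRootSubgroups G, ∀ B ∈ rankOnePartners (quadraticRootSubgroups G) A,
      ∃ A₀ B₀ : Subgroup GL', A₀ ≤ A ∧ B₀ ≤ B ∧
        ∃ (k₁ : Type u) (_ : Field k₁), 3 < ENat.card k₁ ∧ IsPSL2PairOver k₁ A₀ B₀) := by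
  obtain ⟨d, hs, hSig⟩ := exists_setup hD hk2 hk3 G
  have hp := partners_self hs hG.1
  rw [hSig]
  refine ⟨rootSet_image rfl ?_ ?_ ?_ ?_, ?_, ?_⟩
  · rintro _ ⟨a, -, rfl⟩; exact Rg_comm
  · rintro _ ⟨a, ha, rfl⟩; exact Rg_ne_bot ha
  · rintro _ ⟨a, ha, rfl⟩ g hg
    have hg' := Subgroup.le_normalizer (GS_le (G := G) (d := d) hg)
    exact ⟨cj g a, ha.cj hg', conjBy_Rg ha.sq hg'⟩
  · rintro _ ⟨a, ha, rfl⟩ _ ⟨b, hb, rfl⟩
    exact sig_pair hs hp ha hb fun hc => ⟨_, hc.z_qd hs ha hb, rfl⟩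
  · rintro _ ⟨a, ha, rfl⟩ hiso
    obtain ⟨b, hb, ho⟩ := hp a ha
    exact (hiso.2 (Rg G b)).1 ⟨⟨a, ha, rfl⟩, ⟨b, hb, rfl⟩, rankOne_of_opp hs ha hb ho⟩
  · rintro _ ⟨a, ha, rfl⟩ _ ⟨⟨b, hb, rfl⟩, hr⟩
    exact psl2_pair hs ha hb (not_rankOne hs ha hb hr)

/-- S5069 relative to the field theorem. -/
theorem split_classes (hD : Dickson k) (hG : IsQuadraticPair G) (hk2 : ringChar k ≠ 2) (hk3 : Nat.card k ≠ 3) :
    ∃ (r : ℕ) (prt : Fin r → Set (Subgroup GL')),
      (⋃ i, prt i) = quadraticRootSubgroups G ∧ (∀ i j, i ≠ j → Disjoint (prt i) (prt j)) ∧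
      (∀ i, (prt i).Nonempty) ∧ (∀ i j, i ≠ j → ⁅(⨆ A ∈ prt i, A), (⨆ A ∈ prt j, A)⁆ = ⊥) ∧
      (∀ i, IsQuasisimple ↥(⨆ A ∈ prt i, A) ∧
        IsRootSubgroupClass ((fun A : Subgroup GL' => A.subgroupOf (⨆ B ∈ prt i, B)) '' (prt i)) ∧
        ∀ A ∈ prt i, ∀ B ∈ rankOnePartners (prt i) A, ∃ A₀ B₀ : Subgroup GL', A₀ ≤ A ∧ B₀ ≤ B ∧
          ∃ (k₁ : Type u) (_ : Field k₁), 3 < ENat.card k₁ ∧ IsPSL2PairOver k₁ A₀ B₀) := by
  obtain ⟨d, hs, hSig⟩ := exists_setup hD hk2 hk3 G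
  have hp := partners_self hs hG.1
  set P := {S : Set (Subgroup GL') | ∃ a, Qd G d a ∧ S = part G d a}
  haveI : Finite P := (parts_finite hs hp).to_subtype
  obtain ⟨r, ⟨e⟩⟩ := Finite.exists_equiv_fin P
  choose rep hrep using fun i => (e.symm i).2
  refine ⟨r, fun i => part G d (rep i), ?_, fun i j hij => ?_, fun i => ?_, fun i j hij => ?_, fun i => ?_⟩
  · rw [hSig]
    ext A
    simp only [Set.mem_iUnion]
    constructor
    · rintro ⟨i, hi⟩
      exact part_sub (hrep i).1 hi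
    · rintro ⟨a, ha, rfl⟩
      refine ⟨e ⟨part G d a, a, ha, rfl⟩, ?_⟩
      rw [← (hrep _).2, Equiv.symm_apply_apply]
      exact ⟨a, Relation.ReflTransGen.refl, rfl⟩
  · rw [Set.disjoint_left]
    rintro _ ⟨b, hb, rfl⟩ h
    have hc := con_of_part hs hp (hrep j).1 (hb.qd (hrep i).1) h
    refine hij (e.symm.injective (Subtype.ext ?_))
    rw [(hrep i).2, (hrep j).2, part_eq hb, part_eq hc]
  · exact ⟨_, rep i, Relation.ReflTransGen.refl, rfl⟩
  · refine GP_commute hs hp (hrep i).1 (hrep j).1 fun hc => hij (e.symm.injective (Subtype.ext ?_))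
    rw [(hrep i).2, (hrep j).2, part_eq hc]
  · have ha := (hrep i).1
    have hn : G ≤ Subgroup.normalizer (GP G d (rep i) : Set GL') := fun g hg =>
      mem_normalizer_of_conjBy (GP_normal ha (gen_le_Stb hs hp Subgroup.le_normalizer hG.2 ha hg))
    refine ⟨GP_quasisimple hs hp hG.1 ha (GP_le_self _) hn, ⟨rootSet_image rfl ?_ ?_ ?_ ?_, ?_⟩, ?_⟩
    · rintro _ ⟨a, -, rfl⟩; exact Rg_comm
    · rintro _ ⟨a, hc, rfl⟩; exact Rg_ne_bot (hc.qd ha)
    · exact fun A hA g hg => part_conj_mem ha (GP_le_Stb hs hp ha hg) hA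
    · rintro _ ⟨a, hca, rfl⟩ _ ⟨b, hcb, rfl⟩
      exact sig_pair hs hp (hca.qd ha) (hcb.qd ha) fun hc =>
        ⟨_, hca.trans (hc.con hs hp (hca.qd ha) (hcb.qd ha)), rfl⟩
    · refine ⟨⟨_, _, ⟨rep i, Relation.ReflTransGen.refl, rfl⟩, rfl⟩, ?_⟩
      rintro _ ⟨_, ⟨a, hca, rfl⟩, rfl⟩ _ ⟨_, ⟨b, hcb, rfl⟩, rfl⟩
      obtain ⟨g, hg, hge⟩ := con_conj hs (hca.qd ha) (hca.symm.trans hcb)
      have hg' : g ∈ ⨆ B ∈ part G d (rep i), B := by
        rw [part_eq hca]; exact hg
      have h1 : ∀ c, Con G d (rep i) c → Rg G c ≤ ⨆ B ∈ part G d (rep i), B := fun c hc => Rg_le_GP hc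
      refine ⟨⟨g, hg'⟩, ?_⟩
      rw [subgroupOf_conjBy (h1 a hca) _ (hge ▸ h1 b hcb)]
      exact (congrArg (fun A : Subgroup GL' => A.subgroupOf _) hge).symm
    · rintro _ ⟨a, hca, rfl⟩ _ ⟨⟨b, hcb, rfl⟩, hr⟩
      exact psl2_pair hs (hca.qd ha) (hcb.qd ha) (not_rankOne hs (hca.qd ha) (hcb.qd ha) hr)

/-- S5074 relative to the field theorem. -/
theorem cocentral (hD : Dickson k) (hG : IsQuadraticPair G) (hk2 : ringChar k ≠ 2) (hk3 : Nat.card k ≠ 3) :
    (⨆ A ∈ quadraticRootSubgroups G, A) ⊔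
      (G ⊓ Subgroup.centralizer ((⨆ A ∈ quadraticRootSubgroups G, A : Subgroup GL') : Set GL')) = G := by
  obtain ⟨d, hs, hSig⟩ := exists_setup hD hk2 hk3 G
  rw [hSig]
  refine le_antisymm (sup_le GS_le inf_le_left) ?_
  conv_lhs => rw [← hG.2]
  refine (Subgroup.closure_le _).2 fun σ hσ => ?_
  obtain ⟨hsq, -, hfam⟩ := quadratic_sub hσ
  obtain ⟨g, hg, he⟩ := fam_le_sup hs.dick hs.h2 hs.h3 hG.1 (K := GS G d) GS_le
    (Subgroup.le_normalizer.trans GS_normal) _ rfl hsq hfam 1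
  rw [one_smul, add_sub_cancel] at he
  rwa [Units.ext he] at hg

/-- The properties of the factors. -/
def IsFactor (A P K : Subgroup (LinearMap.GeneralLinearGroup k M)) : Prop :=
  K ≤ P ∧ A ≤ Subgroup.normalizer (K : Set (LinearMap.GeneralLinearGroup k M)) ∧ IsQuasisimple ↥K ∧
    Subgroup.closure (quadraticElements K) = K

theorem quadratic_mono {P Q : Subgroup GL'} (h : P ≤ Q) : quadraticElements P ⊆ quadraticElements Q :=
  fun _ hσ => ⟨h hσ.1, hσ.2.1, fun _ hτ => h (hσ.2.2 hτ)⟩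

theorem factors (hD : Dickson k) (h2 : (2 : k) ≠ 0) (h3 : Nat.card k ≠ 3) {A : Subgroup GL'}
    (hirr : IsIrreducibleFor A) (hAgen : Subgroup.closure (quadraticElements A) = A) :
    ∀ (n j : ℕ), Module.finrank k M < j + n → ∀ P : Subgroup GL', P ≤ A →
      A ≤ Subgroup.normalizer (P : Set GL') → Subgroup.closure (quadraticElements P) = P → MinRank P j →
      ∃ F : Set (Subgroup GL'), F.Finite ∧ (∀ K ∈ F, IsFactor A P K) ∧
        (∀ K ∈ F, ∀ K' ∈ F, K ≠ K' → ⁅K, K'⁆ = ⊥) ∧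
        (∀ x : End', x * x = 0 → x ≠ 0 → InFam P x → ∃ K ∈ F, InFam K x) := by
  intro n
  induction n with
  | zero =>
    intro j hj P _ _ _ hmin
    refine ⟨∅, Set.finite_empty, by simp, by simp, fun x hx hx0 hm => ?_⟩
    have h1 := hmin x hx hx0 hm
    have h4 := Submodule.finrank_le (LinearMap.range x)
    omega
  | succ n ih =>
    intro j hj P hPA hPn hPgen hmin
    by_cases hex : ∃ x, Qd P j x
    · have hs : QS P j := ⟨hD, h2, h3, hmin⟩
      have hp := partners_of hs hPA hPn ⟨hirr.1, hirr.2⟩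
      set C := Subgroup.centralizer ((GS P j : Subgroup GL') : Set GL') with hC
      set P' := Subgroup.closure (quadraticElements (P ⊓ C)) with hP'
      have hP'le : P' ≤ P ⊓ C := (Subgroup.closure_le _).2 fun σ hσ => hσ.1
      have hquad : quadraticElements (P ⊓ C) ⊆ quadraticElements P' := by
        intro σ hσ
        obtain ⟨hsq, hne, hm⟩ := quadratic_sub hσ
        refine ⟨Subgroup.subset_closure hσ, hσ.2.1, ?_⟩
        rintro τ ⟨c, hc⟩
        by_cases hc0 : c = 0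
        · rw [show τ = 1 from Units.ext (by rw [hc, hc0, zero_smul, add_zero, Units.val_one])]
          exact one_mem _
        · have hτ : τ = u1 (c • ((σ : End') - 1)) (smul_sq hsq c) := Units.ext hc
          rw [hτ]
          exact Subgroup.subset_closure
            (quadratic_of (smul_sq hsq c) (smul_ne_zero hc0 hne) (InFam.smul hm c))
      have hP'gen : Subgroup.closure (quadraticElements P') = P' :=
        le_antisymm ((Subgroup.closure_le _).2 fun σ hσ => hσ.1) (Subgroup.closure_mono hquad)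
      have hAC : A ≤ Subgroup.normalizer ((P ⊓ C : Subgroup GL') : Set GL') := by
        refine normal_le_normalizer fun g hg x hx => Subgroup.mem_inf.2
          ⟨(Subgroup.mem_normalizer_iff.1 (hPn hg) x).1 hx.1, Subgroup.mem_centralizer_iff.2 fun y hy => ?_⟩
        have hy' := (Subgroup.mem_normalizer_iff.1 (GS_normal (hPn (inv_mem hg))) y).1 hy
        have h1 := congrArg (fun t => g * t * g⁻¹) (Subgroup.mem_centralizer_iff.1 hx.2 _ hy')
        simpa [mul_assoc] using h1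
      have hP'n : A ≤ Subgroup.normalizer (P' : Set GL') := by
        refine normal_le_normalizer fun g hg x hx => ?_
        have h1 : P' ≤ P'.comap (MulAut.conj g).toMonoidHom := by
          refine (Subgroup.closure_le _).2 fun σ hσ => ?_
          obtain ⟨hsq, hne, hm⟩ := quadratic_sub hσ
          have hsq' : cj g ((σ : End') - 1) * cj g ((σ : End') - 1) = 0 := by rw [← cj_mul, hsq, map_zero]
          have hmem := Subgroup.subset_closure (k := quadraticElements (P ⊓ C)) (quadratic_of hsq'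
            (fun h => hne ((LinearEquiv.map_eq_zero_iff _).1 h)) (InFam.cj hm (hAC hg)))
          rw [SetLike.mem_coe, Subgroup.mem_comap]
          change g * σ * g⁻¹ ∈ P'
          rwa [show g * σ * g⁻¹ = u1 _ hsq' from Units.ext (by
            rw [u1_val, cj_apply, Units.val_mul, Units.val_mul, mul_sub, sub_mul, mul_one, ← Units.val_mul g g⁻¹,
              mul_inv_cancel, Units.val_one, add_sub_cancel])]
        exact h1 hx
      have hmin' : MinRank P' (j + 1) := fun x hx hx0 hm => by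
        have hxP : InFam P x := InFam.mono (hP'le.trans inf_le_left) hm
        refine Nat.lt_of_le_of_ne (hmin x hx hx0 hxP) fun he => ?_
        have hq : Qd P j x := ⟨hx, hx0, hxP, he.symm⟩
        obtain ⟨b, hb, ho⟩ := hp x hq
        obtain ⟨g, hg, hgv⟩ := hm 1
        rw [one_smul] at hgv
        obtain ⟨f, hf, hfv⟩ := exists_mem_Rg hb.self_mem
        have h1 := mul_comm_iff.1 (Subgroup.mem_centralizer_iff.1 (hP'le hg).2 f (Rg_le_GS hb hf)).symm
        rw [hgv, hfv, add_sub_cancel_left, add_sub_cancel_left] at h1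
        exact not_opp_comm hq (comm_of_elements hs hq hb hq.self_mem hx0 hb.self_mem hb.ne h1) hb ho
      obtain ⟨F', hfin, hF', hcomm', hcov'⟩ :=
        ih (j + 1) (by omega) P' ((hP'le.trans inf_le_left).trans hPA) hP'n hP'gen hmin'
      have hPS : ∀ a, Qd P j a → A ≤ Stb P j a := fun a ha => gen_le_Stb hs hp hPn hAgen ha
      have hnorm : ∀ a, Qd P j a → A ≤ Subgroup.normalizer (GP P j a : Set GL') := fun a ha g hg =>
        mem_normalizer_of_conjBy (GP_normal ha (hPS a ha hg))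
      have hGS : ∀ a, Qd P j a → GP P j a ≤ GS P j := fun a ha => GP_le fun b hb => Rg_le_GS (hb.qd ha)
      let F0 : Set (Subgroup GL') := {K | ∃ a, Qd P j a ∧ K = GP P j a}
      have hF0fin : F0.Finite := by
        refine ((parts_finite hs hp).image fun S => ⨆ B ∈ S, B).subset ?_
        rintro _ ⟨a, ha, rfl⟩
        exact ⟨part P j a, ⟨a, ha, rfl⟩, rfl⟩
      refine ⟨F0 ∪ F', hF0fin.union hfin, ?_, ?_, ?_⟩
      · rintro K (⟨a, ha, rfl⟩ | hK)
        · refine ⟨GP_le_self a, hnorm a ha,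
            GP_quasisimple hs hp ⟨hirr.1, hirr.2⟩ ha ((GP_le_self a).trans hPA) (hnorm a ha), ?_⟩
          refine le_antisymm ((Subgroup.closure_le _).2 fun σ hσ => hσ.1) (GP_le fun b hb g hg => ?_)
          by_cases hg1 : g = 1
          · rw [hg1]; exact one_mem _
          refine Subgroup.subset_closure ⟨Rg_le_GP hb hg, ⟨Rt_mul (mem_Rg.1 hg) (mem_Rg.1 hg),
            sub_ne_zero_of_ne_one hg1⟩, ?_⟩
          rintro τ ⟨c, hc⟩
          refine Rg_le_GP hb ?_
          rw [mem_Rg, hc, add_sub_cancel_left]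
          exact Submodule.smul_mem _ c (mem_Rg.1 hg)
        · obtain ⟨h1, h2', h3', h4⟩ := hF' K hK
          exact ⟨h1.trans (hP'le.trans inf_le_left), h2', h3', h4⟩
      · have hx : ∀ a, Qd P j a → ∀ K ∈ F', ⁅GP P j a, K⁆ = ⊥ := fun a ha K hK => by
          rw [Subgroup.commutator_eq_bot_iff_le_centralizer, Subgroup.le_centralizer_iff]
          exact ((hF' K hK).1.trans (hP'le.trans inf_le_right)).trans (Subgroup.centralizer_le (hGS a ha))
        rintro K (⟨a, ha, rfl⟩ | hK) K' (⟨b, hb, rfl⟩ | hK') hne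
        · exact GP_commute hs hp ha hb fun hc => hne (by rw [GP, GP, part_eq hc])
        · exact hx a ha K' hK'
        · rw [Subgroup.commutator_comm]; exact hx b hb K hK
        · exact hcomm' K hK K' hK' hne
      · intro x hx hx0 hm
        by_cases hin : ∃ a, Qd P j a ∧ InFam (GP P j a) x
        · obtain ⟨a, ha, h⟩ := hin
          exact ⟨_, Or.inl ⟨a, ha, rfl⟩, h⟩
        simp only [not_exists, not_and] at hin
        have hcen : InFam (P ⊓ C) x := fun c => by
          obtain ⟨g, hg, hgv⟩ := hm c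
          refine ⟨g, ⟨hg, ?_⟩, hgv⟩
          have hle : GS P j ≤ Subgroup.centralizer ({g} : Set GL') := iSup₂_le fun B ⟨b, hb, e⟩ => by
            subst e
            rcases in_or_cen hD h2 h3 hirr ((GP_le_self b).trans hPA) (hnorm b hb)
              (GP_quasi hs hp ⟨hirr.1, hirr.2⟩ hb ((GP_le_self b).trans hPA) (hnorm b hb)) _ rfl hx
              (hm.mono hPA) with h | h
            · exact absurd h (hin b hb)
            · obtain ⟨g', hg', hgv'⟩ := h c
              rw [show g = g' from Units.ext (hgv.trans hgv'.symm)]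
              intro f hf
              rw [Subgroup.mem_centralizer_singleton_iff]
              exact Subgroup.mem_centralizer_iff.1 hg'.2 f (Rg_le_GP Relation.ReflTransGen.refl hf)
          exact Subgroup.mem_centralizer_iff.2 fun f hf =>
            Subgroup.mem_centralizer_singleton_iff.1 (hle hf)
        have hq' : InFam P' x := inFam_of_quadratic' (hquad (quadratic_of hx hx0 hcen)) hx
        obtain ⟨K, hK, hKx⟩ := hcov' x hx hx0 hq'
        exact ⟨K, Or.inr hK, hKx⟩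
    · simp only [not_exists] at hex
      exact ih (j + 1) (by omega) P hPA hPn hPgen fun x hx hx0 hm =>
        Nat.lt_of_le_of_ne (hmin x hx hx0 hm) fun he => hex x ⟨hx, hx0, hm, he.symm⟩

/-- S5063 relative to the field theorem. -/
theorem central_product (hD : Dickson k) (hG : IsQuadraticPair G) (hk2 : ringChar k ≠ 2) (hk3 : Nat.card k ≠ 3) :
    ∃ (s : ℕ) (Gi : Fin s → Subgroup GL'),
      (∀ i, Gi i ≤ G ∧ ∀ g ∈ G, conjBy (Gi i) g = Gi i) ∧ (∀ i j, i ≠ j → ⁅Gi i, Gi j⁆ = ⊥) ∧ (⨆ i, Gi i) = G ∧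
      (∀ i, IsQuasisimple ↥(Gi i) ∧ Subgroup.closure (quadraticElements G ∩ (Gi i : Set GL')) = Gi i) ∧
      quadraticElements G ⊆ ⋃ i, (Gi i : Set GL') := by
  obtain ⟨F, hfin, hF, hcomm, hcov⟩ := factors hD (two_ne_of_ringChar hk2) hk3 hG.1 hG.2
    (Module.finrank k M + 1) 0 (by omega) G le_rfl Subgroup.le_normalizer hG.2 (fun _ _ _ _ => Nat.zero_le _)
  haveI := hfin.to_subtype
  obtain ⟨s, ⟨e⟩⟩ := Finite.exists_equiv_fin F
  have hmem : ∀ σ ∈ quadraticElements G, ∃ i, σ ∈ (e.symm i : Subgroup GL') := fun σ hσ => by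
    obtain ⟨hsq, hne, hm⟩ := quadratic_sub hσ
    obtain ⟨K, hK, hKx⟩ := hcov _ hsq hne hm
    obtain ⟨g, hg, hgv⟩ := hKx 1
    rw [one_smul, add_sub_cancel] at hgv
    refine ⟨e ⟨K, hK⟩, ?_⟩
    rw [Equiv.symm_apply_apply, ← Units.ext hgv]
    exact hg
  refine ⟨s, fun i => (e.symm i : Subgroup GL'), fun i => ?_, fun i j hij => ?_, ?_, fun i => ?_, ?_⟩
  · obtain ⟨h1, h2, -, -⟩ := hF _ (e.symm i).2
    refine ⟨h1, fun g hg => ?_⟩
    refine le_antisymm ?_ fun x hx => ⟨g⁻¹ * x * g, ?_, by simp [mul_assoc]⟩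
    · rintro _ ⟨x, hx, rfl⟩
      exact (Subgroup.mem_normalizer_iff.1 (h2 hg) x).1 hx
    · simpa using (Subgroup.mem_normalizer_iff.1 (h2 (inv_mem hg)) x).1 hx
  · exact hcomm _ (e.symm i).2 _ (e.symm j).2 fun h => hij (e.symm.injective (Subtype.ext h))
  · refine le_antisymm (iSup_le fun i => (hF _ (e.symm i).2).1) ?_
    conv_lhs => rw [← hG.2]
    refine (Subgroup.closure_le _).2 fun σ hσ => ?_
    obtain ⟨i, hi⟩ := hmem σ hσ
    exact le_iSup (fun i => (e.symm i : Subgroup GL')) i hi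
  · obtain ⟨h1, -, h3, h4⟩ := hF _ (e.symm i).2
    refine ⟨h3, le_antisymm ((Subgroup.closure_le _).2 Set.inter_subset_right) ?_⟩
    refine le_of_eq_of_le h4.symm ?_
    exact Subgroup.closure_mono fun σ hσ => ⟨quadratic_mono h1 hσ, hσ.1⟩
  · intro σ hσ
    obtain ⟨i, hi⟩ := hmem σ hσ
    exact Set.mem_iUnion.2 ⟨i, hi⟩

end Cfsg.Agent.Lead.QP
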